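import Mathlib
import Groth.Agent.SchBasics.Spread
import Groth.Agent.CAlg1.SerreNormal

/-!
A proper morphism, flat over a DVR and an isomorphism on generic fibres, is an isomorphism over
normal points of codimension one.
-/

set_option autoImplicit false
universe u

open AlgebraicGeometry CategoryTheory TopologicalSpace

namespace Groth.Agent.CAlg9.BirationalPoint

/-- elements of the stalk at a generization are fractions of elements of the stalk -/
theorem specializes_frac {X : Scheme.{u}} {y x : X} (h : y ⤳ x) :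
    (∀ k : X.presheaf.stalk y, ∃ a t : X.presheaf.stalk x, IsUnit (X.presheaf.stalkSpecializes h t) ∧
      k * X.presheaf.stalkSpecializes h t = X.presheaf.stalkSpecializes h a) ∧
    (∀ b : X.presheaf.stalk x, X.presheaf.stalkSpecializes h b = 0 →
      ∃ v : X.presheaf.stalk x, IsUnit (X.presheaf.stalkSpecializes h v) ∧ v * b = 0) := by
  obtain ⟨_, ⟨(U : X.Opens), hU, rfl⟩, (hx : x ∈ U), -⟩ :=
    X.isBasis_affineOpens.exists_subset_of_mem_open (Set.mem_univ x) isOpen_univ
  have hy : y ∈ U := h.mem_open U.2 hx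
  let := X.presheaf.algebra_section_stalk ⟨x, hx⟩
  let := X.presheaf.algebra_section_stalk ⟨y, hy⟩
  have := hU.isLocalization_stalk ⟨x, hx⟩
  have := hU.isLocalization_stalk ⟨y, hy⟩
  have hc : ∀ s, X.presheaf.stalkSpecializes h (algebraMap Γ(X, U) (X.presheaf.stalk x) s) =
      algebraMap Γ(X, U) (X.presheaf.stalk y) s := fun s =>
    X.presheaf.germ_stalkSpecializes_apply hx h s
  constructor
  · intro k
    obtain ⟨⟨a, t⟩, hk⟩ := IsLocalization.surj (hU.primeIdealOf ⟨y, hy⟩).asIdeal.primeCompl k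
    exact ⟨algebraMap _ _ a, algebraMap _ _ t.1, by rw [hc]; exact IsLocalization.map_units _ t,
      by rw [hc, hc]; exact hk⟩
  · intro b hb
    obtain ⟨⟨s, t⟩, hbs⟩ := IsLocalization.surj (hU.primeIdealOf ⟨x, hx⟩).asIdeal.primeCompl b
    have hs : algebraMap Γ(X, U) (X.presheaf.stalk y) s = 0 := by
      rw [← hc, ← hbs, map_mul, hb, zero_mul]
    obtain ⟨v, hv⟩ := (IsLocalization.map_eq_zero_iff (hU.primeIdealOf ⟨y, hy⟩).asIdeal.primeCompl _ _).1 hs
    refine ⟨algebraMap _ _ v.1, by rw [hc]; exact IsLocalization.map_units _ v, ?_⟩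
    refine (IsLocalization.map_units (X.presheaf.stalk x) t).mul_left_cancel ?_
    rw [mul_zero, mul_left_comm, mul_comm _ b, hbs, ← map_mul, hv, map_zero]

theorem isIso_stalkMap_of_restrict {X Y : Scheme.{u}} (g : X ⟶ Y) (D : Y.Opens) [IsIso (g ∣_ D)]
    (x : X) (hx : g x ∈ D) : IsIso (g.stalkMap x) :=
  ((MorphismProperty.isomorphisms CommRingCat).arrow_mk_iso_iff (morphismRestrictStalkMap g D ⟨x, hx⟩)).1
    ((fun w => inferInstance : ∀ w, IsIso ((g ∣_ D).stalkMap w)) ⟨x, hx⟩)

theorem eq_of_comp_eq {X Y T : Scheme.{u}} (g : X ⟶ Y) (D : Y.Opens) [IsIso (g ∣_ D)]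
    (a b : T ⟶ X) (h : a ≫ g = b ≫ g) (hr : ∀ t, (a ≫ g) t ∈ D) : a = b := by
  have ha : Set.range a ⊆ Set.range (g ⁻¹ᵁ D).ι := by
    rintro _ ⟨t, rfl⟩
    rw [Scheme.Opens.range_ι]
    exact hr t
  have hb : Set.range b ⊆ Set.range (g ⁻¹ᵁ D).ι := by
    rintro _ ⟨t, rfl⟩
    rw [Scheme.Opens.range_ι]
    show (b ≫ g) t ∈ D
    rw [← h]
    exact hr t
  have key : IsOpenImmersion.lift (g ⁻¹ᵁ D).ι a ha = IsOpenImmersion.lift (g ⁻¹ᵁ D).ι b hb := by
    rw [← cancel_mono (g ∣_ D), ← cancel_mono D.ι, Category.assoc, Category.assoc, morphismRestrict_ι,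
      IsOpenImmersion.lift_fac_assoc, IsOpenImmersion.lift_fac_assoc, h]
  rw [← IsOpenImmersion.lift_fac (g ⁻¹ᵁ D).ι a ha, key, IsOpenImmersion.lift_fac]

theorem injOn_of_restrict {X Y : Scheme.{u}} (g : X ⟶ Y) (D : Y.Opens) [IsIso (g ∣_ D)]
    {x x' : X} (hx : g x ∈ D) (h : g x = g x') : x = x' := by
  have hx' : g x' ∈ D := h ▸ hx
  have := (g ∣_ D).isOpenEmbedding.injective (a₁ := (⟨x, hx⟩ : (g ⁻¹ᵁ D).toScheme))
    (a₂ := (⟨x', hx'⟩ : (g ⁻¹ᵁ D).toScheme)) (Subtype.ext
      ((morphismRestrict_base_coe g D _).trans (h.trans (morphismRestrict_base_coe g D (⟨x', hx'⟩ : (g ⁻¹ᵁ D).toScheme)).symm)))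
  exact congrArg Subtype.val this

/-- the key local computation -/
theorem exists_nhd {C Z : Scheme.{u}} [IsLocallyNoetherian C] (g : Z ⟶ C) [IsProper g] (σ : Γ(C, ⊤))
    [IsIso (g ∣_ C.basicOpen σ)] (c : C) (hdom : IsDomain (C.presheaf.stalk c))
    (hnorm : IsIntegrallyClosed (C.presheaf.stalk c)) (hdim : ringKrullDim (C.presheaf.stalk c) = 1)
    (hσ0 : C.presheaf.germ ⊤ c trivial σ ≠ 0)
    (hreg : ∀ z, g z = c → IsSMulRegular (Z.presheaf.stalk z)
      (Z.presheaf.germ ⊤ z trivial (g.appTop σ))) :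
    ∃ V : C.Opens, c ∈ V ∧ IsIso (g ∣_ V) := by
  let D := C.basicOpen σ
  by_cases hcD : c ∈ D
  · exact ⟨D, hcD, inferInstanceAs (IsIso (g ∣_ C.basicOpen σ))⟩
  let A := C.presheaf.stalk c
  let a₀ : A := C.presheaf.germ ⊤ c trivial σ
  have ha₀ : ¬ IsUnit a₀ := fun h => hcD ((C.mem_basicOpen' σ ⟨c, trivial⟩).2 h)
  have hnf : ¬ IsField A := fun h => ha₀ (by
    obtain ⟨b, hb⟩ := h.mul_inv_cancel hσ0
    exact IsUnit.of_mul_eq_one b hb)
  have hdvr : IsDiscreteValuationRing A := by
    have h3 : IsIntegrallyClosed A ∧ ∃! P : Ideal A, P ≠ ⊥ ∧ P.IsPrime := by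
      refine ⟨hnorm, IsLocalRing.maximalIdeal A,
        ⟨fun hb => hnf (IsLocalRing.isField_iff_maximalIdeal_eq.mpr hb), (IsLocalRing.maximalIdeal.isMaximal A).isPrime⟩,
        fun P ⟨hP, hPp⟩ => ?_⟩
      have : Ring.KrullDimLE 1 A := Ring.krullDimLE_iff.mpr hdim.le
      exact IsLocalRing.eq_maximalIdeal (Ring.krullDimLE_one_iff_of_noZeroDivisors.mp this P hP hPp)
    exact ((IsDiscreteValuationRing.TFAE A hnf).out 0 3).mpr h3
  -- a point of `D` specializing to `c`
  obtain ⟨η, hηc, hηD, hηinj⟩ : ∃ (η : C) (h : η ⤳ c), η ∈ D ∧ Function.Injective (C.presheaf.stalkSpecializes h) := by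
    let η : C := C.fromSpecStalk c ⟨⊥, Ideal.isPrime_bot⟩
    have hη : η ⤳ c := by
      have : η ∈ Set.range (C.fromSpecStalk c) := ⟨_, rfl⟩
      rwa [Scheme.range_fromSpecStalk] at this
    have hclosed : C.fromSpecStalk c ((Spec.map (C.presheaf.stalkSpecializes hη)) (IsLocalRing.closedPoint _)) = η := by
      refine (Scheme.Hom.comp_apply (Spec.map (C.presheaf.stalkSpecializes hη)) (C.fromSpecStalk c) _).symm.trans ?_
      rw [Scheme.SpecMap_stalkSpecializes_fromSpecStalk]
      exact Scheme.fromSpecStalk_closedPoint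
    have hpt : (Spec.map (C.presheaf.stalkSpecializes hη)) (IsLocalRing.closedPoint _) =
        (⟨⊥, Ideal.isPrime_bot⟩ : PrimeSpectrum A) := (C.fromSpecStalk c).isEmbedding.injective hclosed
    have hker : ∀ x : A, ¬ IsUnit (C.presheaf.stalkSpecializes hη x) → x = 0 := fun x hx => by
      have : x ∈ ((Spec.map (C.presheaf.stalkSpecializes hη)) (IsLocalRing.closedPoint _)).asIdeal := hx
      rw [hpt] at this
      simpa using this
    refine ⟨η, hη, ?_, ?_⟩
    · refine (C.mem_basicOpen' σ ⟨η, trivial⟩).2 ?_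
      show IsUnit (C.presheaf.germ ⊤ η trivial σ)
      rw [← C.presheaf.germ_stalkSpecializes_apply (U := (⊤ : C.Opens)) trivial hη σ]
      by_contra h
      exact hσ0 (hker _ h)
    · rw [injective_iff_map_eq_zero]
      intro x hx
      exact hker x (by rw [hx]; exact not_isUnit_zero)
  -- stalk maps over `c`
  have hiso : ∀ z, g z = c → IsIso (g.stalkMap z) := by
    intro z hz
    subst hz
    let B := Z.presheaf.stalk z
    let b₀ : B := Z.presheaf.germ ⊤ z trivial (g.appTop σ)
    have hb₀ : g.stalkMap z a₀ = b₀ := Scheme.Hom.germ_stalkMap_apply g ⊤ z trivial σ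
    have hb₀reg : IsSMulRegular B b₀ := hreg z rfl
    have hnil : ¬ IsNilpotent b₀ := fun ⟨n, hn⟩ =>
      one_ne_zero ((hb₀reg.pow n) (show b₀ ^ n • (1 : B) = b₀ ^ n • 0 by rw [hn]; simp))
    obtain ⟨q, hq⟩ : ∃ q : PrimeSpectrum B, b₀ ∉ q.asIdeal := by
      by_contra! h
      exact hnil ((mem_nilradical).1 (by
        rw [nilradical_eq_sInf]
        exact Ideal.mem_sInf.2 fun {J} hJ => h ⟨J, hJ⟩))
    have hspec : ∀ q : PrimeSpectrum B, Z.fromSpecStalk z q ⤳ z := fun q => by
      have : Z.fromSpecStalk z q ∈ Set.range (Z.fromSpecStalk z) := ⟨_, rfl⟩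
      rwa [Scheme.range_fromSpecStalk] at this
    have hunit : ∀ (q : PrimeSpectrum B) (x : B),
        IsUnit (Z.presheaf.stalkSpecializes (hspec q) x) ↔ x ∉ q.asIdeal := by
      intro q x
      have hclosed : Z.fromSpecStalk z ((Spec.map (Z.presheaf.stalkSpecializes (hspec q))) (IsLocalRing.closedPoint _)) =
          Z.fromSpecStalk z q := by
        refine (Scheme.Hom.comp_apply (Spec.map (Z.presheaf.stalkSpecializes (hspec q))) (Z.fromSpecStalk z) _).symm.trans ?_
        rw [Scheme.SpecMap_stalkSpecializes_fromSpecStalk]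
        exact Scheme.fromSpecStalk_closedPoint
      have hpt := (Z.fromSpecStalk z).isEmbedding.injective hclosed
      refine Iff.trans ?_ (not_congr (Iff.of_eq (congrArg (fun p : PrimeSpectrum B => x ∈ p.asIdeal) hpt)))
      show _ ↔ ¬ (Z.presheaf.stalkSpecializes (hspec q) x ∈ IsLocalRing.maximalIdeal _)
      rw [IsLocalRing.mem_maximalIdeal, mem_nonunits_iff, not_not]
    have hD : ∀ q : PrimeSpectrum B, b₀ ∉ q.asIdeal → g (Z.fromSpecStalk z q) = η := by
      intro q hq
      have h1 : g (Z.fromSpecStalk z q) ⤳ g z := (hspec q).map g.continuous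
      obtain ⟨p, hp⟩ : g (Z.fromSpecStalk z q) ∈ Set.range (C.fromSpecStalk (g z)) := by
        rw [Scheme.range_fromSpecStalk]; exact h1
      have hmem : g (Z.fromSpecStalk z q) ∈ D := by
        show Z.fromSpecStalk z q ∈ g ⁻¹ᵁ C.basicOpen σ
        rw [Scheme.preimage_basicOpen_top]
        refine (Scheme.mem_basicOpen_top _ _ _).2 ?_
        show IsUnit (Z.presheaf.germ ⊤ (Z.fromSpecStalk z q) trivial (g.appTop σ))
        rw [← Z.presheaf.germ_stalkSpecializes_apply (U := (⊤ : Z.Opens)) trivial (hspec q)]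
        exact (hunit q b₀).2 hq
      obtain ⟨p', hp'⟩ : η ∈ Set.range (C.fromSpecStalk (g z)) := by rw [Scheme.range_fromSpecStalk]; exact hηc
      -- both are the generic point of the stalk
      have key : ∀ p : PrimeSpectrum A, C.fromSpecStalk (g z) p ∈ D → p.asIdeal = ⊥ := by
        intro p hpD
        by_contra hp0
        have : Ring.KrullDimLE 1 A := Ring.krullDimLE_iff.mpr hdim.le
        have hm := IsLocalRing.eq_maximalIdeal (Ring.krullDimLE_one_iff_of_noZeroDivisors.mp this p.asIdeal hp0 p.2)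
        apply hcD
        have : p = IsLocalRing.closedPoint A := PrimeSpectrum.ext hm
        rwa [this, Scheme.fromSpecStalk_closedPoint] at hpD
      rw [← hp, ← hp']
      congr 1
      exact PrimeSpectrum.ext ((key p (hp ▸ hmem)).trans (key p' (hp' ▸ hηD)).symm)
    have huniq : ∀ q' : PrimeSpectrum B, b₀ ∉ q'.asIdeal → q' = q := by
      intro q' hq'
      apply (Z.fromSpecStalk z).isEmbedding.injective
      exact injOn_of_restrict g D (by rw [hD q' hq']; exact hηD) ((hD q' hq').trans (hD q hq).symm)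
    let y := Z.fromSpecStalk z q
    let sp : Z.presheaf.stalk z ⟶ Z.presheaf.stalk y := Z.presheaf.stalkSpecializes (hspec q)
    have hgy : g y = η := hD q hq
    have hyiso : IsIso (g.stalkMap y) := isIso_stalkMap_of_restrict g D y (hgy ▸ hηD)
    have hgyc : g y ⤳ g z := (hspec q).map g.continuous
    have hcomm : ∀ x : A, g.stalkMap y (C.presheaf.stalkSpecializes hgyc x) = sp (g.stalkMap z x) := fun x =>
      Scheme.Hom.stalkSpecializes_stalkMap_apply g _ _ (hspec q) x
    have hinjB : Function.Injective sp := by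
      rw [injective_iff_map_eq_zero]
      intro b hb
      obtain ⟨v, hv, hvb⟩ := (specializes_frac (hspec q)).2 b hb
      let J : Ideal B := (Submodule.span B {b}).annihilator
      have hvJ : v ∈ J := by
        rw [Submodule.mem_annihilator_span_singleton, smul_eq_mul, hvb]
      have hrad : b₀ ∈ J.radical := by
        rw [Ideal.radical_eq_sInf, Ideal.mem_sInf]
        rintro P ⟨hJP, hP⟩
        by_contra hbP
        have := huniq ⟨P, hP⟩ hbP
        exact (hunit q v).1 hv (by rw [← this]; exact hJP hvJ)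
      obtain ⟨n, hn⟩ := hrad
      rw [Submodule.mem_annihilator_span_singleton, smul_eq_mul] at hn
      exact (hb₀reg.pow n) (show b₀ ^ n • b = b₀ ^ n • 0 by rw [smul_zero, smul_eq_mul, hn])
    have hinjA : Function.Injective (g.stalkMap z) := by
      intro x x' h
      have h1 : C.presheaf.stalkSpecializes hgyc x = C.presheaf.stalkSpecializes hgyc x' :=
        (ConcreteCategory.bijective_of_isIso (g.stalkMap y)).1 (by rw [hcomm, hcomm, h])
      revert h1
      have : ∀ (η' : C) (he : η' = η) (h' : η' ⤳ g z),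
          Function.Injective (C.presheaf.stalkSpecializes h') := by
        intro η' he h'; subst he; exact hηinj
      exact fun h1 => this _ hgy hgyc h1
    refine (ConcreteCategory.isIso_iff_bijective _).mpr ⟨hinjA, fun b => ?_⟩
    obtain ⟨k, hk⟩ := (ConcreteCategory.bijective_of_isIso (g.stalkMap y)).2 (sp b)
    obtain ⟨a, t, ht, hat⟩ := (specializes_frac hgyc).1 k
    have hrel : g.stalkMap z t * b = g.stalkMap z a := by
      apply hinjB
      rw [map_mul, ← hcomm, ← hcomm, ← hat, map_mul, hk, mul_comm]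
    rcases ValuationRing.dvd_total t a with ⟨d, rfl⟩ | ⟨d, rfl⟩
    · refine ⟨d, hinjB ?_⟩
      refine (ht.map (g.stalkMap y).hom).mul_left_cancel ?_
      show g.stalkMap y (C.presheaf.stalkSpecializes hgyc t) * _ = g.stalkMap y (C.presheaf.stalkSpecializes hgyc t) * _
      rw [hcomm, ← map_mul, ← map_mul, ← map_mul, hrel]
    · by_cases hd : IsUnit d
      · refine ⟨hd.unit⁻¹.1, ?_⟩
        have hda : IsUnit (sp (g.stalkMap z a)) := by
          rw [map_mul] at ht
          rw [← hcomm]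
          exact (isUnit_of_mul_isUnit_left ht).map (g.stalkMap y).hom
        apply hinjB
        refine ((hd.map (g.stalkMap z).hom).map sp.hom).mul_left_cancel (hda.mul_left_cancel ?_)
        show sp (g.stalkMap z a) * (sp (g.stalkMap z d) * sp _) = sp (g.stalkMap z a) * (sp (g.stalkMap z d) * sp b)
        simp only [← map_mul sp.hom, ← mul_assoc, ← map_mul (g.stalkMap z).hom]
        rw [mul_assoc a, IsUnit.mul_val_inv, mul_one, hrel]
      · exfalso
        have hu : IsUnit (g.stalkMap z d * b - 1) := by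
          rcases IsLocalRing.isUnit_or_isUnit_of_add_one
            (show g.stalkMap z d * b + (1 - g.stalkMap z d * b) = 1 by ring) with h | h
          · exact absurd (IsUnit.of_map (g.stalkMap z).hom d (isUnit_of_mul_isUnit_left h)) hd
          · rw [← neg_sub]; exact h.neg
        have h0 : g.stalkMap z a * (g.stalkMap z d * b - 1) = 0 := by
          rw [mul_sub, mul_one, ← mul_assoc, ← map_mul, hrel, sub_self]
        have ha : a = 0 := hinjA (by rw [map_zero]; exact hu.mul_left_eq_zero.1 h0)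
        rw [ha, zero_mul, map_zero] at ht
        exact not_isUnit_zero ht
  -- the fibre over `c`
  obtain ⟨z₀, hz₀⟩ : c ∈ Set.range g := by
    obtain ⟨y, hy⟩ : η ∈ Set.range g := by
      obtain ⟨y, hy⟩ := (g ∣_ D).homeomorph.surjective ⟨η, hηD⟩
      exact ⟨y.1, (morphismRestrict_base_coe g D y).symm.trans (congrArg Subtype.val hy)⟩
    have hcl : IsClosed (Set.range g) := g.isClosedMap.isClosed_range
    exact hηc.mem_closed hcl ⟨y, hy⟩
  subst hz₀
  have hz₀iso := hiso z₀ rfl
  have huz : ∀ z, g z = g z₀ → z = z₀ := by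
    intro z hz
    have hziso := hiso z hz
    let l : ∀ z', g z' = g z₀ → IsIso (g.stalkMap z') → (Spec A ⟶ Z) := fun z' h _ =>
      Spec.map (C.presheaf.stalkCongr (.of_eq h)).hom ≫ Spec.map (inv (g.stalkMap z')) ≫ Z.fromSpecStalk z'
    have hl : ∀ z' h h', l z' h h' ≫ g = C.fromSpecStalk (g z₀) ∧ l z' h h' (IsLocalRing.closedPoint A) = z' := by
      intro z' h h'
      constructor
      · simp only [l, Category.assoc]
        rw [← Scheme.SpecMap_stalkMap_fromSpecStalk, ← Category.assoc (Spec.map (inv _)), ← Spec.map_comp,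
          IsIso.hom_inv_id, Spec.map_id, Category.id_comp]
        exact Scheme.SpecMap_stalkSpecializes_fromSpecStalk (Inseparable.of_eq h).ge
      · show Z.fromSpecStalk z' (Spec.map (inv (g.stalkMap z'))
          (Spec.map (C.presheaf.stalkCongr (.of_eq h)).hom (IsLocalRing.closedPoint A))) = z'
        exact (congrArg _ ((congrArg _ Spec_closedPoint).trans Spec_closedPoint)).trans Scheme.fromSpecStalk_closedPoint
    obtain ⟨h1, h1'⟩ := hl z hz hziso
    obtain ⟨h2, h2'⟩ := hl z₀ rfl hz₀iso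
    have : IsReduced (Spec A) := inferInstance
    have heq : l z hz hziso = l z₀ rfl hz₀iso := by
      have hdom' : IsDominant (Spec.map (C.presheaf.stalkSpecializes hηc)) :=
        ⟨(PrimeSpectrum.denseRange_comap_iff_ker_le_nilRadical _).2 (by
          rw [(RingHom.injective_iff_ker_eq_bot _).1 hηinj]; exact bot_le)⟩
      refine ext_of_isDominant_of_isSeparated g (h1.trans h2.symm) (Spec.map (C.presheaf.stalkSpecializes hηc)) ?_
      refine eq_of_comp_eq g D _ _ ((Category.assoc _ _ _).trans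
        ((congrArg (Spec.map (C.presheaf.stalkSpecializes hηc) ≫ ·) (h1.trans h2.symm)).trans (Category.assoc _ _ _).symm)) fun t => ?_
      rw [show (Spec.map (C.presheaf.stalkSpecializes hηc) ≫ l z hz hziso) ≫ g =
          Spec.map (C.presheaf.stalkSpecializes hηc) ≫ C.fromSpecStalk (g z₀) from
        (Category.assoc _ _ _).trans (congrArg (Spec.map (C.presheaf.stalkSpecializes hηc) ≫ ·) h1),
        Scheme.SpecMap_stalkSpecializes_fromSpecStalk]
      have ht : C.fromSpecStalk η t ⤳ η := by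
        have : C.fromSpecStalk η t ∈ Set.range (C.fromSpecStalk η) := ⟨_, rfl⟩
        rwa [Scheme.range_fromSpecStalk] at this
      exact ht.mem_open D.2 hηD
    exact h1'.symm.trans ((congrArg (fun m : Spec A ⟶ Z => m (IsLocalRing.closedPoint A)) heq).trans h2')
  -- spreading out
  obtain ⟨U, hU, hUo⟩ := SchBasics.exists_isOpenImmersion_of_isIso_stalkMap g z₀
  let V : C.Opens := ⟨(g '' (U : Set Z)ᶜ)ᶜ ∩ Set.range (U.ι ≫ g),
    (g.isClosedMap _ U.2.isClosed_compl).isOpen_compl.inter (U.ι ≫ g).isOpenEmbedding.isOpen_range⟩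
  refine ⟨V, ⟨?_, ⟨⟨z₀, hU⟩, rfl⟩⟩, ?_⟩
  · rintro ⟨z, hz, hzc⟩
    exact hz (huz z hzc ▸ hU)
  · have hle : g ⁻¹ᵁ V ≤ U := fun z hz => by
      by_contra h
      exact hz.1 ⟨z, h, rfl⟩
    have hcomp : (g ∣_ V) ≫ V.ι = Z.homOfLE hle ≫ (U.ι ≫ g) := by
      rw [morphismRestrict_ι, Scheme.homOfLE_ι_assoc]
    have : IsOpenImmersion ((g ∣_ V) ≫ V.ι) := hcomp ▸ inferInstance
    have : IsOpenImmersion (g ∣_ V) := IsOpenImmersion.of_comp _ V.ι
    have : Surjective (g ∣_ V) := ⟨fun ⟨v, hv⟩ => by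
      obtain ⟨⟨z, hzU⟩, rfl⟩ := hv.2
      exact ⟨⟨z, hv⟩, Subtype.ext (morphismRestrict_base_coe g V ⟨z, hv⟩)⟩⟩
    exact (isIso_iff_isOpenImmersion_and_surjective (g ∣_ V)).2 ⟨inferInstance, inferInstance⟩

theorem isSMulRegular_germ_of_flat {R : CommRingCat.{u}} [IsDomain R] {X : Scheme.{u}} (h : X ⟶ Spec R) [Flat h]
    (r : R) (hr : r ≠ 0) (x : X) :
    IsSMulRegular (X.presheaf.stalk x) (X.presheaf.germ ⊤ x trivial (h.appTop ((Scheme.ΓSpecIso R).inv r))) := by
  let e := (Spec R).presheaf.germ ⊤ (h x) trivial ((Scheme.ΓSpecIso R).inv r)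
  have he : e ≠ 0 := fun h0 => by
    have h1 : (Scheme.ΓSpecIso R).inv r = 0 := germ_injective_of_isIntegral (Spec R) (U := ⊤) (h x) trivial (h0.trans (map_zero _).symm)
    apply hr
    exact (ConcreteCategory.bijective_of_isIso (Scheme.ΓSpecIso R).inv).1 (h1.trans (map_zero _).symm)
  let := (h.stalkMap x).hom.toAlgebra
  have : Module.Flat ((Spec R).presheaf.stalk (h x)) (X.presheaf.stalk x) := Flat.stalkMap h x
  have hreg : IsSMulRegular ((Spec R).presheaf.stalk (h x)) e := fun a b hab => mul_left_cancel₀ he hab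
  have := IsSMulRegular.of_flat (S := X.presheaf.stalk x) hreg
  rwa [show algebraMap ((Spec R).presheaf.stalk (h x)) (X.presheaf.stalk x) e =
    X.presheaf.germ ⊤ x trivial (h.appTop ((Scheme.ΓSpecIso R).inv r)) from
      Scheme.Hom.germ_stalkMap_apply h ⊤ x trivial _] at this

theorem main {R : CommRingCat.{u}} [IsDomain R] [IsNoetherianRing R] {C Z : Scheme.{u}}
    (πC : C ⟶ Spec R) [Flat πC] [LocallyOfFiniteType πC] (g : Z ⟶ C) [IsProper g] [Flat (g ≫ πC)]
    (r : R) (hr : r ≠ 0) (hgen : IsIso (g ∣_ (πC ⁻¹ᵁ (PrimeSpectrum.basicOpen r))))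
    (c : C) (hdom : IsDomain (C.presheaf.stalk c)) (hnorm : IsIntegrallyClosed (C.presheaf.stalk c))
    (hdim : ringKrullDim (C.presheaf.stalk c) = 1) :
    ∃ V : C.Opens, c ∈ V ∧ IsIso (g ∣_ V) := by
  have : IsLocallyNoetherian C := LocallyOfFiniteType.isLocallyNoetherian πC
  let σ : Γ(C, ⊤) := πC.appTop ((Scheme.ΓSpecIso R).inv r)
  have hD : πC ⁻¹ᵁ (PrimeSpectrum.basicOpen r) = C.basicOpen σ := by
    rw [← basicOpen_eq_of_affine r, Scheme.preimage_basicOpen_top]
  rw [hD] at hgen
  refine exists_nhd g σ c hdom hnorm hdim ?_ fun z _ => ?_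
  · intro h0
    have := isSMulRegular_germ_of_flat πC r hr c
    exact one_ne_zero (this (show C.presheaf.germ ⊤ c trivial σ • (1 : C.presheaf.stalk c) =
      C.presheaf.germ ⊤ c trivial σ • 0 by rw [h0]; simp))
  · exact isSMulRegular_germ_of_flat (g ≫ πC) r hr z

end Groth.Agent.CAlg9.BirationalPoint
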