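import Groth.Agent.CAlg9.FibreDepthAlg
import Groth.Agent.LC15.DepthFlat
import Groth.Agent.LC15.Cd
import Groth.Agent.LC17.DepthLoc
import Mathlib.RingTheory.RingHom.Flat

/-!
Ideal depth of fibre modules: openness and base change.
-/

set_option autoImplicit false
set_option linter.style.haveILetI false
universe u

open IsLocalRing RingTheory.Sequence TensorProduct

namespace Groth.Agent.CAlg9.FibreDepth

attribute [local instance] Algebra.TensorProduct.rightAlgebra

open Groth.Agent.Fib62

theorem length_le_idealDepth {R : Type u} [CommRing R] (I : Ideal R) {N : Type u} [AddCommGroup N] [Module R N]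
    {rs : List R} (h : IsWeaklyRegular N rs) (hm : ∀ r ∈ rs, r ∈ I) :
    (rs.length : ℕ∞) ≤ LocCoh.idealDepth I N := by
  rw [LocCoh.idealDepth]
  split_ifs
  · exact le_top
  · exact le_iSup₂ (f := fun (rs : List R) _ => ((rs.length : ℕ) : ℕ∞)) rs ⟨h, hm⟩

theorem idealDepth_eq_top_of_card_lt {R : Type u} [CommRing R] [IsNoetherianRing R] (s : Finset R)
    {N : Type u} [AddCommGroup N] [Module R N] [Module.Finite R N]
    (h : ((s.card + 1 : ℕ) : ℕ∞) ≤ LocCoh.idealDepth (Ideal.span (s : Set R)) N) :
    LocCoh.idealDepth (Ideal.span (s : Set R)) N = ⊤ := by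
  refine ENat.eq_top_iff_forall_ge.2 fun n => ?_
  rw [LC17.natCast_le_idealDepth_iff] at h ⊢
  intro i _
  by_cases hi : i < s.card + 1
  · exact h i hi
  · exact LC15.cdLE_span_finset s N i (by omega)

theorem idealDepth_congr_zeroLocus {R : Type u} [CommRing R] [IsNoetherianRing R] {I J : Ideal R}
    {N : Type u} [AddCommGroup N] [Module R N] [Module.Finite R N]
    (h : ∀ q : PrimeSpectrum R, I ≤ q.asIdeal ↔ J ≤ q.asIdeal) :
    LocCoh.idealDepth I N = LocCoh.idealDepth J N := by
  rw [LC17.idealDepth_eq_iInf, LC17.idealDepth_eq_iInf]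
  exact iInf_congr fun q => by rw [h q]

theorem exists_list_alg {C O L : Type u} [CommRing C] [CommRing O] [CommRing L] [IsLocalRing L] [Algebra C O]
    [Algebra C L] (P : Ideal C) [P.IsPrime] [IsLocalization.AtPrime O P] (τ : O →ₐ[C] L) (hτ : Function.Surjective τ)
    (J : Ideal C) (hJ : J ≤ P) {N : Type u} [AddCommGroup N] [Module C N] [Module L N] [IsScalarTower C L N]
    [Module.Finite L N] (n : ℕ) (h : (n : ℕ∞) ≤ LocCoh.idealDepth (J.map (algebraMap C L)) N) :
    ∃ gs : List C, gs.length = n ∧ (∀ g ∈ gs, g ∈ J) ∧ IsWeaklyRegular N gs := by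
  haveI : IsLocalRing O := IsLocalization.AtPrime.isLocalRing O P
  haveI : IsLocalHom τ.toRingHom := IsLocalHom.of_surjective τ.toRingHom hτ
  have hτc : τ.toRingHom.comp (algebraMap C O) = algebraMap C L := RingHom.ext τ.commutes
  obtain ⟨gs, hlen, hmem, hreg⟩ := exists_list_of_le_idealDepth (C := C) (L := L) (algebraMap C L) J
    (Ideal.map_le_iff_le_comap.2 fun c hc => by
      rw [Ideal.mem_comap, ← hτc, RingHom.comp_apply, mem_maximalIdeal, mem_nonunits_iff]
      intro hu
      exact (mem_nonunits_iff.1 ((mem_maximalIdeal _).1 ((IsLocalization.AtPrime.to_map_mem_maximal_iff O P c).2 (hJ hc))))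
        (IsLocalHom.map_nonunit _ hu))
    (fun r hr => by
      obtain ⟨c, hc, hcr⟩ := associated_of_mem_map P.primeCompl τ.toRingHom hτ J (r := r) (by rwa [hτc])
      exact ⟨c, hc, by simpa using hcr⟩)
    (N := N) n h
  exact ⟨gs, hlen, hmem, (isWeaklyRegular_map_algebraMap_iff (S := L) (M := N) gs).1 hreg⟩

section
variable {A C : Type u} [CommRing A] [CommRing C] [Algebra A C]

variable (A) in
/-- The depth of the fibre module at `P` along the closed set of `J`. -/
noncomputable def fdepth (M : Type u) [AddCommGroup M] [Module C M] (J : Ideal C) (P : PrimeSpectrum C) : ℕ∞ :=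
  LocCoh.idealDepth (J.map (algebraMap C (FibreLocal A P))) (FibreLocal A P ⊗[C] M)

theorem fibreLocal_noetherian [Algebra.FiniteType A C] (P : PrimeSpectrum C) : IsNoetherianRing (FibreLocal A P) := by
  let p := P.asIdeal.under A
  haveI : IsNoetherianRing (p.Fiber C) := Algebra.FiniteType.isNoetherianRing p.ResidueField (p.Fiber C)
  exact IsLocalization.isNoetherianRing (fibrePoint (A := A) P).asIdeal.primeCompl _ inferInstance

variable (M : Type u) [AddCommGroup M] [Module C M]

theorem natCast_le_fdepth_of_list (J : Ideal C) (P : PrimeSpectrum C) (gs : List C) (hmem : ∀ g ∈ gs, g ∈ J)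
    (h : IsWeaklyRegular (FibreLocal A P ⊗[C] M) gs) : (gs.length : ℕ∞) ≤ fdepth A M J P := by
  have h1 := length_le_idealDepth (J.map (algebraMap C (FibreLocal A P)))
    ((isWeaklyRegular_map_algebraMap_iff (S := FibreLocal A P) (M := FibreLocal A P ⊗[C] M) gs).2 h)
    (by intro r hr
        obtain ⟨g, hg, rfl⟩ := List.mem_map.1 hr
        exact Ideal.mem_map_of_mem _ (hmem g hg))
  rw [List.length_map] at h1
  exact h1

theorem exists_list_of_le_fdepth [Module.Finite C M] (J : Ideal C) (P : PrimeSpectrum C) (hJ : J ≤ P.asIdeal) (n : ℕ)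
    (h : (n : ℕ∞) ≤ fdepth A M J P) :
    ∃ gs : List C, gs.length = n ∧ (∀ g ∈ gs, g ∈ J) ∧ IsWeaklyRegular (FibreLocal A P ⊗[C] M) gs := by
  obtain ⟨τ, hτ, -⟩ := exists_surjective_fibreLocal (A := A) P
  exact exists_list_alg P.asIdeal τ hτ J hJ n h

theorem flat_tensor_of_flat {L : Type u} [AddCommGroup L] [Module C L] [Module A L] [IsScalarTower A C L]
    [Module.Flat C L] [Module A M] [IsScalarTower A C M] [Module.Flat A M] : Module.Flat A (L ⊗[C] M) := by
  rw [Module.Flat.iff_lTensor_preserves_injective_linearMap]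
  intro P Q _ _ _ _ u hu
  let v := AlgebraTensorModule.lTensor C M u
  have h1 : Function.Injective v := Module.Flat.lTensor_preserves_injective_linearMap (M := M) u hu
  have h2 : Function.Injective (v.lTensor L) := Module.Flat.lTensor_preserves_injective_linearMap (M := L) v h1
  let eP := AlgebraTensorModule.assoc A C C L M P
  let eQ := AlgebraTensorModule.assoc A C C L M Q
  have key : ∀ t, eQ (u.lTensor (L ⊗[C] M) t) = v.lTensor L (eP t) := by
    intro t
    induction t with
    | zero => simp
    | add a b ha hb => simp only [map_add, ha, hb]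
    | tmul lm p =>
      induction lm with
      | zero => simp
      | add a b ha hb => simp only [TensorProduct.add_tmul, map_add, ha, hb]
      | tmul l m => simp [eP, eQ, v]
  intro a b hab
  exact eP.injective (h2 (by rw [← key, ← key, hab]))

theorem exists_isOpen_fdepth [Algebra.FinitePresentation A C] [Module A M] [IsScalarTower A C M]
    [Module.FinitePresentation C M] [Module.Flat A M] (J : Ideal C) (n : ℕ) :
    ∃ W : Set (PrimeSpectrum C), IsOpen W ∧ ∀ P : PrimeSpectrum C, J ≤ P.asIdeal →
      (P ∈ W ↔ (n : ℕ∞) ≤ fdepth A M J P) := by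
  refine ⟨⋃ gs : {gs : List C // gs.length = n ∧ ∀ g ∈ gs, g ∈ J},
    {P : PrimeSpectrum C | Module.Flat A (Localization.AtPrime P.asIdeal ⊗[C] M) ∧
      IsWeaklyRegular (FibreLocal A P ⊗[C] M) gs.1}, isOpen_iUnion fun gs => isOpen_weaklyRegular_fibre gs.1 M, ?_⟩
  intro P hP
  rw [Set.mem_iUnion]
  constructor
  · rintro ⟨⟨gs, hlen, hmem⟩, -, hreg⟩
    exact hlen ▸ natCast_le_fdepth_of_list M J P gs hmem hreg
  · intro h
    obtain ⟨gs, hlen, hmem, hreg⟩ := exists_list_of_le_fdepth M J P hP n h
    exact ⟨⟨gs, hlen, hmem⟩, (haveI : Module.Flat C (Localization.AtPrime P.asIdeal) := IsLocalization.flat _ P.asIdeal.primeCompl; flat_tensor_of_flat M), hreg⟩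

theorem fdepth_congr_zeroLocus [Algebra.FiniteType A C] [Module.Finite C M] {I J : Ideal C}
    (h : ∀ q : PrimeSpectrum C, I ≤ q.asIdeal ↔ J ≤ q.asIdeal) (P : PrimeSpectrum C) :
    fdepth A M I P = fdepth A M J P := by
  haveI := fibreLocal_noetherian (A := A) P
  refine idealDepth_congr_zeroLocus fun q => ?_
  rw [Ideal.map_le_iff_le_comap, Ideal.map_le_iff_le_comap]
  exact h ⟨q.asIdeal.comap (algebraMap C (FibreLocal A P)), inferInstance⟩

theorem fdepth_eq_top_of_card_lt [Algebra.FiniteType A C] [Module.Finite C M] (s : Finset C) (P : PrimeSpectrum C)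
    (h : ((s.card + 1 : ℕ) : ℕ∞) ≤ fdepth A M (Ideal.span (s : Set C)) P) :
    fdepth A M (Ideal.span (s : Set C)) P = ⊤ := by
  classical
  haveI := fibreLocal_noetherian (A := A) P
  unfold fdepth at h ⊢
  rw [Ideal.map_span, ← Finset.coe_image] at h ⊢
  refine idealDepth_eq_top_of_card_lt _ (le_trans ?_ h)
  exact_mod_cast Nat.add_le_add_right Finset.card_image_le 1

end

section BaseChange

variable {A A' B B' : Type u} [CommRing A] [CommRing A'] [CommRing B] [CommRing B'] [Algebra A B] [Algebra A' B']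
  [Algebra A A'] [Algebra B B'] [Algebra A B'] [IsScalarTower A B B'] [IsScalarTower A A' B']
  [Algebra.IsPushout A B A' B']

set_option maxHeartbeats 1000000 in
theorem exists_flat_fibreLocalHom (P' : PrimeSpectrum B') :
    ∃ _ : Algebra (FibreLocal A (PrimeSpectrum.comap (algebraMap B B') P')) (FibreLocal A' P'),
      IsLocalHom (algebraMap (FibreLocal A (PrimeSpectrum.comap (algebraMap B B') P')) (FibreLocal A' P')) ∧
      Module.Flat (FibreLocal A (PrimeSpectrum.comap (algebraMap B B') P')) (FibreLocal A' P') ∧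
      ∀ b : B, algebraMap (FibreLocal A (PrimeSpectrum.comap (algebraMap B B') P')) (FibreLocal A' P')
        (algebraMap B _ b) = algebraMap B' _ (algebraMap B B' b) := by
  let P : PrimeSpectrum B := PrimeSpectrum.comap (algebraMap B B') P'
  let p' := P'.asIdeal.under A'
  let p := P.asIdeal.under A
  have hp : p = p'.comap (algebraMap A A') := by
    show ((P'.asIdeal.comap (algebraMap B B')).comap (algebraMap A B)) = (P'.asIdeal.comap (algebraMap A' B')).comap _
    simp only [Ideal.comap_comap, ← IsScalarTower.algebraMap_eq]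
  haveI : Algebra.IsPushout A A' B B' := Algebra.IsPushout.symm inferInstance
  let ι : p.ResidueField →ₐ[A] p'.ResidueField := Ideal.ResidueField.mapₐ p p' (Algebra.ofId A A') hp
  have hι : ι.toRingHom.Flat := RingHom.Flat.of_isField (Field.toIsField _) _
  let e : p'.ResidueField ⊗[A] B ≃ₐ[A'] p'.Fiber B' :=
    (Algebra.TensorProduct.cancelBaseChange A A' A' p'.ResidueField B).symm.trans
      (Algebra.TensorProduct.congr (AlgEquiv.refl) (Algebra.IsPushout.equiv A A' B B'))
  let m := Algebra.TensorProduct.map ι (AlgHom.id A B)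
  let φ : p.Fiber B →+* p'.Fiber B' := e.toRingEquiv.toRingHom.comp m.toRingHom
  have hφf : φ.Flat :=
    RingHom.Flat.comp (RingHom.Flat.tensorProductMap hι (RingHom.Flat.id B)) (RingHom.Flat.of_bijective e.bijective)
  have hφ1 : ∀ b : B, φ (1 ⊗ₜ[A] b) = 1 ⊗ₜ[A'] algebraMap B B' b := fun b => by
    simp [φ, m, e, Algebra.IsPushout.equiv_tmul]
  let Q' := fibrePoint (A := A') P'
  let Q := fibrePoint (A := A) P
  have hQ : Q.asIdeal = Q'.asIdeal.comap φ := by
    have hc : (Q'.asIdeal.comap φ).comap (algebraMap B (p.Fiber B)) = P.asIdeal := by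
      ext b
      rw [Ideal.mem_comap, Ideal.mem_comap, show algebraMap B (p.Fiber B) b = (1 : p.ResidueField) ⊗ₜ[A] b from rfl,
        hφ1]
      exact SetLike.ext_iff.mp (comap_fibrePoint (A := A') P') (algebraMap B B' b)
    have : Q = (⟨Q'.asIdeal.comap φ, inferInstance⟩ : PrimeSpectrum (p.Fiber B)) := by
      apply (PrimeSpectrum.preimageEquivFiber A B ⟨p, inferInstance⟩).symm.injective
      apply Subtype.ext
      apply PrimeSpectrum.ext
      exact (comap_fibrePoint P).trans hc.symm
    exact congrArg PrimeSpectrum.asIdeal this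
  refine ⟨(Localization.localRingHom Q.asIdeal Q'.asIdeal φ hQ).toAlgebra, Localization.isLocalHom_localRingHom _ _ _ hQ,
    RingHom.Flat.localRingHom hφf Q'.asIdeal Q.asIdeal hQ, fun b => ?_⟩
  show Localization.localRingHom Q.asIdeal Q'.asIdeal φ hQ _ = _
  rw [IsScalarTower.algebraMap_apply B (p.Fiber B) (FibreLocal A P), Localization.localRingHom_to_map,
    IsScalarTower.algebraMap_apply B' (p'.Fiber B') (FibreLocal A' P')]
  exact congrArg _ (hφ1 b)

theorem fdepth_baseChange [Algebra.FiniteType A B] [Algebra.FiniteType A' B'] (M : Type u) [AddCommGroup M] [Module B M] [Module.Finite B M]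
    (M' : Type u) [AddCommGroup M'] [Module B' M'] (eM : B' ⊗[B] M ≃ₗ[B'] M') (J : Ideal B) (P' : PrimeSpectrum B') :
    fdepth A' M' (J.map (algebraMap B B')) P' = fdepth A M J (PrimeSpectrum.comap (algebraMap B B') P') := by
  obtain ⟨algψ, hl, hf, hψ⟩ := exists_flat_fibreLocalHom (A := A) (A' := A') (B := B) (B' := B') P'
  let P := PrimeSpectrum.comap (algebraMap B B') P'
  let L := FibreLocal A P
  let L' := FibreLocal A' P'
  haveI := fibreLocal_noetherian (A := A) P
  haveI := fibreLocal_noetherian (A := A') P'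
  letI : Algebra L L' := algψ
  haveI : Module.Flat L L' := hf
  haveI : IsLocalHom (algebraMap L L') := hl
  haveI : Module.FaithfullyFlat L L' := @Module.FaithfullyFlat.of_flat_of_isLocalHom L L' _ _ _ _ _ _ _
  letI : Algebra B L' := ((algebraMap B' L').comp (algebraMap B B')).toAlgebra
  haveI : IsScalarTower B B' L' := IsScalarTower.of_algebraMap_eq fun _ => rfl
  haveI : IsScalarTower B L L' := IsScalarTower.of_algebraMap_eq fun b => (hψ b).symm
  have h1 := LC15.idealDepth_baseChange_eq (A := L) (B := L') (J.map (algebraMap B L)) (L ⊗[B] M)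
  let e : L' ⊗[L] (L ⊗[B] M) ≃ₗ[L'] L' ⊗[B'] M' :=
    AlgebraTensorModule.cancelBaseChange B L L' L' M ≪≫ₗ (AlgebraTensorModule.cancelBaseChange B B' L' L' M).symm ≪≫ₗ
      AlgebraTensorModule.congr (LinearEquiv.refl L' L') eM
  have hI : (J.map (algebraMap B L)).map (algebraMap L L') = (J.map (algebraMap B B')).map (algebraMap B' L') := by
    rw [Ideal.map_map, Ideal.map_map, ← IsScalarTower.algebraMap_eq, ← IsScalarTower.algebraMap_eq]
  haveI : Module.Finite L' (L' ⊗[B'] M') := Module.Finite.equiv e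
  rw [hI, LC17.idealDepth_congr (R := L') (N := L' ⊗[B'] M') _ e] at h1
  exact h1

end BaseChange

end Groth.Agent.CAlg9.FibreDepth
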