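import Groth.Agent.CAlg4.SerreSplit
import Groth.Agent.CAlg4.SerreLocal
import Mathlib.RingTheory.Spectrum.Prime.FreeLocus
import Mathlib.RingTheory.Spectrum.Prime.Noetherian
import Mathlib.RingTheory.Spectrum.Prime.Topology
import Mathlib.RingTheory.LocalRing.Module
import Mathlib.LinearAlgebra.Dual.Defs
import Mathlib.LinearAlgebra.Prod

/-! Serre splitting and Bass cancellation for projective modules of rank bigger than the dimension. -/

set_option autoImplicit false
universe u

open Groth.Agent.CAlg4.SerreSplit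

namespace Groth.Agent.CAlg9.Bass

variable {R : Type u} [CommRing R] {M : Type u} [AddCommGroup M] [Module R M]

theorem exists_reps [TopologicalSpace.NoetherianSpace (MaximalSpectrum R)]
    (A G : Set (MaximalSpectrum R)) (hA : IsClosed A) :
    ∃ (Y : Finset (MaximalSpectrum R))
      (C : Finset (TopologicalSpace.IrreducibleCloseds (MaximalSpectrum R))),
      (∀ y ∈ Y, y ∈ A ∧ y ∉ G) ∧ (∀ c ∈ C, (c : Set (MaximalSpectrum R)) ⊆ A) ∧
      (∀ c ∈ C, ∃ y ∈ Y, y ∈ (c : Set (MaximalSpectrum R))) ∧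
      (∀ y ∈ A, y ∉ G → ∃ c ∈ C, y ∈ (c : Set (MaximalSpectrum R))) := by
  classical
  obtain ⟨T, hTfin, hTc, hTi, hTA⟩ :=
    TopologicalSpace.NoetherianSpace.exists_finite_set_isClosed_irreducible hA
  let T' := (hTfin.toFinset).filter (fun c => ¬ c ⊆ G)
  have hT' : ∀ c ∈ T', c ∈ T ∧ ∃ y ∈ c, y ∉ G := fun c hc => by
    simpa [T', Set.not_subset] using hc
  choose p hp hp' using fun c : T' => (hT' c c.2).2
  refine ⟨T'.attach.image p, T'.attach.image fun c : ↥T' =>
    ⟨c.1, hTi c.1 (hT' c c.2).1, hTc c.1 (hT' c c.2).1⟩, ?_, ?_, ?_, ?_⟩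
  · intro y hy
    obtain ⟨c, _, rfl⟩ := Finset.mem_image.mp hy
    exact ⟨hTA ▸ Set.mem_sUnion.mpr ⟨c.1, (hT' c c.2).1, hp c⟩, hp' c⟩
  · intro c hc
    obtain ⟨c, _, rfl⟩ := Finset.mem_image.mp hc
    exact fun y hy => hTA ▸ Set.mem_sUnion.mpr ⟨c.1, (hT' c c.2).1, hy⟩
  · intro c hc
    obtain ⟨c, _, rfl⟩ := Finset.mem_image.mp hc
    exact ⟨p c, Finset.mem_image.mpr ⟨c, Finset.mem_attach _ _, rfl⟩, hp c⟩
  · intro y hy hyG
    rw [hTA] at hy
    obtain ⟨c, hc, hyc⟩ := hy
    have : c ∈ T' := by simp [T', hc, Set.not_subset]; exact ⟨y, hyc, hyG⟩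
    exact ⟨_, Finset.mem_image.mpr ⟨⟨c, this⟩, Finset.mem_attach _ _, rfl⟩, hyc⟩

theorem ind_one_iff (y : Ideal R) [y.IsMaximal] (v : M) :
    Ind y (Fin.snoc (Fin.elim0 : Fin 0 → M) v) ↔ img y v ≠ 0 := by
  rw [ind_snoc_iff]
  simp [Ind]

theorem img_ne_zero_of_ind_snoc (y : Ideal R) [y.IsMaximal] (p t : M) (c : R)
    (h : Ind y (Fin.snoc (fun _ : Fin 1 => p) t)) : img y (p + c • t) ≠ 0 := by
  intro h0
  rw [img_eq_zero_iff] at h0
  have h1 := h ![1, c] (fun φ => by
    have := h0 φ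
    rw [Fin.sum_univ_two]
    simpa [Fin.snoc] using this)
  have := h1 0
  simp only [Matrix.cons_val_zero] at this
  exact (‹y.IsMaximal›.ne_top) ((Ideal.eq_top_iff_one y).mpr this)

theorem exists_unimodular_add [TopologicalSpace.NoetherianSpace (MaximalSpectrum R)] (p : M) (a : R)
    (n : ℕ) (hdim : ∀ y : MaximalSpectrum R, n ≤ Module.finrank (R ⧸ y.asIdeal) (vSp y.asIdeal M))
    (hpa : ∀ y : MaximalSpectrum R, a ∈ y.asIdeal → img y.asIdeal p ≠ 0) :
    ∀ k ≤ n, ∃ (t : M) (F' : Set (MaximalSpectrum R)), IsClosed F' ∧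
      (∀ y, y ∉ F' → img y.asIdeal (p + a • t) ≠ 0) ∧
      ∀ Z : TopologicalSpace.IrreducibleCloseds (MaximalSpectrum R),
        (Z : Set (MaximalSpectrum R)) ⊆ F' → (k : ℕ∞) ≤ Order.coheight Z := by
  classical
  intro k
  induction k with
  | zero => intro _; exact ⟨0, Set.univ, isClosed_univ, fun y hy => absurd (Set.mem_univ y) hy,
      fun Z _ => by simp⟩
  | succ k ih =>
    intro hk
    obtain ⟨t₁, F₁, hF₁, hI₁, hc₁⟩ := ih (by omega)
    set p₁ := p + a • t₁ with hp₁
    let Zset : M → Set (MaximalSpectrum R) := fun v =>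
      {y | ¬ Ind y.asIdeal (Fin.snoc (Fin.elim0 : Fin 0 → M) v)}
    have hZset : ∀ v y, y ∈ Zset v ↔ img y.asIdeal v = 0 := fun v y => by
      simp only [Zset, Set.mem_setOf_eq, ind_one_iff, not_not]
    set F := F₁ ∩ Zset p₁
    have hF : IsClosed F := hF₁.inter (isClosed_not_ind _)
    have hFind : ∀ y, y ∉ F → Ind y.asIdeal (fun _ : Fin 1 => p₁) := by
      intro y hy
      have e : (fun _ : Fin 1 => p₁) = Fin.snoc (Fin.elim0 : Fin 0 → M) p₁ := by
        funext i; rw [Fin.fin_one_eq_zero i]; simp [Fin.snoc]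
      rw [e, ind_one_iff]
      intro h0
      by_cases h1 : y ∈ F₁
      · exact hy ⟨h1, (hZset _ _).mpr h0⟩
      · exact hI₁ y h1 h0
    obtain ⟨Y₁, C₁, hY₁, hC₁, hCY₁, hcov₁⟩ := exists_reps F ∅ hF
    have hw : ∀ y : MaximalSpectrum R, ∃ v : M, img y.asIdeal v ≠ 0 := by
      intro y
      let _ := Ideal.Quotient.field y.asIdeal
      have hpos : 0 < Module.finrank (R ⧸ y.asIdeal) (vSp y.asIdeal M) :=
        lt_of_lt_of_le (by omega) (hdim y)
      have := Module.nontrivial_of_finrank_pos hpos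
      obtain ⟨v, hv⟩ := exists_ne (0 : vSp y.asIdeal M)
      obtain ⟨m, rfl⟩ := img_surjective y.asIdeal v
      exact ⟨m, hv⟩
    choose w hw using hw
    obtain ⟨t₂, F₂, hF₂, hS₂, hI₂, hc₂⟩ := serre k 1 (fun _ => p₁) F hF Y₁
      (fun y hy => (hY₁ y hy).1) w (fun y => le_trans (by omega) (hdim y)) hFind
    obtain ⟨Y₂, C₂, hY₂, hC₂, hCY₂, hcov₂⟩ := exists_reps F₂ F hF₂
    have hco : Pairwise fun i j : ((Y₁ ∪ Y₂ : Finset _)) =>
        IsCoprime (i : MaximalSpectrum R).asIdeal (j : MaximalSpectrum R).asIdeal := fun i j hij =>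
      MaximalSpectrum.isCoprime_of_ne fun hh => hij (Subtype.ext hh)
    obtain ⟨c, hc⟩ := Ideal.exists_forall_sub_mem_ideal hco
      (fun i => if (i : MaximalSpectrum R) ∈ Y₁ then (1 : R) else 0)
    set t := t₁ + c • t₂
    have hexp : p + a • t = p₁ + (a * c) • t₂ := by
      simp only [t, hp₁, smul_add, mul_smul]; abel
    set G : Set (MaximalSpectrum R) := ⋃ Z ∈ C₁ ∪ C₂, (Z : Set (MaximalSpectrum R))
    have hGood : ∀ y ∈ Y₁ ∪ Y₂, y ∉ Zset (p + a • t) := by
      intro y hy hyZ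
      rw [hZset, hexp, img_add, img_smul] at hyZ
      have hcy := Ideal.Quotient.eq.mpr (hc ⟨y, hy⟩)
      simp only at hcy
      rw [map_mul, hcy] at hyZ
      by_cases hy1 : y ∈ Y₁
      · have hyF := (hY₁ y hy1).1
        rw [(hZset _ _).mp hyF.2, if_pos hy1, map_one, mul_one, zero_add, hS₂ y hy1] at hyZ
        have ha : a ∉ y.asIdeal := by
          intro ha
          have h0 := (hZset _ _).mp hyF.2
          rw [hp₁, img_add, img_smul, Ideal.Quotient.eq_zero_iff_mem.mpr ha, zero_smul, add_zero] at h0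
          exact hpa y ha h0
        let _ := Ideal.Quotient.field y.asIdeal
        rcases smul_eq_zero.mp hyZ with h | h
        · exact ha (Ideal.Quotient.eq_zero_iff_mem.mp h)
        · exact hw y h
      · have hy2 : y ∈ Y₂ := (Finset.mem_union.mp hy).resolve_left hy1
        rw [if_neg hy1, map_zero, mul_zero, zero_smul, add_zero] at hyZ
        have h2 := hFind y (hY₂ y hy2).2
        have e : (fun _ : Fin 1 => p₁) = Fin.snoc (Fin.elim0 : Fin 0 → M) p₁ := by
          funext i; rw [Fin.fin_one_eq_zero i]; simp [Fin.snoc]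
        rw [e, ind_one_iff] at h2
        exact h2 hyZ
    have hZG : ∀ y, y ∈ Zset (p + a • t) → y ∈ G := by
      intro y hyZ
      by_cases h1 : y ∈ F
      · obtain ⟨Z, hZ, hyc⟩ := hcov₁ y h1 (Set.notMem_empty y)
        exact Set.mem_biUnion (Finset.mem_union_left _ hZ) hyc
      by_cases h2 : y ∈ F₂
      · obtain ⟨Z, hZ, hyc⟩ := hcov₂ y h2 h1
        exact Set.mem_biUnion (Finset.mem_union_right _ hZ) hyc
      rw [hZset, hexp] at hyZ
      exact absurd hyZ (img_ne_zero_of_ind_snoc _ _ _ _ (hI₂ y (by simp [h1, h2])))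
    refine ⟨t, Zset (p + a • t), isClosed_not_ind _, fun y hy => fun h0 => hy ((hZset _ _).mpr h0), ?_⟩
    intro W hW
    obtain ⟨Z, hZ, hWc⟩ : ∃ Z ∈ C₁ ∪ C₂, (W : Set (MaximalSpectrum R)) ⊆ Z := by
      have := (isIrreducible_iff_sUnion_isClosed.mp W.isIrreducible)
        ((C₁ ∪ C₂).image fun c : TopologicalSpace.IrreducibleCloseds _ =>
          (c : Set (MaximalSpectrum R)))
        (by
          intro z hz
          obtain ⟨c, _, rfl⟩ := Finset.mem_image.mp hz
          exact c.isClosed)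
        (by
          have : (W : Set (MaximalSpectrum R)) ⊆ G := fun y hy => hZG y (hW hy)
          simpa [G, Set.sUnion_image] using this)
      obtain ⟨z, hz, hWz⟩ := this
      obtain ⟨c, hc, rfl⟩ := Finset.mem_image.mp hz
      exact ⟨c, hc, hWz⟩
    obtain ⟨y, hy, hyc⟩ : ∃ y ∈ Y₁ ∪ Y₂, y ∈ (Z : Set (MaximalSpectrum R)) := by
      rcases Finset.mem_union.mp hZ with hc | hc
      · obtain ⟨y, hy, hyc⟩ := hCY₁ Z hc
        exact ⟨y, Finset.mem_union_left _ hy, hyc⟩
      · obtain ⟨y, hy, hyc⟩ := hCY₂ Z hc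
        exact ⟨y, Finset.mem_union_right _ hy, hyc⟩
    have hlt : W < Z := lt_of_le_of_ne hWc fun hh => hGood y hy (hW (hh ▸ hyc))
    have hck : (k : ℕ∞) ≤ Order.coheight Z := by
      rcases Finset.mem_union.mp hZ with hc | hc
      exacts [hc₁ Z ((hC₁ Z hc).trans Set.inter_subset_left), hc₂ Z (hC₂ Z hc)]
    rw [Nat.cast_add, Nat.cast_one]
    exact le_trans (by gcongr) (Order.coheight_add_one_le hlt)

variable (R) in
theorem noetherianSpace_maximalSpectrum [IsNoetherianRing R] :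
    TopologicalSpace.NoetherianSpace (MaximalSpectrum R) :=
  (⟨rfl⟩ : Topology.IsInducing (MaximalSpectrum.toPrimeSpectrum (R := R))).noetherianSpace

variable [IsNoetherianRing R] [Module.Finite R M] [Module.Projective R M]

theorem le_finrank_vSp (n : ℕ) (hrk : ∀ p : PrimeSpectrum R, Module.rankAtStalk (R := R) M p = n)
    (y : MaximalSpectrum R) : n ≤ Module.finrank (R ⧸ y.asIdeal) (vSp y.asIdeal M) := by
  classical
  have := Module.finitePresentation_of_projective R M
  set S := y.asIdeal.primeCompl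
  let T := Localization.AtPrime y.asIdeal
  have hfree : Module.Free T (LocalizedModule S M) := Module.free_of_flat_of_isLocalRing
  let b := Module.finBasisOfFinrankEq T (LocalizedModule S M) (hrk ⟨y.asIdeal, inferInstance⟩)
  choose p hp using fun i => IsLocalizedModule.surj S (LocalizedModule.mkLinearMap S M) (b i)
  have hind : Ind y.asIdeal (fun i => (p i).1) := by
    refine ind_of_localized_coords y.asIdeal S (fun a ha => ha) _ b.equivFun.toLinearMap
      (fun i => (p i).2) fun i => ?_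
    rw [← hp i, Submonoid.smul_def, LinearMap.map_smul_of_tower,
      show b.equivFun.toLinearMap (b i) = Pi.single i 1 by
        ext j; simp [Pi.single_apply, Finsupp.single_apply, eq_comm]]
    ext j
    simp [Algebra.smul_def, Pi.single_apply]
    rfl
  have : Module.Finite (R ⧸ y.asIdeal) (M ⧸ (y.asIdeal • ⊤ : Submodule R M)) :=
    Module.Finite.of_restrictScalars_finite R _ _
  let _ := Ideal.Quotient.field y.asIdeal
  simpa using LinearIndependent.fintype_card_le_finrank
    ((linearIndependent_iff_ind _ _).mpr hind)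

/-- If `(p, a)` is unimodular in `M × R` and `rank M > dim R`, some `p + a t` is unimodular. -/
theorem exists_dual_apply_eq_one (d n : ℕ) (hdim : ringKrullDim R ≤ d) (hnd : d < n)
    (hrk : ∀ p : PrimeSpectrum R, Module.rankAtStalk (R := R) M p = n)
    (p : M) (a : R) (hpa : ∀ y : MaximalSpectrum R, a ∈ y.asIdeal → img y.asIdeal p ≠ 0) :
    ∃ (t : M) (θ : M →ₗ[R] R), θ (p + a • t) = 1 := by
  have := noetherianSpace_maximalSpectrum R
  obtain ⟨t, F', hF', hI, hc⟩ :=
    exists_unimodular_add p a n (le_finrank_vSp n hrk) hpa (d + 1) (by omega)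
  have hdim' : topologicalKrullDim (MaximalSpectrum R) ≤ d :=
    ((⟨rfl⟩ : Topology.IsInducing (MaximalSpectrum.toPrimeSpectrum (R := R))).topologicalKrullDim_le).trans
      (PrimeSpectrum.topologicalKrullDim_eq_ringKrullDim R ▸ hdim)
  have hempty : F' = ∅ := by
    by_contra hne
    obtain ⟨y, hy⟩ := Set.nonempty_iff_ne_empty.mpr hne
    have h1 := hc ⟨{y}, isIrreducible_singleton, isClosed_singleton⟩
      (Set.singleton_subset_iff.mpr hy)
    have h2 : ((Order.coheight (⟨{y}, isIrreducible_singleton, isClosed_singleton⟩ :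
        TopologicalSpace.IrreducibleCloseds (MaximalSpectrum R)) : ℕ∞) : WithBot ℕ∞) ≤ d :=
      le_trans (Order.coheight_le_krullDim _) hdim'
    have h3 := ((WithBot.coe_le_coe.mpr h1).trans h2)
    norm_cast at h3
    omega
  have htop : LinearMap.range (Module.Dual.eval R M (p + a • t)) = ⊤ := by
    by_contra hne
    obtain ⟨m, hm, hle⟩ := Ideal.exists_le_maximal _ hne
    refine hI ⟨m, hm⟩ (by simp [hempty]) ((img_eq_zero_iff _ _).mpr fun φ => hle ⟨φ, rfl⟩)
  obtain ⟨θ, hθ⟩ := (Submodule.eq_top_iff'.mp htop) 1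
  exact ⟨t, θ, hθ⟩

/-- Bass cancellation, one free summand. -/
theorem cancel_one (d n : ℕ) (hdim : ringKrullDim R ≤ d) (hnd : d < n)
    (hrk : ∀ p : PrimeSpectrum R, Module.rankAtStalk (R := R) M p = n)
    {N : Type u} [AddCommGroup N] [Module R N] (φ : (M × R) ≃ₗ[R] (N × R)) :
    Nonempty (M ≃ₗ[R] N) := by
  set v := φ.symm (0, 1) with hv
  have hpa : ∀ y : MaximalSpectrum R, v.2 ∈ y.asIdeal → img y.asIdeal v.1 ≠ 0 := by
    intro y ha h0
    rw [img_eq_zero_iff] at h0
    apply y.isMaximal.ne_top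
    rw [Ideal.eq_top_iff_one]
    let σ : (M × R) →ₗ[R] R := (LinearMap.snd R N R).comp φ.toLinearMap
    have e : σ v = 1 := by simp [σ, hv]
    have e2 : σ v = σ.comp (LinearMap.inl R M R) v.1 + v.2 * σ (0, 1) := by
      conv_lhs => rw [show v = (LinearMap.inl R M R) v.1 + v.2 • ((0 : M), (1 : R)) by ext <;> simp]
      rw [map_add, map_smul, LinearMap.comp_apply, smul_eq_mul]; rfl
    rw [← e, e2]
    exact add_mem (h0 _) (y.asIdeal.mul_mem_right _ ha)
  obtain ⟨t, θ, hθ⟩ := exists_dual_apply_eq_one d n hdim hnd hrk v.1 v.2 hpa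
  let p' := v.1 + v.2 • t
  let E : M × R → M × R := fun x =>
    let x1 := x.1 + x.2 • t
    let r2 := x.2 + (1 - v.2) * θ x1
    (x1 - r2 • p', r2)
  let Einv : M × R → M × R := fun x =>
    let x1 := x.1 + x.2 • p'
    let r1 := x.2 - (1 - v.2) * θ x1
    (x1 - r1 • t, r1)
  let e : (M × R) ≃ₗ[R] (M × R) :=
    { toFun := E
      invFun := Einv
      map_add' := fun x y => by
        refine Prod.ext ?_ ?_ <;>
          simp only [E, Prod.fst_add, Prod.snd_add, map_add, map_smul, smul_eq_mul, mul_add, add_smul,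
            smul_add] <;> abel
      map_smul' := fun c x => by
        refine Prod.ext ?_ ?_ <;>
          simp only [E, Prod.smul_fst, Prod.smul_snd, RingHom.id_apply, map_add, map_smul, smul_eq_mul,
            smul_add, smul_sub, mul_smul, add_smul, mul_add, smul_comm (1 - v.2) c] <;> ring
      left_inv := fun x => by
        refine Prod.ext ?_ ?_ <;> simp [E, Einv]
      right_inv := fun x => by
        refine Prod.ext ?_ ?_ <;> simp [E, Einv] }
  have hev : e v = (0, 1) := by
    refine Prod.ext ?_ ?_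
    · show (v.1 + v.2 • t) - (v.2 + (1 - v.2) * θ (v.1 + v.2 • t)) • p' = 0
      rw [hθ, mul_one, add_sub_cancel, one_smul, sub_self]
    · show v.2 + (1 - v.2) * θ (v.1 + v.2 • t) = 1
      rw [hθ]; ring
  let ψ : (M × R) ≃ₗ[R] (N × R) := e.symm.trans φ
  have hψ : ψ (0, 1) = (0, 1) := by
    simp only [ψ, LinearEquiv.trans_apply]
    rw [← hev, LinearEquiv.symm_apply_apply, hv, LinearEquiv.apply_symm_apply]
  have hψs : ψ.symm (0, 1) = (0, 1) := by rw [LinearEquiv.symm_apply_eq, hψ]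
  let f : M →ₗ[R] N := (LinearMap.fst R N R).comp (ψ.toLinearMap.comp (LinearMap.inl R M R))
  let g : N →ₗ[R] M := (LinearMap.fst R M R).comp (ψ.symm.toLinearMap.comp (LinearMap.inl R N R))
  refine ⟨LinearEquiv.ofLinear f g ?_ ?_⟩
  · refine LinearMap.ext fun x => ?_
    show (ψ ((ψ.symm (x, 0)).1, 0)).1 = x
    have e1 : ((ψ.symm (x, 0)).1, (0 : R)) = ψ.symm (x, 0) - (ψ.symm (x, 0)).2 • ((0 : M), (1 : R)) := by
      ext <;> simp
    rw [e1, map_sub, map_smul, LinearEquiv.apply_symm_apply, hψ]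
    simp
  · refine LinearMap.ext fun x => ?_
    show (ψ.symm ((ψ (x, 0)).1, 0)).1 = x
    have e1 : ((ψ (x, 0)).1, (0 : R)) = ψ (x, 0) - (ψ (x, 0)).2 • ((0 : N), (1 : R)) := by
      ext <;> simp
    rw [e1, map_sub, map_smul, LinearEquiv.symm_apply_apply, hψs]
    simp

end Groth.Agent.CAlg9.Bass

namespace Groth.Agent.CAlg9.Bass

variable {R : Type u} [CommRing R] [IsNoetherianRing R] {M N : Type u} [AddCommGroup M] [Module R M]
  [Module.Finite R M] [Module.Projective R M] [AddCommGroup N] [Module R N]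

/-- Bass cancellation of free modules. -/
theorem cancel (d : ℕ) (hdim : ringKrullDim R ≤ d) : ∀ (m n : ℕ), d < n →
    (∀ p : PrimeSpectrum R, Module.rankAtStalk (R := R) M p = n) →
    ((M × (Fin m → R)) ≃ₗ[R] (N × (Fin m → R))) → Nonempty (M ≃ₗ[R] N) := by
  intro m
  induction m with
  | zero =>
    intro n _ _ e
    exact ⟨LinearEquiv.prodUnique.symm.trans (e.trans LinearEquiv.prodUnique)⟩
  | succ m ih =>
    intro n hn hrk e
    let s : ∀ (X : Type u) [AddCommGroup X] [Module R X],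
        (X × (Fin (m + 1) → R)) ≃ₗ[R] ((X × (Fin m → R)) × R) := fun X _ _ =>
      ((LinearEquiv.refl R X).prodCongr
        ((Fin.consLinearEquiv R (fun _ : Fin (m + 1) => R)).symm.trans (LinearEquiv.prodComm R _ _))).trans
        (LinearEquiv.prodAssoc R _ _ _).symm
    have hrk' : ∀ p : PrimeSpectrum R,
        Module.rankAtStalk (R := R) (M × (Fin m → R)) p = n + m := fun p => by
      have := p.nontrivial
      rw [Module.rankAtStalk_prod, Pi.add_apply, hrk, Module.rankAtStalk_eq_finrank_of_free]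
      simp
    obtain ⟨e'⟩ := cancel_one (M := M × (Fin m → R)) (N := N × (Fin m → R)) d (n + m) hdim
      (by omega) hrk' ((s M).symm.trans (e.trans (s N)))
    exact ih n hn hrk e'

end Groth.Agent.CAlg9.Bass
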