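import Mathlib.RingTheory.AdicCompletion.Completeness
import Mathlib.RingTheory.AdicCompletion.Noetherian

namespace Groth.Agent.CAlg9

universe u v w

open Submodule

variable {A : Type u} [CommRing A] (I : Ideal A) {M : Type v} [AddCommGroup M] [Module A M]
variable {N : Type w} [AddCommGroup N] [Module A N]

theorem map_pow_smul_top_le (f : M →ₗ[A] N) (n : ℕ) {x : M}
    (hx : x ∈ (I ^ n • ⊤ : Submodule A M)) : f x ∈ (I ^ n • ⊤ : Submodule A N) := by
  have h := Submodule.mem_map_of_mem (f := f) hx
  rw [Submodule.map_smul''] at h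
  exact (smul_mono_right _ le_top : _ ≤ (I ^ n • ⊤ : Submodule A N)) h

theorem pow_smul_top_anti {m n : ℕ} (h : m ≤ n) {x : M}
    (hx : x ∈ (I ^ n • ⊤ : Submodule A M)) : x ∈ (I ^ m • ⊤ : Submodule A M) :=
  pow_smul_top_le I M h hx

theorem val_eq_zero_of_mem {n : ℕ} {x : AdicCompletion I M}
    (hx : x ∈ (I ^ n • ⊤ : Submodule A (AdicCompletion I M))) : x.val n = 0 :=
  AdicCompletion.pow_smul_top_le_ker_eval I n hx

theorem exists_of_val_eq (x : AdicCompletion I M) (n : ℕ) :
    ∃ y : M, x.val n = Submodule.Quotient.mk y := by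
  obtain ⟨y, hy⟩ := Submodule.Quotient.mk_surjective _ (x.val n)
  exact ⟨y, hy.symm⟩

theorem val_sub_of (x : AdicCompletion I M) (y : M) (n : ℕ) :
    (x - AdicCompletion.of I M y).val n = x.val n - Submodule.Quotient.mk y := by
  simp

theorem mem_pow_smul_top_of_val_eq_zero [IsAdicComplete I (AdicCompletion I M)] {n : ℕ}
    {x : AdicCompletion I M} (hx : x.val n = 0) :
    x ∈ (I ^ n • ⊤ : Submodule A (AdicCompletion I M)) := by
  choose y hy using fun m => exists_of_val_eq I x m
  have hstep : ∀ {a b : ℕ}, a ≤ b → y a - y b ∈ (I ^ a • ⊤ : Submodule A M) := by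
    intro a b hab
    have h1 := x.prop hab
    rw [hy a, hy b] at h1
    rw [← Submodule.Quotient.eq]
    simpa using h1.symm
  have hc : ∀ {a b : ℕ}, a ≤ b →
      AdicCompletion.of I M (y a) ≡ AdicCompletion.of I M (y b)
        [SMOD (I ^ a • ⊤ : Submodule A (AdicCompletion I M))] := by
    intro a b hab
    rw [SModEq.sub_mem, ← map_sub]
    exact map_pow_smul_top_le I _ a (hstep hab)
  obtain ⟨L, hL⟩ := IsPrecomplete.prec (IsAdicComplete.toIsPrecomplete) hc
  have hLx : L = x := by
    apply AdicCompletion.ext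
    intro m
    have h1 := val_eq_zero_of_mem I (SModEq.sub_mem.mp (hL m))
    rw [AdicCompletion.val_sub_apply, sub_eq_zero] at h1
    rw [← h1, AdicCompletion.of_apply, hy m]
    rfl
  have h2 : AdicCompletion.of I M (y n) ∈ (I ^ n • ⊤ : Submodule A (AdicCompletion I M)) := by
    apply map_pow_smul_top_le
    rw [← Submodule.Quotient.mk_eq_zero, ← hy n, hx]
  have h3 := SModEq.sub_mem.mp (hL n)
  rw [hLx] at h3
  have h4 := Submodule.sub_mem _ h2 h3
  simpa using h4

theorem pow_smul_top_eq_ker_eval_of_isAdicComplete [IsAdicComplete I (AdicCompletion I M)]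
    (n : ℕ) : (I ^ n • ⊤ : Submodule A (AdicCompletion I M)) = (AdicCompletion.eval I M n).ker :=
  le_antisymm (AdicCompletion.pow_smul_top_le_ker_eval I n)
    fun _ hx => mem_pow_smul_top_of_val_eq_zero I hx

theorem isAdicComplete_of_ker_eval_le
    (h : ∀ n (x : AdicCompletion I M), x.val n = 0 →
      x ∈ (I ^ n • ⊤ : Submodule A (AdicCompletion I M))) :
    IsAdicComplete I (AdicCompletion I M) where
  prec' x hx := by
    let L : AdicCompletion I M := ⟨fun i => (x i).val i, by
      intro m n h'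
      simp only [AdicCompletion.transitionMap_comp_eval_apply]
      have h1 := val_eq_zero_of_mem I (SModEq.sub_mem.mp (hx h'))
      rw [AdicCompletion.val_sub_apply, sub_eq_zero] at h1
      exact h1.symm⟩
    refine ⟨L, fun i => SModEq.sub_mem.mpr (h i _ ?_)⟩
    rw [AdicCompletion.val_sub_apply]
    exact sub_self _

theorem isAdicComplete_iff_forall_exists :
    IsAdicComplete I (AdicCompletion I M) ↔
      ∀ (n : ℕ) (x : AdicCompletion I M), ∃ y : M,
        x - AdicCompletion.of I M y ∈ (I ^ n • ⊤ : Submodule A (AdicCompletion I M)) := by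
  constructor
  · intro _ n x
    obtain ⟨y, hy⟩ := exists_of_val_eq I x n
    refine ⟨y, mem_pow_smul_top_of_val_eq_zero I ?_⟩
    rw [val_sub_of, hy, sub_self]
  · intro h
    refine isAdicComplete_of_ker_eval_le I fun n x hx => ?_
    obtain ⟨y, hy⟩ := h n x
    have h1 := val_eq_zero_of_mem I hy
    rw [val_sub_of, hx, zero_sub, neg_eq_zero, Submodule.Quotient.mk_eq_zero] at h1
    have h2 := Submodule.add_mem _ hy (map_pow_smul_top_le I (AdicCompletion.of I M) n h1)
    simpa using h2

theorem exists_leftInverse_of :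
    ∃ ψ : AdicCompletion I (AdicCompletion I M) →ₗ[A] AdicCompletion I M,
      ψ ∘ₗ AdicCompletion.of I (AdicCompletion I M) = LinearMap.id := by
  refine ⟨AdicCompletion.lift I (fun n =>
    (Submodule.liftQ _ (AdicCompletion.eval I M n)
      (AdicCompletion.pow_smul_top_le_ker_eval I n)) ∘ₗ
      AdicCompletion.eval I (AdicCompletion I M) n) ?_, ?_⟩
  · intro m n h
    apply LinearMap.ext
    intro x
    obtain ⟨y, hy⟩ := exists_of_val_eq I x n
    have hm : x.val m = Submodule.Quotient.mk y := by
      rw [← x.prop h, hy]; simp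
    simp [hy, hm]
  · apply LinearMap.ext; intro x
    apply AdicCompletion.ext; intro n
    simp

theorem mem_smul_span_finset {s : Finset A} {P : Submodule A M} {x : M}
    (hx : x ∈ Ideal.span (s : Set A) • P) :
    ∃ h : A → M, (∀ a, h a ∈ P) ∧ ∑ a ∈ s, a • h a = x := by
  refine Submodule.smul_induction_on hx (fun r hr m hm => ?_) ?_
  · obtain ⟨f, -, hf⟩ := Submodule.mem_span_finset.mp hr
    refine ⟨fun a => f a • m, fun a => P.smul_mem _ hm, ?_⟩
    rw [← hf, Finset.sum_smul]
    exact Finset.sum_congr rfl fun a _ => by rw [smul_eq_mul, mul_comm, mul_smul]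
  · rintro x y ⟨h, hh, rfl⟩ ⟨k, hk, rfl⟩
    exact ⟨fun a => h a + k a, fun a => P.add_mem (hh a) (hk a), by
      simp [smul_add, Finset.sum_add_distrib]⟩

theorem finsupp_mem_smul_top_iff {Z : Type*} (J : Ideal A) (f : Z →₀ M) :
    f ∈ (J • ⊤ : Submodule A (Z →₀ M)) ↔ ∀ z, f z ∈ (J • ⊤ : Submodule A M) := by
  classical
  constructor
  · intro hf z
    have h := Submodule.mem_map_of_mem (f := Finsupp.lapply (R := A) z) hf
    rw [Submodule.map_smul''] at h
    exact (smul_mono_right _ le_top : _ ≤ (J • ⊤ : Submodule A M)) h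
  · intro h
    rw [← f.sum_single]
    refine Submodule.sum_mem _ fun z _ => ?_
    have h2 := Submodule.mem_map_of_mem (f := Finsupp.lsingle (R := A) z) (h z)
    rw [Submodule.map_smul''] at h2
    exact (smul_mono_right _ le_top : _ ≤ (J • ⊤ : Submodule A (Z →₀ M))) h2

theorem isHausdorff_of_finite [IsNoetherianRing A] [IsAdicComplete I A] [Module.Finite A M] :
    IsHausdorff I M :=
  IsHausdorff.of_le_jacobson I (M := M) (IsAdicComplete.le_jacobson_bot I)

theorem isAdicComplete_retract (i : M →ₗ[A] N) (r : N →ₗ[A] M) (h : r ∘ₗ i = LinearMap.id)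
    [IsAdicComplete I N] : IsAdicComplete I M := by
  have hri : ∀ x, r (i x) = x := fun x => by simpa using LinearMap.congr_fun h x
  refine { haus' := fun x hx => ?_, prec' := fun f hf => ?_ }
  · rw [← hri x]
    have : i x = 0 := IsHausdorff.haus (IsAdicComplete.toIsHausdorff (I := I)) _ fun n => by
      rw [SModEq.sub_mem, sub_zero]
      exact map_pow_smul_top_le I i n (by simpa [SModEq.sub_mem] using hx n)
    rw [this, map_zero]
  · obtain ⟨L, hL⟩ := IsPrecomplete.prec (IsAdicComplete.toIsPrecomplete (I := I))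
      (f := fun n => i (f n)) (fun {m n} hmn => by
        rw [SModEq.sub_mem, ← map_sub]
        exact map_pow_smul_top_le I i m (SModEq.sub_mem.mp (hf hmn)))
    refine ⟨r L, fun n => SModEq.sub_mem.mpr ?_⟩
    have := map_pow_smul_top_le I r n (SModEq.sub_mem.mp (hL n))
    rwa [map_sub, hri] at this

theorem isAdicComplete_congr_equiv (e : M ≃ₗ[A] N) [IsAdicComplete I N] : IsAdicComplete I M :=
  isAdicComplete_retract I e.toLinearMap e.symm.toLinearMap (by ext; simp)

end Groth.Agent.CAlg9
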