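import Groth.Agent.CAlg9.Completion
import Mathlib.RingTheory.TensorProduct.Basic
import Mathlib.LinearAlgebra.TensorProduct.Tower

namespace Groth.Agent.CAlg9

universe u v w w'

open W4c5adicflatcompl Submodule TensorProduct

section completion_bijective

variable {B : Type u} [CommRing B] {J : Ideal B}
variable {X : Type v} [AddCommGroup X] [Module B X] {Y : Type w} [AddCommGroup Y] [Module B Y]

theorem completion_map_bijective (f : X →ₗ[B] Y)
    (hs : ∀ (n : ℕ) (y : Y), ∃ x, y - f x ∈ (J ^ n • ⊤ : Submodule B Y))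
    (hi : ∀ (n : ℕ) (x : X), f x ∈ (J ^ n • ⊤ : Submodule B Y) → x ∈ (J ^ n • ⊤ : Submodule B X)) :
    Function.Bijective ((AdicCompletion.map J f).restrictScalars B) := by
  constructor
  · rw [injective_iff_map_eq_zero]
    intro x hx
    apply AdicCompletion.ext; intro n
    obtain ⟨y, hy⟩ := exists_of_val_eq J x n
    have h : (AdicCompletion.map J f x).val n = 0 := by
      rw [show AdicCompletion.map J f x = 0 from hx]; rfl
    rw [AdicCompletion.map_val_apply, hy, LinearMap.reduceModIdeal_apply,
      Submodule.Quotient.mk_eq_zero] at h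
    rw [hy, AdicCompletion.val_zero_apply, Submodule.Quotient.mk_eq_zero]
    exact hi n y h
  · intro y
    choose b hb using fun n => exists_of_val_eq J y n
    choose a ha using fun n => hs n (b n)
    refine ⟨⟨fun n => Submodule.Quotient.mk (a n), ?_⟩, ?_⟩
    · intro m n hmn
      change Submodule.Quotient.mk (a n) = Submodule.Quotient.mk (a m)
      rw [Submodule.Quotient.eq]
      apply hi m
      have h1 := y.prop hmn
      rw [hb n, hb m] at h1
      have h2 : b n - b m ∈ (J ^ m • ⊤ : Submodule B Y) := by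
        rw [← Submodule.Quotient.eq]
        simpa using h1
      have h3 : f (a n - a m) = (b n - b m) - (b n - f (a n)) + (b m - f (a m)) := by
        rw [map_sub]; abel
      rw [h3]
      exact add_mem (sub_mem h2 (pow_smul_top_anti J hmn (ha n))) (ha m)
    · apply AdicCompletion.ext; intro n
      show Submodule.Quotient.mk (f (a n)) = y.val n
      rw [hb n, Submodule.Quotient.eq, ← neg_mem_iff, neg_sub]
      exact ha n

end completion_bijective

variable {A B : Type u} [CommRing A] [CommRing B] [Algebra A B]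

theorem isAdicFree_baseChange (I : Ideal A) (J : Ideal B) (hI : I.FG) (hJ : J.FG)
    (hIJ : I.map (algebraMap A B) ≤ J) (P : Type u) [AddCommGroup P] [Module A P]
    (hP : IsAdicFree I P) : IsAdicFree J (AdicCompletion J (B ⊗[A] P)) := by
  classical
  obtain ⟨Z, ⟨e⟩⟩ := hP
  have := AdicCompletion.isAdicComplete (M := A) hI
  let p : Z → P := fun z => e.symm (single I z (AdicCompletion.of I A 1))
  let Φ : (Z →₀ B) →ₗ[B] B ⊗[A] P := Finsupp.linearCombination B fun z => 1 ⊗ₜ p z
  have hpow : ∀ n, ∀ r ∈ I ^ n, algebraMap A B r ∈ J ^ n := fun n r hr => by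
    have := Ideal.mem_map_of_mem (algebraMap A B) hr
    rw [Ideal.map_pow] at this
    exact Ideal.pow_right_mono hIJ n this
  have hsurj : ∀ (n : ℕ) (y : B ⊗[A] P), ∃ x,
      y - Φ x ∈ (J ^ n • ⊤ : Submodule B (B ⊗[A] P)) := by
    intro n y
    induction y with
    | zero => exact ⟨0, by simp⟩
    | add x y hx hy =>
      obtain ⟨a, ha⟩ := hx
      obtain ⟨b, hb⟩ := hy
      refine ⟨a + b, ?_⟩
      rw [map_add, add_sub_add_comm]
      exact add_mem ha hb
    | tmul b q =>
      have hI' : ∀ q' ∈ (I ^ n • ⊤ : Submodule A P),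
          b ⊗ₜ[A] q' ∈ (J ^ n • ⊤ : Submodule B (B ⊗[A] P)) := by
        intro q' hq'
        refine Submodule.smul_induction_on hq' (fun r hr x _ => ?_) fun x y hx hy => by
          rw [tmul_add]; exact add_mem hx hy
        rw [tmul_smul, ← algebraMap_smul B r]
        exact Submodule.smul_mem_smul (hpow n r hr) trivial
      let g := e q
      choose a ha using fun z => exists_of_val_eq I ((g : Z → AdicCompletion I A) z) n
      have h1 : g - ∑ z ∈ badSet g n, a z • single I z (AdicCompletion.of I A 1) ∈
          (I ^ n • ⊤ : Submodule A (decaying I Z (AdicCompletion I A))) := by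
        rw [mem_pow_smul_decaying_iff hI]
        intro z
        simp only [AddSubgroupClass.coe_sub, AddSubmonoidClass.coe_finsetSum, Submodule.coe_smul,
          coe_single, Pi.sub_apply, Finset.sum_apply, Pi.smul_apply]
        rw [show ∑ c ∈ badSet g n, a c • (Pi.single c (AdicCompletion.of I A 1) : Z → _) z =
          if z ∈ badSet g n then a z • AdicCompletion.of I A 1 else 0 by
            simp [Pi.single_apply, smul_ite]]
        split_ifs with h
        · rw [← map_smul, smul_eq_mul, mul_one]
          apply mem_pow_smul_top_of_val_eq_zero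
          rw [val_sub_of, ha z, sub_self]
        · simpa using mem_of_notMem_badSet h
      have h2 := map_pow_smul_top_le I e.symm.toLinearMap n h1
      rw [map_sub, map_sum] at h2
      refine ⟨∑ z ∈ badSet g n, Finsupp.single z (a z • b), ?_⟩
      have h3 := hI' _ h2
      rw [tmul_sub, tmul_sum] at h3
      have h4 : Φ (∑ z ∈ badSet g n, Finsupp.single z (a z • b)) =
          ∑ z ∈ badSet g n, b ⊗ₜ[A] e.symm.toLinearMap
            (a z • single I z (AdicCompletion.of I A 1)) := by
        rw [map_sum]
        refine Finset.sum_congr rfl fun z _ => ?_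
        rw [Finsupp.linearCombination_single, map_smul, TensorProduct.smul_tmul', smul_eq_mul,
          mul_one, TensorProduct.smul_tmul]
        rfl
      rw [h4]
      simpa [g] using h3
  have hinj : ∀ (n : ℕ) (x : Z →₀ B), Φ x ∈ (J ^ n • ⊤ : Submodule B (B ⊗[A] P)) →
      x ∈ (J ^ n • ⊤ : Submodule B (Z →₀ B)) := by
    intro n x hx
    let q : AdicCompletion I A →ₗ[A] B ⧸ J ^ n :=
      ((I ^ n • ⊤ : Submodule A A).liftQ ((Ideal.Quotient.mkₐ A (J ^ n)).toLinearMap ∘ₗ
        Algebra.linearMap A B) (fun r hr => by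
          rw [smul_eq_mul, Ideal.mul_top] at hr
          exact Ideal.Quotient.eq_zero_iff_mem.mpr (hpow n r hr))) ∘ₗ AdicCompletion.eval I A n
    let θ₀ : P →ₗ[A] (Z → B ⧸ J ^ n) :=
      (q.compLeft Z) ∘ₗ (decaying I Z (AdicCompletion I A)).subtype ∘ₗ e.toLinearMap
    let θ : B ⊗[A] P →ₗ[B] (Z → B ⧸ J ^ n) := θ₀.liftBaseChange B
    have h1 : θ (Φ x) = fun z => Ideal.Quotient.mk (J ^ n) (x z) := by
      suffices h : θ ∘ₗ Φ = LinearMap.pi fun z =>
          (Ideal.Quotient.mkₐ B (J ^ n)).toLinearMap ∘ₗ Finsupp.lapply z from LinearMap.congr_fun h x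
      apply Finsupp.lhom_ext
      intro z b
      funext z'
      rcases eq_or_ne z' z with rfl | h
      · have hq : q (AdicCompletion.of I A 1) = 1 := by
          show (Ideal.Quotient.mk (J ^ n)) (algebraMap A B 1) = 1
          simp
        simp [θ, θ₀, p, Φ, hq, Algebra.smul_def]
      · simp [θ, θ₀, q, p, Φ, h, Algebra.smul_def]
    have h2 := map_pow_smul_top_le J θ n hx
    rw [h1] at h2
    rw [finsupp_mem_smul_top_iff]
    intro z
    have h3 := map_pow_smul_top_le J (LinearMap.proj z : (Z → B ⧸ J ^ n) →ₗ[B] B ⧸ J ^ n) n h2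
    have hbot : (J ^ n • ⊤ : Submodule B (B ⧸ J ^ n)) = ⊥ := by
      rw [eq_bot_iff, Submodule.smul_le]
      intro r hr y _
      rw [Submodule.mem_bot, Algebra.smul_def, Ideal.Quotient.algebraMap_eq,
        Ideal.Quotient.eq_zero_iff_mem.mpr hr, zero_mul]
    rw [hbot, Submodule.mem_bot] at h3
    rw [smul_eq_mul, Ideal.mul_top, ← Ideal.Quotient.eq_zero_iff_mem]
    exact h3
  have := AdicCompletion.isAdicComplete (M := B) hJ
  exact ⟨Z, ⟨(LinearEquiv.ofBijective _ (completion_map_bijective Φ hsurj hinj)).symm.trans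
    (finsuppEquivDecaying J Z B)⟩⟩

end Groth.Agent.CAlg9
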