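import Groth.Agent.CAlg9.Decaying
import Mathlib.RingTheory.AdicCompletion.Completeness

namespace Groth.Agent.CAlg9

universe u v w w'

open W4c5adicflatcompl Submodule

variable {A : Type u} [CommRing A] (I : Ideal A) (Z : Type v)
variable (M : Type w) [AddCommGroup M] [Module A M]

/-- The map from the completion of finitely supported functions to functions into the completion. -/
noncomputable def finsuppToPi : AdicCompletion I (Z →₀ M) →ₗ[A] (Z → AdicCompletion I M) :=
  LinearMap.pi fun z : Z =>
    (AdicCompletion.map I (Finsupp.lapply (M := M) (R := A) z)).restrictScalars A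

theorem finsuppToPi_val (x : AdicCompletion I (Z →₀ M)) (n : ℕ) (y : Z →₀ M)
    (hy : x.val n = Submodule.Quotient.mk y) (z : Z) :
    (finsuppToPi I Z M x z).val n = Submodule.Quotient.mk (y z) := by
  simp [finsuppToPi, hy]

theorem finsuppToPi_injective : Function.Injective (finsuppToPi I Z M) := by
  rw [injective_iff_map_eq_zero]
  intro x hx
  apply AdicCompletion.ext; intro n
  obtain ⟨y, hy⟩ := exists_of_val_eq I x n
  rw [hy, AdicCompletion.val_zero_apply, Submodule.Quotient.mk_eq_zero, finsupp_mem_smul_top_iff]
  intro z
  rw [← Submodule.Quotient.mk_eq_zero, ← finsuppToPi_val I Z M x n y hy z, hx]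
  simp

theorem range_finsuppToPi [IsAdicComplete I (AdicCompletion I M)] :
    LinearMap.range (finsuppToPi I Z M) = decaying I Z (AdicCompletion I M) := by
  classical
  apply le_antisymm
  · rintro _ ⟨x, rfl⟩ n
    obtain ⟨y, hy⟩ := exists_of_val_eq I x n
    refine (y.support.finite_toSet).subset fun z hz => ?_
    by_contra hc
    refine hz (mem_pow_smul_top_of_val_eq_zero I ?_)
    rw [finsuppToPi_val I Z M x n y hy z, Finsupp.notMem_support_iff.mp hc]
    simp
  · intro g hg
    choose r hr using fun n z => exists_of_val_eq I (g z) n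
    let y : ℕ → Z →₀ M := fun n =>
      Finsupp.onFinset ((hg n).toFinset)
        (fun z => if g z ∈ (I ^ n • ⊤ : Submodule A (AdicCompletion I M)) then 0 else r n z)
        (fun z hz => by
          by_contra hc
          simp only [Set.Finite.mem_toFinset, Set.mem_ofPred_eq, not_not] at hc
          simp [hc] at hz)
    have hy : ∀ n z, (g z).val n = Submodule.Quotient.mk (y n z) := by
      intro n z
      simp only [y, Finsupp.onFinset_apply]
      split_ifs with h
      · rw [val_eq_zero_of_mem I h]; simp
      · exact hr n z
    let x : AdicCompletion I (Z →₀ M) := ⟨fun n => Submodule.Quotient.mk (y n), by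
      intro m n hmn
      change Submodule.Quotient.mk (y n) = Submodule.Quotient.mk (y m)
      rw [Submodule.Quotient.eq, finsupp_mem_smul_top_iff]
      intro z
      rw [Finsupp.sub_apply, ← Submodule.Quotient.eq, ← hy m z]
      have := (g z).prop hmn
      rw [hy n z] at this
      simpa using this⟩
    refine ⟨x, funext fun z => AdicCompletion.ext fun n => ?_⟩
    rw [finsuppToPi_val I Z M x n (y n) rfl z, hy n z]

/-- The completion of finitely supported functions is the module of decaying functions. -/
noncomputable def finsuppEquivDecaying [IsAdicComplete I (AdicCompletion I M)] :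
    AdicCompletion I (Z →₀ M) ≃ₗ[A] decaying I Z (AdicCompletion I M) :=
  (LinearEquiv.ofInjective _ (finsuppToPi_injective I Z M)).trans
    (LinearEquiv.ofEq _ _ (range_finsuppToPi I Z M))

variable {I Z M} {N : Type w'} [AddCommGroup N] [Module A N]

theorem completion_hom_ext (hI : I.FG) [IsHausdorff I N]
    (φ ψ : AdicCompletion I M →ₗ[A] N)
    (h : ∀ m, φ (AdicCompletion.of I M m) = ψ (AdicCompletion.of I M m)) : φ = ψ := by
  apply LinearMap.ext; intro x
  refine sub_eq_zero.mp (IsHausdorff.haus ‹IsHausdorff I N› _ fun n => ?_)
  rw [SModEq.sub_mem, sub_zero]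
  obtain ⟨m, hm⟩ := exists_of_val_eq I x n
  have h1 : x - AdicCompletion.of I M m ∈ (I ^ n • ⊤ : Submodule A (AdicCompletion I M)) := by
    rw [AdicCompletion.pow_smul_top_eq_ker_eval hI, LinearMap.mem_ker, AdicCompletion.eval_apply,
      val_sub_of, hm, sub_self]
  simpa [h m] using map_pow_smul_top_le I (φ - ψ) n h1

variable (I) in
/-- The extension of a map into a complete module to the completion. -/
noncomputable def completionLift [IsAdicComplete I N] (f : M →ₗ[A] N) :
    AdicCompletion I M →ₗ[A] N :=
  (AdicCompletion.ofLinearEquiv I N).symm.toLinearMap ∘ₗ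
    (AdicCompletion.map I f).restrictScalars A

theorem completionLift_of [IsAdicComplete I N] (f : M →ₗ[A] N) (m : M) :
    completionLift I f (AdicCompletion.of I M m) = f m := by
  show (AdicCompletion.ofLinearEquiv I N).symm (AdicCompletion.map I f (AdicCompletion.of I M m)) = _
  rw [AdicCompletion.map_of, AdicCompletion.ofLinearEquiv_symm_of]

theorem exists_hom_single [IsAdicComplete I N] [DecidableEq Z] (f : Z → N) :
    ∃ φ : decaying I Z (AdicCompletion I A) →ₗ[A] N,
      ∀ z, φ (single I z (1 : AdicCompletion I A)) = f z := by
  obtain ⟨φ, hφ⟩ := exists_sumMap (I := I) (Z := Z) (M := AdicCompletion I A) (N := N)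
    fun z => completionLift I (LinearMap.toSpanSingleton A N (f z))
  refine ⟨φ, fun z => ?_⟩
  rw [sumMap_single _ φ hφ z]
  show completionLift I _ (AdicCompletion.of I A 1) = _
  rw [completionLift_of, LinearMap.toSpanSingleton_apply, one_smul]

theorem completion_decaying_hom_ext (hI : I.FG) [IsHausdorff I N] [DecidableEq Z]
    (φ ψ : decaying I Z (AdicCompletion I A) →ₗ[A] N)
    (h : ∀ z, φ (single I z (1 : AdicCompletion I A)) = ψ (single I z (1 : AdicCompletion I A))) :
    φ = ψ := by
  refine decaying_hom_ext hI φ ψ fun z m => ?_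
  have := completion_hom_ext hI (φ ∘ₗ singleₗ I Z _ z) (ψ ∘ₗ singleₗ I Z _ z) fun a => by
    have e : AdicCompletion.of I A a = a • (AdicCompletion.of I A 1) := by
      rw [← map_smul, smul_eq_mul, mul_one]
    rw [e, map_smul, map_smul, LinearMap.comp_apply, LinearMap.comp_apply, singleₗ_eq]
    exact congrArg (a • ·) (h z)
  simpa [singleₗ_eq] using LinearMap.congr_fun this m

/-- For a complete ring, decaying functions with values in the completion are decaying functions. -/
noncomputable def decayingCompletionEquiv (I : Ideal A) (Z : Type v) [IsAdicComplete I A] :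
    decaying I Z (AdicCompletion I A) ≃ₗ[A] decaying I Z A :=
  decayingCongr I Z (AdicCompletion.ofLinearEquiv I A).symm

end Groth.Agent.CAlg9
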