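import Groth.Prelude.Def_W4c5adicflatcomplDec
import Groth.Agent.CAlg9.AdicComplete
import Mathlib.LinearAlgebra.Finsupp.LinearCombination
import Mathlib.Algebra.BigOperators.Finprod

namespace Groth.Agent.CAlg9

universe u v w w'

open W4c5adicflatcompl Submodule

variable {A : Type u} [CommRing A] {I : Ideal A} {Z : Type v}
variable {M : Type w} [AddCommGroup M] [Module A M]
variable {N : Type w'} [AddCommGroup N] [Module A N]

theorem exists_maximal_level {Z H : Type*} (G : Z → ℕ → Prop) (Q : Z → H → Prop) (F : H → ℕ → Prop)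
    (hG : ∀ z (j k : ℕ), j ≤ k → G z k → G z j)
    (hF : ∀ h (j k : ℕ), j ≤ k → F h k → F h j)
    (h0 : ∀ z, ∃ h, Q z h)
    (hstep : ∀ z k, G z k → ∃ h, Q z h ∧ F h k)
    (hlim : ∀ z, (∀ k, G z k) → ∃ h, Q z h ∧ ∀ k, F h k) :
    ∃ h : Z → H, (∀ z, Q z (h z)) ∧ ∀ z k, G z k → F (h z) k := by
  have key : ∀ z, ∃ h, Q z h ∧ ∀ k, G z k → F h k := by
    intro z
    classical
    by_cases hall : ∀ k, G z k
    · obtain ⟨h, hQ, hh⟩ := hlim z hall
      exact ⟨h, hQ, fun k _ => hh k⟩
    · simp only [not_forall] at hall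
      have hspec := Nat.find_spec hall
      rcases Nat.eq_zero_or_pos (Nat.find hall) with h00 | hpos
      · obtain ⟨h, hQ⟩ := h0 z
        refine ⟨h, hQ, fun k hk => absurd (hG z _ k (Nat.zero_le k) hk) ?_⟩
        rwa [h00] at hspec
      · obtain ⟨h, hQ, hh⟩ := hstep z (Nat.find hall - 1)
          (not_not.mp (Nat.find_min hall (by omega)))
        refine ⟨h, hQ, fun k hk => hF h k _ ?_ hh⟩
        by_contra hlt
        exact hspec (hG z _ k (by omega) hk)
  choose h hQ hh using key
  exact ⟨h, hQ, hh⟩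

theorem decaying_apply_mem (n : ℕ) (f : decaying I Z M)
    (hf : f ∈ (I ^ n • ⊤ : Submodule A (decaying I Z M))) (z : Z) :
    (f : Z → M) z ∈ (I ^ n • ⊤ : Submodule A M) :=
  map_pow_smul_top_le I ((LinearMap.proj z).comp (decaying I Z M).subtype) n hf

theorem decaying_bad_finite (f : decaying I Z M) (n : ℕ) :
    {z | (f : Z → M) z ∉ (I ^ n • ⊤ : Submodule A M)}.Finite := f.2 n

/-- A finite set outside of which `f` lies in `I ^ n • M`. -/
noncomputable def badSet (f : decaying I Z M) (n : ℕ) : Finset Z :=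
  (decaying_bad_finite f n).toFinset

theorem mem_of_notMem_badSet {f : decaying I Z M} {n : ℕ} {z : Z} (h : z ∉ badSet f n) :
    (f : Z → M) z ∈ (I ^ n • ⊤ : Submodule A M) := by
  by_contra hc
  exact h (by simpa [badSet] using hc)

theorem isHausdorff_decaying' [IsHausdorff I M] : IsHausdorff I (decaying I Z M) :=
  ⟨fun f hf => by
    apply Subtype.ext; funext z
    exact IsHausdorff.haus ‹IsHausdorff I M› _ fun n => by
      rw [SModEq.sub_mem, sub_zero]
      exact decaying_apply_mem n f (by simpa [SModEq.sub_mem] using hf n) z⟩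

theorem mem_pow_smul_decaying_iff (hI : I.FG) [IsHausdorff I M] (n : ℕ) (f : decaying I Z M) :
    f ∈ (I ^ n • ⊤ : Submodule A (decaying I Z M)) ↔
      ∀ z, (f : Z → M) z ∈ (I ^ n • ⊤ : Submodule A M) := by
  classical
  refine ⟨decaying_apply_mem n f, fun hf => ?_⟩
  obtain ⟨s, hs⟩ := hI.pow (n := n)
  obtain ⟨h, hQ, hF⟩ := exists_maximal_level
    (fun z k => (f : Z → M) z ∈ (I ^ (n + k) • ⊤ : Submodule A M))
    (fun z (h : A → M) => ∑ a ∈ s, a • h a = (f : Z → M) z)
    (fun h k => ∀ a, h a ∈ (I ^ k • ⊤ : Submodule A M))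
    (fun z j k hjk hk => pow_smul_top_anti I (by omega) hk)
    (fun h j k hjk hk a => pow_smul_top_anti I hjk (hk a))
    (fun z => by
      have h1 : (f : Z → M) z ∈ Ideal.span (s : Set A) • (⊤ : Submodule A M) := by
        rw [hs]; exact hf z
      obtain ⟨h, -, hh⟩ := mem_smul_span_finset h1
      exact ⟨h, hh⟩)
    (fun z k hk => by
      have h1 : (f : Z → M) z ∈ Ideal.span (s : Set A) • (I ^ k • ⊤ : Submodule A M) := by
        rw [hs, ← Submodule.mul_smul, ← pow_add]; exact hk
      obtain ⟨h, hh', hh⟩ := mem_smul_span_finset h1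
      exact ⟨h, hh, hh'⟩)
    (fun z hz => ⟨0, by
      have : (f : Z → M) z = 0 := IsHausdorff.haus ‹IsHausdorff I M› _ fun k => by
        rw [SModEq.sub_mem, sub_zero]; exact pow_smul_top_anti I (by omega) (hz k)
      simp [this], fun k a => Submodule.zero_mem _⟩)
  let g : A → decaying I Z M := fun a => ⟨fun z => h z a, fun k => (f.2 (n + k)).subset
    fun z hz hc => hz (hF z k hc a)⟩
  have hfg : f = ∑ a ∈ s, a • g a := by
    apply Subtype.ext; funext z
    simp [g, hQ z]
  rw [hfg]
  refine Submodule.sum_mem _ fun a ha => Submodule.smul_mem_smul ?_ trivial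
  rw [← hs]; exact Submodule.subset_span ha

theorem isAdicComplete_decaying' (hI : I.FG) [IsAdicComplete I M] :
    IsAdicComplete I (decaying I Z M) := by
  have := isHausdorff_decaying' (A := A) (I := I) (Z := Z) (M := M)
  refine { prec' := fun F hF => ?_ }
  have hc : ∀ z {a b : ℕ}, a ≤ b → (F a : Z → M) z ≡ (F b : Z → M) z
      [SMOD (I ^ a • ⊤ : Submodule A M)] := by
    intro z a b hab
    rw [SModEq.sub_mem]
    exact decaying_apply_mem a (F a - F b) (SModEq.sub_mem.mp (hF hab)) z
  choose L hL using fun z =>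
    IsPrecomplete.prec (IsAdicComplete.toIsPrecomplete (I := I) (M := M))
      (f := fun n => (F n : Z → M) z) (hc z)
  have hLd : L ∈ decaying I Z M := fun n => ((F n).2 n).subset fun z hz hc' => hz (by
    have h := SModEq.sub_mem.mp (hL z n)
    simpa using Submodule.sub_mem _ hc' h)
  refine ⟨⟨L, hLd⟩, fun n => SModEq.sub_mem.mpr ((mem_pow_smul_decaying_iff hI n _).mpr fun z => ?_)⟩
  exact SModEq.sub_mem.mp (hL z n)

section sumMap

variable (I) in
/-- The `n`-th approximation of `sumMap`. -/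
noncomputable def sumMapAux (L : Z → M →ₗ[A] N) (n : ℕ) :
    decaying I Z M →ₗ[A] N ⧸ (I ^ n • ⊤ : Submodule A N) where
  toFun f := ∑ᶠ z, Submodule.Quotient.mk (L z ((f : Z → M) z))
  map_add' f g := by
    have hfin : ∀ f : decaying I Z M, (Function.support fun z =>
        (Submodule.Quotient.mk (L z ((f : Z → M) z)) : N ⧸ (I ^ n • ⊤ : Submodule A N))).Finite :=
      fun f => (f.2 n).subset fun z hz hc => hz
        ((Submodule.Quotient.mk_eq_zero _).mpr (map_pow_smul_top_le I (L z) n hc))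
    rw [← finsum_add_distrib (hfin f) (hfin g)]
    exact finsum_congr fun z => by simp
  map_smul' a f := by
    have hfin : (Function.support fun z =>
        (Submodule.Quotient.mk (L z ((f : Z → M) z)) : N ⧸ (I ^ n • ⊤ : Submodule A N))).Finite :=
      (f.2 n).subset fun z hz hc => hz
        ((Submodule.Quotient.mk_eq_zero _).mpr (map_pow_smul_top_le I (L z) n hc))
    rw [RingHom.id_apply, smul_finsum' a hfin]
    exact finsum_congr fun z => by simp

theorem sumMapAux_eq (L : Z → M →ₗ[A] N) (n : ℕ) (f : decaying I Z M) (S : Finset Z)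
    (hS : ∀ z, z ∉ S → (f : Z → M) z ∈ (I ^ n • ⊤ : Submodule A M)) :
    sumMapAux I L n f = Submodule.Quotient.mk (∑ z ∈ S, L z ((f : Z → M) z)) := by
  show (∑ᶠ z, _) = _
  rw [← Submodule.mkQ_apply, map_sum]
  refine finsum_eq_sum_of_support_subset _ fun z hz => ?_
  by_contra hc
  exact hz ((Submodule.Quotient.mk_eq_zero _).mpr (map_pow_smul_top_le I (L z) n (hS z hc)))

variable [IsAdicComplete I N]

theorem exists_sumMap (L : Z → M →ₗ[A] N) :
    ∃ φ : decaying I Z M →ₗ[A] N, ∀ (f : decaying I Z M) (n : ℕ) (S : Finset Z),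
      (∀ z, z ∉ S → (f : Z → M) z ∈ (I ^ n • ⊤ : Submodule A M)) →
      φ f - ∑ z ∈ S, L z ((f : Z → M) z) ∈ (I ^ n • ⊤ : Submodule A N) := by
  have hcompat : ∀ {m n : ℕ} (hle : m ≤ n),
      factorPow I N hle ∘ₗ sumMapAux I L n = sumMapAux I L m := by
    intro m n hle
    apply LinearMap.ext
    intro f
    rw [LinearMap.comp_apply,
      sumMapAux_eq L n f (badSet f n) (fun z => mem_of_notMem_badSet),
      sumMapAux_eq L m f (badSet f n) (fun z h => pow_smul_top_anti I hle (mem_of_notMem_badSet h))]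
    simp
  refine ⟨IsAdicComplete.lift I (sumMapAux I L) (fun h => hcompat h), fun f n S hS => ?_⟩
  rw [← Submodule.Quotient.eq]
  rw [IsAdicComplete.mk_lift I (f := sumMapAux I L) (fun h => hcompat h) n f,
    sumMapAux_eq L n f S hS]

end sumMap

variable (I Z M) in
/-- `single` as a linear map. -/
def singleₗ [DecidableEq Z] (z : Z) : M →ₗ[A] decaying I Z M :=
  (LinearMap.single A (fun _ : Z => M) z).codRestrict _ fun m => (single I z m).2

@[simp] theorem coe_singleₗ [DecidableEq Z] (z : Z) (m : M) :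
    ((singleₗ I Z M z m : decaying I Z M) : Z → M) = Pi.single z m := rfl

theorem singleₗ_eq [DecidableEq Z] (z : Z) (m : M) :
    singleₗ I Z M z m = single I z m := rfl

theorem sumMap_single [DecidableEq Z] [IsHausdorff I N] (L : Z → M →ₗ[A] N)
    (φ : decaying I Z M →ₗ[A] N)
    (hφ : ∀ (f : decaying I Z M) (n : ℕ) (S : Finset Z),
      (∀ z, z ∉ S → (f : Z → M) z ∈ (I ^ n • ⊤ : Submodule A M)) →
      φ f - ∑ z ∈ S, L z ((f : Z → M) z) ∈ (I ^ n • ⊤ : Submodule A N))
    (z : Z) (m : M) : φ (single I z m) = L z m := by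
  refine sub_eq_zero.mp (IsHausdorff.haus ‹IsHausdorff I N› _ fun n => ?_)
  rw [SModEq.sub_mem, sub_zero]
  have h := hφ (single I z m) n {z} fun z' hz' => by
    rw [coe_single, Pi.single_eq_of_ne (by simpa using hz')]
    exact Submodule.zero_mem _
  simpa using h

theorem sub_sum_single_mem (hI : I.FG) [IsHausdorff I M] [DecidableEq Z] (f : decaying I Z M)
    (n : ℕ) :
    f - ∑ z ∈ badSet f n, single I z ((f : Z → M) z) ∈
      (I ^ n • ⊤ : Submodule A (decaying I Z M)) := by
  rw [mem_pow_smul_decaying_iff hI]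
  intro z
  simp only [AddSubgroupClass.coe_sub, AddSubmonoidClass.coe_finsetSum, coe_single, Pi.sub_apply,
    Finset.sum_apply, Finset.sum_pi_single]
  split_ifs with h
  · simp
  · simpa using mem_of_notMem_badSet h

theorem decaying_hom_ext (hI : I.FG) [IsHausdorff I M] [IsHausdorff I N] [DecidableEq Z]
    (φ ψ : decaying I Z M →ₗ[A] N) (h : ∀ z m, φ (single I z m) = ψ (single I z m)) : φ = ψ := by
  apply LinearMap.ext; intro f
  refine sub_eq_zero.mp (IsHausdorff.haus ‹IsHausdorff I N› _ fun n => ?_)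
  rw [SModEq.sub_mem, sub_zero]
  have h1 := map_pow_smul_top_le I (φ - ψ) n (sub_sum_single_mem hI f n)
  simpa [h] using h1

theorem exists_decaying_lift [IsHausdorff I N] (φ : M →ₗ[A] N) (hφ : Function.Surjective φ)
    (g : Z → N) (hg : g ∈ decaying I Z N) :
    ∃ f : Z → M, f ∈ decaying I Z M ∧ ∀ z, φ (f z) = g z := by
  obtain ⟨f, hQ, hF⟩ := exists_maximal_level
    (fun z k => g z ∈ (I ^ k • ⊤ : Submodule A N))
    (fun z m => φ m = g z)
    (fun m k => m ∈ (I ^ k • ⊤ : Submodule A M))
    (fun z j k hjk hk => pow_smul_top_anti I hjk hk)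
    (fun h j k hjk hk => pow_smul_top_anti I hjk hk)
    (fun z => hφ (g z))
    (fun z k hk => by
      have h1 : g z ∈ (I ^ k • ⊤ : Submodule A M).map φ := by
        rw [Submodule.map_smul'', Submodule.map_top, LinearMap.range_eq_top.mpr hφ]; exact hk
      obtain ⟨m, hm, hmz⟩ := h1
      exact ⟨m, hmz, hm⟩)
    (fun z hz => ⟨0, by
      rw [map_zero]
      exact (IsHausdorff.haus ‹IsHausdorff I N› _ fun k => by
        rw [SModEq.sub_mem, sub_zero]; exact hz k).symm, fun k => Submodule.zero_mem _⟩)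
  exact ⟨f, fun n => (hg n).subset fun z hz hc => hz (hF z n hc), hQ⟩

variable (I Z) in
/-- Functoriality of decaying functions. -/
def decayingMap (φ : M →ₗ[A] N) : decaying I Z M →ₗ[A] decaying I Z N :=
  (φ.compLeft Z).restrict fun f hf n =>
    (hf n).subset fun _ hz hc => hz (map_pow_smul_top_le I φ n hc)

@[simp] theorem decayingMap_apply (φ : M →ₗ[A] N) (f : decaying I Z M) (z : Z) :
    (decayingMap I Z φ f : Z → N) z = φ ((f : Z → M) z) := rfl

variable (I Z) in
/-- Functoriality of decaying functions in isomorphisms. -/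
def decayingCongr (e : M ≃ₗ[A] N) : decaying I Z M ≃ₗ[A] decaying I Z N :=
  LinearEquiv.ofLinearMap (decayingMap I Z e.toLinearMap) (decayingMap I Z e.symm.toLinearMap)
    (by apply LinearMap.ext; intro f; apply Subtype.ext; funext z; simp)
    (by apply LinearMap.ext; intro f; apply Subtype.ext; funext z; simp)

section decayingPi

variable {ι : Type*} [Fintype ι]

theorem mem_decaying_of_pi (G : Z → ι → A) (hG : ∀ i, (fun z => G z i) ∈ decaying I Z A) :
    G ∈ decaying I Z (ι → A) := by
  classical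
  have : G = ∑ i, fun z => Pi.single i (G z i) := by
    funext z
    simp [Finset.sum_apply, Finset.univ_sum_single]
  rw [this]
  exact Submodule.sum_mem _ fun i _ =>
    (decayingMap I Z (LinearMap.single A (fun _ : ι => A) i) ⟨_, hG i⟩).2

end decayingPi

theorem exists_decaying_sum {ι : Type*} [Fintype ι] (m : ι → M)
    (hm : Submodule.span A (Set.range m) = ⊤) [IsHausdorff I M]
    (g : Z → M) (hg : g ∈ decaying I Z M) :
    ∃ c : ι → decaying I Z A, ∀ z, g z = ∑ i, (c i : Z → A) z • m i := by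
  have hs : Function.Surjective (Fintype.linearCombination A m) := by
    rw [← LinearMap.range_eq_top, Fintype.range_linearCombination, hm]
  obtain ⟨G, hG, hGg⟩ := exists_decaying_lift _ hs g hg
  refine ⟨fun i => ⟨fun z => G z i,
    (decayingMap I Z (LinearMap.proj i : (ι → A) →ₗ[A] A) ⟨G, hG⟩).2⟩, fun z => ?_⟩
  rw [← hGg z, Fintype.linearCombination_apply]

theorem mem_decaying_submodule_iff [IsNoetherianRing A] [Module.Finite A M] (P : Submodule A M)
    (f : Z → P) : f ∈ decaying I Z P ↔ (fun z => (f z : M)) ∈ decaying I Z M := by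
  refine ⟨fun hf => (decayingMap I Z P.subtype ⟨f, hf⟩).2, fun hf n => ?_⟩
  obtain ⟨c, hc⟩ := Ideal.exists_pow_inf_eq_pow_smul I P
  refine (hf (n + c)).subset fun z hz hc' => hz ?_
  have h1 : (f z : M) ∈ I ^ n • (I ^ c • ⊤ ⊓ P : Submodule A M) := by
    have h2 : (f z : M) ∈ (I ^ (n + c) • ⊤ ⊓ P : Submodule A M) := ⟨hc', (f z).2⟩
    rw [hc (n + c) (by omega), Nat.add_sub_cancel] at h2
    exact h2
  have h3 : (f z : M) ∈ I ^ n • P := (smul_mono_right _ inf_le_right : _ ≤ I ^ n • P) h1
  exact Submodule.mem_smul_top_iff (I ^ n) P (f z) |>.mpr h3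

end Groth.Agent.CAlg9
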