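import Mathlib.Algebra.Module.LocalizedModule.Basic
import Mathlib.RingTheory.Ideal.MinimalPrime.Localization
import Mathlib.RingTheory.Localization.AtPrime.Basic

/-! Modules modulo `π` and the components of the special fibre. -/

set_option autoImplicit false
universe u

namespace Groth.Agent.CAlg9

variable {A : Type u} [CommRing A] {ι : Type} (𝔓 : ι → Ideal A) [∀ i, (𝔓 i).IsPrime]
variable {M : Type u} [AddCommGroup M] [Module A M]

theorem mem_iInf_ker_iff (T : Set ι) (x : M) :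
    x ∈ (⨅ i ∈ T, LinearMap.ker (LocalizedModule.mkLinearMap (𝔓 i).primeCompl M)) ↔
      ∀ i ∈ T, ∃ s ∉ 𝔓 i, s • x = 0 := by
  simp only [Submodule.mem_iInf, LinearMap.mem_ker]
  refine forall₂_congr fun i _ => ?_
  rw [IsLocalizedModule.eq_zero_iff (𝔓 i).primeCompl]
  exact ⟨fun ⟨s, hs⟩ => ⟨s, s.2, hs⟩, fun ⟨s, hs, e⟩ => ⟨⟨s, hs⟩, e⟩⟩

theorem exists_smul_vanish [Finite ι] (π : A) (h𝔓 : ∀ i, 𝔓 i ∈ (Ideal.span {π}).minimalPrimes)
    (hinj : Function.Injective 𝔓) (Y : Set ι) {i : ι} (hi : i ∉ Y) :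
    ∃ t ∉ 𝔓 i, ∀ j ∈ Y, ∃ s ∉ 𝔓 j, s * t ∈ Ideal.span ({π} : Set A) := by
  classical
  have h : ∀ j, ∃ t ∉ 𝔓 i, j ≠ i → ∃ s ∉ 𝔓 j, s * t ∈ Ideal.span ({π} : Set A) := by
    intro j
    by_cases hji : j = i
    · exact ⟨1, (𝔓 i).ne_top_iff_one.mp (Ideal.IsPrime.ne_top inferInstance), fun h => absurd hji h⟩
    have hnle : ¬ 𝔓 j ≤ 𝔓 i := fun h => hji (hinj (le_antisymm h ((h𝔓 i).2 (h𝔓 j).1 h)))
    obtain ⟨a, haj, hai⟩ := SetLike.not_le_iff_exists.mp hnle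
    have hr := IsLocalization.AtPrime.radical_map_of_mem_minimalPrimes
      (A := Localization.AtPrime (𝔓 j)) (𝔓 j) (Ideal.span {π}) (h𝔓 j)
    have ha : algebraMap A (Localization.AtPrime (𝔓 j)) a ∈
        ((Ideal.span {π}).map (algebraMap A (Localization.AtPrime (𝔓 j)))).radical :=
      hr ▸ Ideal.mem_map_of_mem _ haj
    obtain ⟨N, hN⟩ := ha
    rw [← map_pow, IsLocalization.algebraMap_mem_map_algebraMap_iff (𝔓 j).primeCompl] at hN
    obtain ⟨s, hs, hsa⟩ := hN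
    exact ⟨a ^ N, fun hh => hai (‹∀ i, (𝔓 i).IsPrime› i |>.mem_of_pow_mem N hh), fun _ => ⟨s, hs, hsa⟩⟩
  choose t ht hts using h
  obtain ⟨_⟩ := nonempty_fintype ι
  refine ⟨∏ j, t j, fun h => ?_, fun j hj => ?_⟩
  · obtain ⟨j, -, hj⟩ := Ideal.IsPrime.prod_mem_iff.mp h
    exact ht j hj
  · obtain ⟨s, hs, hst⟩ := hts j (fun h => hi (h ▸ hj))
    refine ⟨s, hs, ?_⟩
    rw [← Finset.mul_prod_erase _ _ (Finset.mem_univ j), ← mul_assoc]
    exact Ideal.mul_mem_right _ _ hst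

end Groth.Agent.CAlg9
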