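import Mathlib
import Groth.Prelude.Def_CInt
import Groth.Prelude.Def_Coh
import Groth.Agent.LC15.Spread
import Groth.Agent.LC17.DepthLoc
import Groth.Agent.ZClos93.Depth
import Groth.Agent.EGA4Alg4.DepthChange

/-!
Openness of lower bounds for the depth along a closed set.
-/

set_option autoImplicit false
set_option linter.style.haveILetI false
universe u

open CategoryTheory AlgebraicGeometry TopologicalSpace

namespace Groth.Agent.CAlg9.DepthAlongOpen

open Groth.Agent.LC17 Groth.Agent.LC15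

theorem natCast_le_depth_model {A : Type u} [CommRing A] [IsNoetherianRing A] (p : Ideal A) [p.IsPrime]
    (S : Type u) [CommRing S] [Algebra A S] [IsLocalization.AtPrime S p] [IsLocalRing S]
    {M : Type u} [AddCommGroup M] [Module A M] [Module.Finite A M]
    {N : Type u} [AddCommGroup N] [Module A N] [Module S N] [IsScalarTower A S N]
    (f : M →ₗ[A] N) [IsLocalizedModule p.primeCompl f] (n : ℕ) :
    (n : ℕ∞) ≤ LocCoh.depth S N ↔ ∀ i, i < n → Nul p.primeCompl (LocCoh.H p i M) := by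
  rw [← natCast_le_depth_loc_iff (M := M) p n]
  let L := Localization.AtPrime p
  let e : L ≃ₐ[A] S := IsLocalization.algEquiv p.primeCompl L S
  letI algLS : Algebra L S := e.toAlgHom.toRingHom.toAlgebra
  letI : Module L N := Module.compHom N e.toAlgHom.toRingHom
  haveI : IsScalarTower L S N := IsScalarTower.of_algebraMap_smul fun r x => rfl
  haveI : IsScalarTower A L N := IsScalarTower.of_algebraMap_smul fun a x => by
    show e (algebraMap A L a) • x = a • x
    rw [AlgEquiv.commutes, algebraMap_smul]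
  haveI : IsNoetherianRing L := IsLocalization.isNoetherianRing p.primeCompl L inferInstance
  haveI : IsNoetherianRing S := IsLocalization.isNoetherianRing p.primeCompl S inferInstance
  haveI : IsLocalHom (algebraMap L S) := ⟨fun a ha => by
    have := ha.map e.symm.toAlgHom.toRingHom
    simpa [RingHom.algebraMap_toAlgebra, algLS] using this⟩
  let ι : LocalizedModule p.primeCompl M ≃ₗ[L] N :=
    (IsLocalizedModule.iso p.primeCompl f).extendScalarsOfIsLocalization p.primeCompl L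
  haveI : Module.Finite L N := Module.Finite.equiv ι
  haveI : Module.Finite S N := Module.Finite.of_restrictScalars_finite L S N
  rw [EGA4Alg4.depth_eq_of_equiv ι, EGA4Alg4.depth_eq_of_finite (A := L) (B := S) N]

/-- pointwise depth bounds below a prime give vanishing after localization -/
theorem nul_of_forall {R : Type u} [CommRing R] [IsNoetherianRing R] (a p : Ideal R) [p.IsPrime] :
    ∀ (n : ℕ) (M : Type u) [AddCommGroup M] [Module R M] [Module.Finite R M],
    (∀ q : Ideal R, ∀ [q.IsPrime], a ≤ q → q ≤ p → ∀ i, i < n → Nul q.primeCompl (LocCoh.H q i M)) →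
    ∀ i, i < n → Nul p.primeCompl (LocCoh.H a i M)
  | 0, M, _, _, _, _ => fun i hi => absurd hi (Nat.not_lt_zero i)
  | n + 1, M, _, _, _, h => by
    have h0 : Nul p.primeCompl (LocCoh.H a 0 M) := by
      rw [nul_H0_iff]
      intro m hm
      by_contra! hcon
      obtain ⟨q, hq, hmq, hdisj⟩ := exists_associated_disjoint (S := p.primeCompl) (y := m) hcon
      haveI := IsAssociatedPrime.isPrime hq
      obtain ⟨k, hk⟩ := hm
      have haq : a ≤ q := fun x hx =>
        (IsAssociatedPrime.isPrime hq).mem_of_pow_mem k (hmq _ (hk _ (Ideal.pow_mem_pow hx k)))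
      have hqp : q ≤ p := fun x hx => by
        by_contra hxp
        exact Set.disjoint_left.mp hdisj hx hxp
      obtain ⟨y, hy⟩ := exists_annihilator_mem hq
      exact not_nul_H0_of_associated q le_rfl hy (h q haq hqp 0 n.succ_pos)
    obtain ⟨x, hxa, hx⟩ := exists_regAt a h0
    refine (nul_step a hxa hx n).mpr (nul_of_forall a p n _ fun q _ haq hqp => ?_)
    have hx' : RegAt q.primeCompl x M := fun y => by
      obtain ⟨u, hu, huy⟩ := hx y
      exact ⟨u, fun h => hu (hqp h), huy⟩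
    exact (nul_step q (haq hxa) hx' n).mp (h q haq hqp)

theorem exists_notMem_forall {R : Type u} [CommRing R] [IsNoetherianRing R] (a p : Ideal R) [p.IsPrime]
    (n : ℕ) (M : Type u) [AddCommGroup M] [Module R M] [Module.Finite R M]
    (h : ∀ q : Ideal R, ∀ [q.IsPrime], a ≤ q → q ≤ p → ∀ i, i < n → Nul q.primeCompl (LocCoh.H q i M)) :
    ∃ f, f ∉ p ∧ ∀ q : Ideal R, ∀ [q.IsPrime], a ≤ q → f ∉ q → ∀ i, i < n → Nul q.primeCompl (LocCoh.H q i M) := by
  classical
  obtain ⟨f, hf, T, hT, -, htop⟩ := LC15.Spread.exists_spread p.primeCompl a n M (nul_of_forall a p n M h)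
  have hg : ∀ q : Ideal R, ∃ g, g ∉ p ∧ (¬ q ≤ p → g ∈ q) := fun q => by
    by_cases hq : q ≤ p
    · exact ⟨1, (Ideal.ne_top_iff_one p).1 (Ideal.IsPrime.ne_top ‹_›), fun h => absurd hq h⟩
    · obtain ⟨g, hg1, hg2⟩ := SetLike.not_le_iff_exists.1 hq
      exact ⟨g, hg2, fun _ => hg1⟩
  choose g hg1 hg2 using hg
  refine ⟨f * ∏ q ∈ hT.toFinset, g q, ?_, fun q _ haq hfq => ?_⟩
  · intro hmem
    rcases (Ideal.IsPrime.mem_or_mem ‹_› hmem) with h' | h'
    · exact hf h'
    · obtain ⟨q, -, hq⟩ := (Ideal.IsPrime.prod_mem_iff).1 h'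
      exact hg1 q hq
  have hfq' : f ∉ q := fun h' => hfq (q.mul_mem_right _ h')
  by_cases hqp : q ≤ p
  · exact h q haq hqp
  by_contra hcon
  have hqT := htop q haq hfq' fun h' => hcon fun i hi => h' i (by omega)
  exact hfq (q.mul_mem_left _ (Ideal.mem_of_dvd q (Finset.dvd_prod_of_mem g (hT.mem_toFinset.2 hqT)) (hg2 q hqp)))

theorem exists_nhd {X : Scheme.{u}} [IsLocallyNoetherian X] (F : X.Modules) (hF : Coh.IsCoh F) (Y : Set X)
    (hY : IsClosed Y) (n : ℕ) (y : X) (hn : (n : ℕ∞) ≤ CInt.depthAlong F Y y) :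
    ∃ W : X.Opens, y ∈ W ∧ ∀ w ∈ W, w ∈ Y → (n : ℕ∞) ≤ CInt.depthAlong F Y w := by
  obtain ⟨V, hyV⟩ := Div89.exists_affine_mem y
  haveI : IsNoetherianRing Γ(X, V.1) := IsLocallyNoetherian.component_noetherian V
  haveI := ZClos93.finite_sections_of_coh hF V
  let C : Set (PrimeSpectrum Γ(X, V.1)) := V.2.fromSpec ⁻¹' Y
  have hC : IsClosed C := hY.preimage V.2.fromSpec.continuous
  let a : Ideal Γ(X, V.1) := PrimeSpectrum.vanishingIdeal C
  have hpt : ∀ (z : X) (hz : z ∈ V.1), a ≤ Div89.primeAt V z hz ↔ z ∈ Y := by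
    intro z hz
    have h1 : V.2.primeIdealOf ⟨z, hz⟩ ∈ PrimeSpectrum.zeroLocus (a : Set Γ(X, V.1)) ↔ z ∈ Y := by
      rw [PrimeSpectrum.zeroLocus_vanishingIdeal_eq_closure, hC.closure_eq]
      show V.2.fromSpec (V.2.primeIdealOf ⟨z, hz⟩) ∈ Y ↔ z ∈ Y
      rw [V.2.fromSpec_primeIdealOf]
    exact h1
  have hdepth : ∀ (z : X) (hz : z ∈ V.1), (n : ℕ∞) ≤ LocCoh.depth (X.presheaf.stalk z) (F.presheaf.stalk z) ↔
      ∀ i, i < n → Nul (Div89.primeAt V z hz).primeCompl (LocCoh.H (Div89.primeAt V z hz) i Γ(F, V.1)) := by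
    intro z hz
    letI := Div89.stalkModule F V.1 z hz
    letI := Div89.stalkAlg V.1 z hz
    haveI := Div89.isLocalization_stalk V z hz
    haveI := Div89.isLocalizedModule_germLin F hF.1 V z hz
    haveI := Div89.isScalarTower_stalk F V.1 z hz
    exact natCast_le_depth_model (Div89.primeAt V z hz) _ (Div89.germLin F V.1 z hz) n
  obtain ⟨f, hf, hfq⟩ := exists_notMem_forall a (Div89.primeAt V y hyV) n Γ(F, V.1) fun q _ haq hqp => by
    obtain ⟨z, hz, rfl⟩ := Div89.exists_point V q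
    exact (hdepth z hz).1 (hn.trans (iInf_le _
      (⟨z, (hpt z hz).1 haq, (Div89.specializes_iff_primeAt_le V hyV hz).2 hqp⟩ : {z : X // z ∈ Y ∧ z ⤳ y})))
  refine ⟨X.basicOpen f, (Div89.mem_basicOpen_iff_notMem V y hyV f).2 hf, fun w hw _ => le_iInf fun ⟨z, hzY, hzw⟩ => ?_⟩
  have hzb : z ∈ X.basicOpen f := hzw.mem_open (X.basicOpen f).2 hw
  have hzV : z ∈ V.1 := X.basicOpen_le f hzb
  exact (hdepth z hzV).2 (hfq _ ((hpt z hzV).2 hzY) ((Div89.mem_basicOpen_iff_notMem V z hzV f).1 hzb))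

theorem exists_open_depthAlong_ge {X : Scheme.{u}} [IsLocallyNoetherian X] (F : X.Modules) (hF : Coh.IsCoh F)
    (Y : Set X) (hY : IsClosed Y) (n : ℕ) :
    ∃ U : X.Opens, ∀ y : X, y ∈ Y → (y ∈ U ↔ (n : ℕ∞) ≤ CInt.depthAlong F Y y) := by
  refine ⟨sSup {W : X.Opens | ∀ w ∈ W, w ∈ Y → (n : ℕ∞) ≤ CInt.depthAlong F Y w}, fun y hy => ⟨fun h => ?_, fun h => ?_⟩⟩
  · obtain ⟨W, hW, hyW⟩ := Opens.mem_sSup.1 h
    exact hW y hyW hy
  · obtain ⟨W, hyW, hW⟩ := exists_nhd F hF Y hY n y h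
    exact Opens.mem_sSup.2 ⟨W, hW, hyW⟩

end Groth.Agent.CAlg9.DepthAlongOpen
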