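import Groth.Prelude.Def_CAlgX
import Groth.Prelude.Def_EGA41
import Groth.Agent.Cohen12.Deform
import Groth.Agent.Cohen12.Completion
import Groth.Agent.FlatMor66.FlatDescentSource
import Groth.Agent.S2461
import Groth.Agent.S4537

/-! Formally smooth local homomorphisms of Noetherian local rings are flat. -/

set_option autoImplicit false

universe u

open IsLocalRing TensorProduct

namespace Groth.Agent.CAlg9

theorem isFormallySmoothAdic_of_isAdicFormallySmooth {A B : Type u} [CommRing A] [CommRing B] [Algebra A B]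
    (𝔞 : Ideal A) (𝔟 : Ideal B) (h : CAlgX.IsAdicFormallySmooth A B 𝔟) :
    EGA41.IsFormallySmoothAdic A 𝔞 B 𝔟 := by
  intro C _ _ J hJ _ u hu
  obtain ⟨n, hn⟩ := hJ
  exact S4537.result 𝔟 |>.mp h C J ⟨n, hn⟩ ⟨1, by rw [pow_one, Ideal.map_bot]⟩ u hu

theorem flat_of_complete {A B : Type u} [CommRing A] [IsLocalRing A] [IsNoetherianRing A]
    [CommRing B] [IsLocalRing B] [IsNoetherianRing B] [IsAdicComplete (maximalIdeal B) B]
    [Algebra A B] [IsLocalHom (algebraMap A B)]
    (h : CAlgX.IsAdicFormallySmooth A B (maximalIdeal B)) : Module.Flat A B := by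
  let e₀ : (A ⧸ (⊥ : Ideal A)) ≃+* A := RingEquiv.quotientBot A
  letI : Algebra (A ⧸ (⊥ : Ideal A)) B := ((algebraMap A B).comp e₀.toRingHom).toAlgebra
  have : IsLocalRing (A ⧸ (⊥ : Ideal A)) := e₀.symm.isLocalRing
  haveI : IsScalarTower A (A ⧸ (⊥ : Ideal A)) B := IsScalarTower.of_algebraMap_eq fun _ => rfl
  haveI : IsLocalHom (algebraMap (A ⧸ (⊥ : Ideal A)) B) := ⟨fun x hx => by
    have h1 : IsUnit (e₀ x) := isUnit_of_map_unit (algebraMap A B) _ hx
    simpa using h1.map e₀.symm⟩
  have h' : CAlgX.IsAdicFormallySmooth (A ⧸ (⊥ : Ideal A)) B (maximalIdeal B) := by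
    intro C _ _ J hJ ψ hψ
    letI : Algebra A C := ((algebraMap (A ⧸ (⊥ : Ideal A)) C).comp (Ideal.Quotient.mk ⊥)).toAlgebra
    haveI : IsScalarTower A (A ⧸ (⊥ : Ideal A)) C := IsScalarTower.of_algebraMap_eq fun _ => rfl
    haveI : IsScalarTower A (A ⧸ (⊥ : Ideal A)) (C ⧸ J) := IsScalarTower.of_algebraMap_eq fun _ => rfl
    obtain ⟨χ, hχ⟩ := h C J hJ (ψ.restrictScalars A) hψ
    exact ⟨χ.extendScalarsOfSurjective Ideal.Quotient.mk_surjective,
      AlgHom.ext fun x => AlgHom.congr_fun hχ x⟩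
  obtain ⟨B', _, _, _, _, _, -, hflat, ⟨θ⟩⟩ := Cohen12.exists_deformation (A := A) (J := ⊥) (B₀ := B) bot_le
    (isFormallySmoothAdic_of_isAdicFormallySmooth _ _ h')
  have : Module.Flat (A ⧸ (⊥ : Ideal A)) B := Module.Flat.of_linearEquiv θ.symm.toLinearEquiv
  have : Module.Flat A (A ⧸ (⊥ : Ideal A)) :=
    Module.Flat.of_linearEquiv (Submodule.quotEquivOfEqBot (⊥ : Ideal A) rfl)
  exact Module.Flat.trans A (A ⧸ (⊥ : Ideal A)) B

/-- A local homomorphism of Noetherian local rings which is formally smooth for the adic topology is flat. -/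
theorem flat_of_isAdicFormallySmooth {A B : Type u} [CommRing A] [IsLocalRing A] [IsNoetherianRing A]
    [CommRing B] [IsLocalRing B] [IsNoetherianRing B] [Algebra A B] [IsLocalHom (algebraMap A B)]
    (h : CAlgX.IsAdicFormallySmooth A B (maximalIdeal B)) : Module.Flat A B := by
  let Bh := AdicCompletion (maximalIdeal B) B
  haveI := Cohen12.isNoetherianRing_completion B
  haveI := Cohen12.isAdicComplete_completion B
  have hB : CAlgX.IsAdicFormallySmooth A Bh ((maximalIdeal B).map (algebraMap B Bh)) :=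
    (S4537.result _).mpr ((S2461.result ⊥ (maximalIdeal B)).mp ((S4537.result _).mp h))
  rw [← AdicCompletion.maximalIdeal_eq_map] at hB
  haveI : IsLocalHom (algebraMap B Bh) := ⟨fun z hz => by
    by_contra hz'
    have := (Cohen12.algebraMap_mem_pow_iff B 1 z).mpr (by rw [pow_one]; exact (mem_maximalIdeal _).mpr hz')
    rw [pow_one] at this
    exact this hz⟩
  haveI : IsLocalHom (algebraMap A Bh) := by
    rw [IsScalarTower.algebraMap_eq A B Bh]
    infer_instance
  haveI : Module.Flat A Bh := flat_of_complete hB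
  haveI : Module.Flat B Bh := AdicCompletion.flat_of_isNoetherian _
  haveI : Module.FaithfullyFlat B Bh := Module.FaithfullyFlat.of_flat_of_isLocalHom
  exact FlatMor66.flat_of_faithfullyFlat_top A B Bh

end Groth.Agent.CAlg9
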