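import Groth.Agent.EGA73.IntegralNormal
import Mathlib.RingTheory.IntegralClosure.GoingDown
import Mathlib.AlgebraicGeometry.Morphisms.Finite
import Mathlib.AlgebraicGeometry.Morphisms.QuasiFinite

/-!
Going down for finite surjective morphisms onto integral normal schemes, and components of closed sets.
-/

set_option autoImplicit false
universe u

open CategoryTheory AlgebraicGeometry TopologicalSpace

namespace Groth.Agent.CAlg9.FibreComponentLift

theorem exists_lift {W Z : Scheme.{u}} [IsIntegral W] [IsIntegral Z] (hZ : Pi1.IsNormalScheme Z)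
    (ψ : W ⟶ Z) [IsFinite ψ] [Surjective ψ] (w : W) (δ : Z) (h : δ ⤳ ψ w) :
    ∃ δ' : W, δ' ⤳ w ∧ ψ δ' = δ := by
  obtain ⟨_, ⟨(V : Z.Opens), hV, rfl⟩, (hwV : ψ w ∈ V), -⟩ :=
    Z.isBasis_affineOpens.exists_subset_of_mem_open (Set.mem_univ (ψ w)) isOpen_univ
  have hδV : δ ∈ V := h.mem_open V.2 hwV
  let U : W.Opens := ψ ⁻¹ᵁ V
  have hU : IsAffineOpen U := hV.preimage ψ
  let φ := ψ.appLE V U le_rfl
  have : Nonempty V := ⟨⟨ψ w, hwV⟩⟩
  have : Nonempty U := ⟨⟨w, hwV⟩⟩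
  have := EGA73.isIntegrallyClosed_sections hZ hV
  have hinj : Function.Injective φ.hom := by
    rw [injective_iff_map_eq_zero]
    intro s hs
    rw [← basicOpen_eq_bot_iff]
    have h1 : ψ ⁻¹ᵁ Z.basicOpen s = ⊥ := by
      rw [Scheme.preimage_basicOpen, basicOpen_eq_bot_iff]
      have h2 : φ = ψ.app V := by simp [φ, U, Scheme.Hom.appLE]
      rw [← h2]; exact hs
    ext z
    simp only [Opens.coe_bot, Set.mem_empty_iff_false, iff_false]
    intro hz
    obtain ⟨x, rfl⟩ := ψ.surjective z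
    have : x ∈ ψ ⁻¹ᵁ Z.basicOpen s := hz
    rw [h1] at this
    exact this
  have hfin : φ.hom.Finite := by
    have := IsFinite.finite_app ψ V hV
    simpa [φ, U, Scheme.Hom.appLE] using this
  algebraize [φ.hom]
  have : FaithfulSMul Γ(Z, V) Γ(W, U) := (faithfulSMul_iff_algebraMap_injective _ _).2 hinj
  have : Algebra.IsIntegral Γ(Z, V) Γ(W, U) := Algebra.IsIntegral.of_finite _ _
  let Q := (hU.primeIdealOf ⟨w, hwV⟩).asIdeal
  have hcomap : Q.under Γ(Z, V) = (hV.primeIdealOf ⟨ψ w, hwV⟩).asIdeal :=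
    congrArg PrimeSpectrum.asIdeal (IsAffineOpen.comap_primeIdealOf_appLE V hV U hU le_rfl hwV)
  let p := hV.primeIdealOf ⟨δ, hδV⟩
  have hle : p ≤ hV.primeIdealOf ⟨ψ w, hwV⟩ :=
    (PrimeSpectrum.le_iff_specializes _ _).2 (hV.fromSpec.isEmbedding.isInducing.specializes_iff.1 (by
      rw [IsAffineOpen.fromSpec_primeIdealOf, IsAffineOpen.fromSpec_primeIdealOf]
      exact h))
  have : Q.LiesOver (Q.under Γ(Z, V)) := ⟨rfl⟩
  obtain ⟨q, hqQ, hqp, hover⟩ := Ideal.exists_ideal_le_liesOver_of_le (p := p.asIdeal)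
    (q := Q.under Γ(Z, V)) Q (hcomap ▸ hle)
  refine ⟨hU.fromSpec ⟨q, hqp⟩, ?_, ?_⟩
  · have : (⟨q, hqp⟩ : PrimeSpectrum Γ(W, U)) ⤳ hU.primeIdealOf ⟨w, hwV⟩ :=
      (PrimeSpectrum.le_iff_specializes _ _).1 hqQ
    have h2 := this.map hU.fromSpec.continuous
    rwa [IsAffineOpen.fromSpec_primeIdealOf] at h2
  · have h1 : ψ (hU.fromSpec ⟨q, hqp⟩) = hV.fromSpec (Spec.map φ ⟨q, hqp⟩) := by
      rw [← Scheme.Hom.comp_apply, ← IsAffineOpen.SpecMap_appLE_fromSpec ψ hV hU le_rfl]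
      rfl
    rw [h1, show Spec.map φ ⟨q, hqp⟩ = p from PrimeSpectrum.ext hover.over.symm, IsAffineOpen.fromSpec_primeIdealOf]

theorem eq_of_specializes {W Z : Scheme.{u}} (ψ : W ⟶ Z) [IsFinite ψ] {a b : W} (h : a ⤳ b) (e : ψ a = ψ b) :
    a = b := by
  have := (ψ.isDiscrete_preimage_singleton (ψ b)).to_subtype
  exact congrArg Subtype.val (Specializes.eq (subtype_specializes_iff
    (x := (⟨a, e⟩ : ψ ⁻¹' {ψ b})) (y := ⟨b, rfl⟩) |>.mpr h))

theorem exists_component {W Z : Scheme.{u}} [IsIntegral W] [IsIntegral Z] (hZ : Pi1.IsNormalScheme Z)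
    (ψ : W ⟶ Z) [IsFinite ψ] [Surjective ψ] {T : Set Z} (hT : IsClosed T) (w : W)
    {Δ : Set Z} (hΔ : Maximal (fun S : Set Z => IsIrreducible S ∧ S ⊆ T) Δ) (hw : ψ w ∈ Δ) :
    ∃ Γ, Maximal (fun S : Set W => IsIrreducible S ∧ S ⊆ ψ ⁻¹' T) Γ ∧ w ∈ Γ ∧ ψ '' Γ = Δ := by
  obtain ⟨⟨hirr, hΔT⟩, hmax⟩ := hΔ
  have hcl : closure Δ = Δ :=
    (hmax ⟨hirr.closure, closure_minimal hΔT hT⟩ subset_closure).antisymm subset_closure
  let δ := hirr.genericPoint
  have hδ : closure {δ} = Δ := hirr.genericPoint_closure_eq.trans hcl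
  obtain ⟨δ', hδ'w, hδ'⟩ := exists_lift hZ ψ w δ (specializes_iff_mem_closure.2 (hδ.symm ▸ hw))
  have himg : ψ '' closure {δ'} = Δ := by
    rw [← ψ.isClosedMap.closure_image_eq_of_continuous ψ.continuous, Set.image_singleton, hδ', hδ]
  refine ⟨closure {δ'}, ⟨⟨isIrreducible_singleton.closure, ?_⟩, fun S hS hle => ?_⟩,
    specializes_iff_mem_closure.1 hδ'w, himg⟩
  · rw [← Set.image_subset_iff, himg]; exact hΔT
  · let s := hS.1.genericPoint
    have hs : closure {s} = closure S := hS.1.genericPoint_closure_eq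
    have hsS : s ∈ closure S := hs ▸ subset_closure rfl
    have hsd : s ⤳ δ' := specializes_iff_mem_closure.2 (hs.symm ▸ subset_closure (hle (subset_closure rfl)))
    have hsT : ψ s ∈ T := closure_minimal hS.2 (hT.preimage ψ.continuous) hsS
    have h1 : δ ∈ closure {ψ s} := hδ' ▸ specializes_iff_mem_closure.1 (hsd.map ψ.continuous)
    have h2 : Δ ⊆ closure {ψ s} := hδ ▸ closure_minimal (Set.singleton_subset_iff.2 h1) isClosed_closure
    have h3 : closure {ψ s} ⊆ Δ :=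
      hmax ⟨isIrreducible_singleton.closure, closure_minimal (Set.singleton_subset_iff.2 hsT) hT⟩ h2
    have h4 : δ ⤳ ψ s := specializes_iff_mem_closure.2 (hδ.symm ▸ h3 (subset_closure rfl))
    have h5 : ψ s = ψ δ' := by
      rw [hδ']
      exact ((specializes_iff_mem_closure.2 h1).antisymm h4).eq
    have := eq_of_specializes ψ hsd h5
    rw [← this, hs]
    exact subset_closure

end Groth.Agent.CAlg9.FibreComponentLift
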