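import Groth.Agent.Fib62.FibreRegular
import Groth.Agent.EGA4Alg4.DepthChange
import Groth.Agent.CAlg9.DepthAlongOpen

/-!
Depth of fibre modules in terms of sequences of the total ring.
-/

set_option autoImplicit false
set_option linter.style.haveILetI false
universe u

open IsLocalRing RingTheory.Sequence TensorProduct Pointwise

namespace Groth.Agent.CAlg9.FibreDepth

theorem smul_top_eq_of_associated {L : Type u} [CommRing L] {N : Type u} [AddCommGroup N] [Module L N]
    {a b : L} (h : Associated a b) : a • (⊤ : Submodule L N) = b • ⊤ := by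
  rw [← Submodule.ideal_span_singleton_smul, ← Submodule.ideal_span_singleton_smul]
  obtain ⟨u, rfl⟩ := h
  rw [Ideal.span_singleton_mul_right_unit u.isUnit]

theorem isWeaklyRegular_of_associated {L : Type u} [CommRing L] {rs ss : List L}
    (h : List.Forall₂ Associated rs ss) :
    ∀ {N : Type u} [AddCommGroup N] [Module L N], IsWeaklyRegular N rs → IsWeaklyRegular N ss := by
  induction h with
  | nil => exact fun {N} _ _ _ => IsWeaklyRegular.nil L N
  | @cons a b as bs hab _ ih =>
    intro N _ _ hN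
    rw [isWeaklyRegular_cons_iff] at hN ⊢
    obtain ⟨u, rfl⟩ := hab
    refine ⟨fun x y hxy => hN.1 (u.isUnit.smul_left_cancel.1 ?_), ?_⟩
    · simpa only [smul_smul, mul_comm] using hxy
    · exact (LinearEquiv.isWeaklyRegular_congr
        (Submodule.quotEquivOfEq _ _ (smul_top_eq_of_associated (Associated.refl a |>.trans ⟨u, rfl⟩))) bs).1 (ih hN.2)

/-- Depth at least `n` gives a weakly regular sequence coming from `C`. -/
theorem exists_list_of_le_idealDepth {C L : Type u} [CommRing C] [CommRing L] [IsLocalRing L]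
    (φ : C →+* L) (a : Ideal C) (hm : a.map φ ≤ maximalIdeal L)
    (hass : ∀ r ∈ a.map φ, ∃ c ∈ a, Associated r (φ c))
    {N : Type u} [AddCommGroup N] [Module L N] [Module.Finite L N] (n : ℕ)
    (h : (n : ℕ∞) ≤ LocCoh.idealDepth (a.map φ) N) :
    ∃ gs : List C, gs.length = n ∧ (∀ g ∈ gs, g ∈ a) ∧ IsWeaklyRegular N (gs.map φ) := by
  rcases subsingleton_or_nontrivial N with hN | hN
  · refine ⟨List.replicate n 0, by simp, fun g hg => ?_, ?_⟩
    · rw [List.eq_of_mem_replicate hg]; exact zero_mem a
    · rw [isWeaklyRegular_iff]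
      intro i _
      exact fun x y _ => Subsingleton.elim x y
  rcases n with _ | n
  · exact ⟨[], rfl, by simp, IsWeaklyRegular.nil L N⟩
  have hne : a.map φ • (⊤ : Submodule L N) ≠ ⊤ := (EGA4Alg4.smul_top_lt_top _ hm).ne
  rw [LocCoh.idealDepth, if_neg hne] at h
  have hlt : (n : ℕ∞) < ⨆ (rs : List L) (_ : IsWeaklyRegular N rs ∧ ∀ r ∈ rs, r ∈ a.map φ),
      (rs.length : ℕ∞) := lt_of_lt_of_le (by exact_mod_cast Nat.lt_succ_self n) h
  obtain ⟨rs, hrs⟩ := lt_iSup_iff.mp hlt
  obtain ⟨⟨hreg, hmem⟩, hlen⟩ := lt_iSup_iff.mp hrs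
  have hlen' : n + 1 ≤ rs.length := Nat.succ_le_of_lt (by exact_mod_cast hlen)
  have hmem' : ∀ r ∈ rs.take (n + 1), r ∈ a.map φ := fun r hr => hmem r (List.mem_of_mem_take hr)
  choose! c hca hcr using hass
  refine ⟨(rs.take (n + 1)).map c, by simp [hlen'], ?_, ?_⟩
  · rintro g hg
    obtain ⟨r, hr, rfl⟩ := List.mem_map.1 hg
    exact hca r (hmem' r hr)
  · refine isWeaklyRegular_of_associated ?_ (EGA4Alg4.isWeaklyRegular_take hreg (n + 1))
    rw [List.map_map, List.forall₂_map_right_iff, List.forall₂_same]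
    exact fun r hr => hcr r (hmem' r hr)

theorem natCast_le_depth_of_list {C L : Type u} [CommRing C] [CommRing L] [IsLocalRing L] [IsNoetherianRing L]
    (φ : C →+* L) {N : Type u} [AddCommGroup N] [Module L N] [Module.Finite L N] (gs : List C)
    (hmem : ∀ g ∈ gs, φ g ∈ maximalIdeal L) (h : IsWeaklyRegular N (gs.map φ)) :
    (gs.length : ℕ∞) ≤ LocCoh.depth L N := by
  rcases subsingleton_or_nontrivial N with hN | hN
  · rw [EGA4Alg4.depth_of_subsingleton]; exact le_top
  · have := EGA4Alg4.length_le_depth h (by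
      intro r hr
      obtain ⟨g, hg, rfl⟩ := List.mem_map.1 hr
      exact hmem g hg)
    simpa using this

/-- Elements of an extended ideal along a localization followed by a surjection. -/
theorem associated_of_mem_map {C O L : Type u} [CommRing C] [CommRing O] [CommRing L] [Algebra C O]
    (S : Submonoid C) [IsLocalization S O] (π : O →+* L) (hπ : Function.Surjective π) (a : Ideal C)
    {r : L} (hr : r ∈ a.map (π.comp (algebraMap C O))) :
    ∃ c ∈ a, Associated r (π (algebraMap C O c)) := by
  rw [← Ideal.map_map, Ideal.mem_map_iff_of_surjective π hπ] at hr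
  obtain ⟨o, ho, rfl⟩ := hr
  obtain ⟨⟨c, s⟩, hcs⟩ := (IsLocalization.mem_map_algebraMap_iff S O).1 ho
  exact ⟨c, c.2, ((IsLocalization.map_units O s).map π).unit, by
    rw [IsUnit.unit_spec, ← map_mul, hcs]⟩

/-- Vanishing of local cohomology after localizing gives a weakly regular sequence coming from `C`. -/
theorem exists_list_loc {C R : Type u} [CommRing C] [CommRing R] [Algebra C R] [IsNoetherianRing R]
    (a : Ideal C) (Q : Ideal R) [Q.IsPrime] (haQ : a.map (algebraMap C R) ≤ Q)
    (hass : ∀ r ∈ a.map (algebraMap C (Localization.AtPrime Q)),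
      ∃ c ∈ a, Associated r (algebraMap C (Localization.AtPrime Q) c))
    {N : Type u} [AddCommGroup N] [Module R N] [Module.Finite R N] (n : ℕ)
    (h : ∀ i, i < n → LC17.Nul Q.primeCompl (LocCoh.H (a.map (algebraMap C R)) i N)) :
    ∃ gs : List C, gs.length = n ∧ (∀ g ∈ gs, g ∈ a) ∧
      IsWeaklyRegular (LocalizedModule Q.primeCompl N) (gs.map (algebraMap C (Localization.AtPrime Q))) := by
  haveI : Module.Finite (Localization.AtPrime Q) (LocalizedModule Q.primeCompl N) :=
    Module.Finite.of_isLocalizedModule Q.primeCompl (LocalizedModule.mkLinearMap Q.primeCompl N)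
  have hdepth := (LC17.natCast_le_idealDepth_loc_iff Q.primeCompl (a.map (algebraMap C R)) n N).2 h
  rw [Ideal.map_map, ← IsScalarTower.algebraMap_eq C R (Localization.AtPrime Q)] at hdepth
  exact exists_list_of_le_idealDepth (L := Localization.AtPrime Q) (algebraMap C (Localization.AtPrime Q)) a
    (Ideal.map_le_iff_le_comap.2 fun c hc => by
      rw [Ideal.mem_comap, IsScalarTower.algebraMap_apply C R (Localization.AtPrime Q),
        IsLocalization.AtPrime.to_map_mem_maximal_iff (Localization.AtPrime Q) Q]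
      exact haQ (Ideal.mem_map_of_mem _ hc))
    hass (N := LocalizedModule Q.primeCompl N) n hdepth

attribute [local instance] Algebra.TensorProduct.rightAlgebra

open Groth.Agent.Fib62 Groth.Agent.LC17

section
variable {A C : Type u} [CommRing A] [CommRing C] [Algebra A C]

/-- Every prime of a fibre ring is the fibre point of its trace on `C`. -/
theorem fibre_prime_aux (p : Ideal A) [p.IsPrime] (q : PrimeSpectrum (p.Fiber C)) :
    (q.asIdeal.comap (algebraMap C (p.Fiber C))).under A = p :=
  congrArg PrimeSpectrum.asIdeal ((PrimeSpectrum.preimageEquivFiber A C ⟨p, inferInstance⟩).symm q).2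

theorem weaklyRegular_fibre_congr (M : Type u) [AddCommGroup M] [Module C M] (gs : List C)
    (p : Ideal A) [p.IsPrime] (q : PrimeSpectrum (p.Fiber C)) (P : PrimeSpectrum C)
    (hq : q.asIdeal.comap (algebraMap C (p.Fiber C)) = P.asIdeal)
    (h : IsWeaklyRegular (FibreLocal A P ⊗[C] M) gs) :
    IsWeaklyRegular (Localization.AtPrime q.asIdeal ⊗[C] M) gs := by
  obtain rfl : p = P.asIdeal.under A := by rw [← hq, fibre_prime_aux]
  obtain rfl : q = fibrePoint (A := A) P := by
    apply (PrimeSpectrum.preimageEquivFiber A C ⟨P.asIdeal.under A, inferInstance⟩).symm.injective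
    apply Subtype.ext
    apply PrimeSpectrum.ext
    exact hq.trans (comap_fibrePoint P).symm
  exact h

theorem natCast_le_idealDepth_fibre [Algebra.FiniteType A C] (M : Type u) [AddCommGroup M] [Module C M]
    [Module.Finite C M] (a : Ideal C) (P : PrimeSpectrum C) (haP : a ≤ P.asIdeal) (n : ℕ)
    (h : ∀ P' : PrimeSpectrum C, a ≤ P'.asIdeal → P'.asIdeal ≤ P.asIdeal →
      P'.asIdeal.under A = P.asIdeal.under A → ∃ gs : List C, gs.length = n ∧
        (∀ g ∈ gs, g ∈ P'.asIdeal) ∧ IsWeaklyRegular (FibreLocal A P' ⊗[C] M) gs) :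
    ∃ gs : List C, gs.length = n ∧ (∀ g ∈ gs, g ∈ a) ∧ IsWeaklyRegular (FibreLocal A P ⊗[C] M) gs := by
  let p := P.asIdeal.under A
  let R := p.Fiber C
  let Q := fibrePoint (A := A) P
  let L := FibreLocal A P
  haveI : IsNoetherianRing R := Algebra.FiniteType.isNoetherianRing p.ResidueField R
  let N := R ⊗[C] M
  haveI : Module.Finite R N := Module.Finite.base_change C R M
  haveI : IsNoetherianRing L := IsLocalization.isNoetherianRing Q.asIdeal.primeCompl L inferInstance
  let ā := a.map (algebraMap C R)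
  have hnul : ∀ q : Ideal R, ∀ [q.IsPrime], ā ≤ q → q ≤ Q.asIdeal → ∀ i, i < n →
      Nul q.primeCompl (LocCoh.H q i N) := by
    intro q _ haq hqQ
    let P' : PrimeSpectrum C := ⟨q.comap (algebraMap C R), inferInstance⟩
    obtain ⟨gs, hlen, hmem, hreg⟩ := h P' (Ideal.map_le_iff_le_comap.1 haq)
      ((Ideal.comap_mono hqQ).trans (comap_fibrePoint P).le) (fibre_prime_aux p ⟨q, inferInstance⟩)
    have hreg' := weaklyRegular_fibre_congr M gs p ⟨q, inferInstance⟩ P' rfl hreg
    let Lq := Localization.AtPrime q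
    let e : LocalizedModule q.primeCompl N ≃ₗ[Lq] Lq ⊗[C] M :=
      LocalizedModule.equivTensorProduct q.primeCompl N ≪≫ₗ
        AlgebraTensorModule.cancelBaseChange C R Lq Lq M
    refine (natCast_le_depth_loc_iff q n).1 ?_
    haveI : IsNoetherianRing Lq := IsLocalization.isNoetherianRing q.primeCompl Lq inferInstance
    rw [EGA4Alg4.depth_eq_of_equiv (A := Lq) (N := Lq ⊗[C] M) e, ← hlen]
    refine natCast_le_depth_of_list (algebraMap C Lq) gs (fun g hg => ?_)
      ((isWeaklyRegular_map_algebraMap_iff (S := Lq) (M := Lq ⊗[C] M) gs).2 hreg')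
    rw [IsScalarTower.algebraMap_apply C R Lq, IsLocalization.AtPrime.to_map_mem_maximal_iff Lq q]
    exact hmem g hg
  obtain ⟨τ, hτ, -⟩ := exists_surjective_fibreLocal (A := A) P
  let e : LocalizedModule Q.asIdeal.primeCompl N ≃ₗ[L] L ⊗[C] M :=
    LocalizedModule.equivTensorProduct Q.asIdeal.primeCompl N ≪≫ₗ
      AlgebraTensorModule.cancelBaseChange C R L L M
  have hass : ∀ r ∈ a.map (algebraMap C L), ∃ c ∈ a, Associated r (algebraMap C L c) := fun r hr => by
    obtain ⟨c, hc, hcr⟩ := associated_of_mem_map P.asIdeal.primeCompl τ.toRingHom hτ a (r := r)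
      (by rwa [show τ.toRingHom.comp (algebraMap C (Localization.AtPrime P.asIdeal)) = algebraMap C L from
        RingHom.ext τ.commutes])
    exact ⟨c, hc, by simpa using hcr⟩
  obtain ⟨gs, hlen, hmem, hreg⟩ := exists_list_loc a Q.asIdeal
    (Ideal.map_le_iff_le_comap.2 (haP.trans (comap_fibrePoint (A := A) P).ge)) hass n
    (DepthAlongOpen.nul_of_forall ā Q.asIdeal n N hnul)
  refine ⟨gs, hlen, hmem, ?_⟩
  exact (LinearEquiv.isWeaklyRegular_congr (e.restrictScalars C) gs).1
    ((isWeaklyRegular_map_algebraMap_iff (S := L) (M := LocalizedModule Q.asIdeal.primeCompl N) gs).1 hreg)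

end

end Groth.Agent.CAlg9.FibreDepth
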