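import Groth.Agent.CAlg9.FibreDepthBC
import Groth.Agent.Stage62.ModuleModel
import Groth.Agent.FlatStage64.Main

/-!
Noetherian models of flat finitely presented modules together with an ideal.
-/

set_option autoImplicit false
set_option linter.style.haveILetI false
universe u

open TensorProduct

namespace Groth.Agent.CAlg9.FibreDepth

attribute [local instance] Algebra.TensorProduct.rightAlgebra

open Groth.Agent.Stage62

section

variable {A₀ A B₀ B : Type u} [CommRing A₀] [CommRing A] [CommRing B₀] [CommRing B] [Algebra A₀ A]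
  [Algebra A₀ B₀] [Algebra A B] [Algebra B₀ B] [Algebra A₀ B] [IsScalarTower A₀ B₀ B] [IsScalarTower A₀ A B]
  (e : A ⊗[A₀] B₀ ≃ₐ[A] B) (he : ∀ b, e (1 ⊗ₜ b) = algebraMap B₀ B b)

include he in
theorem isPushout_of_model : Algebra.IsPushout A₀ A B₀ B :=
  Algebra.IsPushout.of_equiv (h := inferInstanceAs (Algebra.IsPushout A₀ A B₀ (A ⊗[A₀] B₀))) e
    (RingHom.ext he)

omit [Algebra B₀ B] [Algebra A₀ B] [IsScalarTower A₀ B₀ B] [IsScalarTower A₀ A B] in
theorem quotEquiv_tmul {m : ℕ} {κ : Type u} (l : κ → Fin m → B₀) (a : A) (v : Fin m → B₀) :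
    quotEquiv e l (a ⊗ₜ Submodule.Quotient.mk v) = a • Submodule.Quotient.mk (coord e v) := by
  rw [show a ⊗ₜ[A₀] (Submodule.Quotient.mk v : (Fin m → B₀) ⧸ Submodule.span B₀ (Set.range l)) =
    a • ((1 : A) ⊗ₜ[A₀] Submodule.Quotient.mk v) by rw [TensorProduct.smul_tmul', smul_eq_mul, mul_one], map_smul]
  congr 1
  simp only [quotEquiv, LinearEquiv.trans_apply]
  have h1 : ((Submodule.Quotient.restrictScalarsEquiv A₀ (Submodule.span B₀ (Set.range l))).symm.baseChange A₀ A _ _)
      ((1 : A) ⊗ₜ[A₀] Submodule.Quotient.mk v) =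
      (1 : A) ⊗ₜ[A₀] ((Submodule.span B₀ (Set.range l)).restrictScalars A₀).mkQ v := rfl
  rw [h1]
  have h2 := (Function.Exact.linearEquivOfSurjective
      (f := ((Submodule.span B₀ (Set.range l)).restrictScalars A₀).subtype.baseChange A)
      (g := ((Submodule.span B₀ (Set.range l)).restrictScalars A₀).mkQ.baseChange A)
      (lTensor_exact A (LinearMap.exact_subtype_mkQ _) (Submodule.mkQ_surjective _))
      (LinearMap.lTensor_surjective A (Submodule.mkQ_surjective _))).symm_apply_apply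
        (Submodule.Quotient.mk ((1 : A) ⊗ₜ[A₀] v))
  erw [h2]
  rw [Submodule.Quotient.equiv_apply]
  show Submodule.Quotient.mk (coordEquiv e ((1 : A) ⊗ₜ v)) = _
  rw [coordEquiv_tmul, one_smul]
  rfl

end

variable {A B M : Type u} [CommRing A] [CommRing B] [Algebra A B] [Algebra.FinitePresentation A B]
  [AddCommGroup M] [Module B M] [Module A M] [IsScalarTower A B M] [Module.FinitePresentation B M] [Module.Flat A M]

set_option maxHeartbeats 1000000 in
omit [Module.Flat A M] in
theorem exists_model_mem (s : Finset B) :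
    ∃ (D : Subalgebra ℤ A) (_ : IsNoetherianRing D) (B₀ : Type u) (_ : CommRing B₀)
      (_ : Algebra D B₀) (_ : Algebra.FinitePresentation D B₀) (_ : Algebra B₀ B)
      (_ : IsScalarTower D B₀ B) (_ : Algebra.IsPushout D A B₀ B)
      (M₀ : Type u) (_ : AddCommGroup M₀) (_ : Module B₀ M₀) (_ : Module D M₀) (_ : IsScalarTower D B₀ M₀)
      (_ : Module.Finite B₀ M₀) (_ : A ⊗[D] M₀ ≃ₗ[A] M) (_ : B ⊗[B₀] M₀ ≃ₗ[B] M),
      ↑s ⊆ Set.range (algebraMap B₀ B) := by
  classical
  obtain ⟨m, π, hπ⟩ := Module.Finite.exists_fin' B M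
  obtain ⟨w, hw⟩ := (Module.FinitePresentation.fg_ker π hπ : (LinearMap.ker π).FG)
  obtain ⟨A₀, B₀, _, _, e, hN, hB₀, hsub⟩ :=
    Cons62.exists_model (A := A) (B := B) (t := (⋃ v ∈ (w : Set (Fin m → B)), Set.range v) ∪ ↑s)
      ((w.finite_toSet.biUnion fun v _ => Set.finite_range v).union s.finite_toSet)
  choose l hl using fun (v : ↥(w : Set (Fin m → B))) (i : Fin m) => hsub (Or.inl (Set.mem_biUnion v.2 ⟨i, rfl⟩))
  have hspan : Submodule.span B (Set.range fun v => coord e (l v)) = LinearMap.ker π := by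
    rw [← hw]
    congr 1
    have : (fun v => coord e (l v)) = fun v => v.1 := funext fun v => funext (hl v)
    rw [this, Subtype.range_coe]
  letI : Algebra B₀ B := (e.toAlgHom.toRingHom.comp (Algebra.TensorProduct.includeRight :
    B₀ →ₐ[A₀] A ⊗[A₀] B₀).toRingHom).toAlgebra
  have he : ∀ b, e (1 ⊗ₜ b) = algebraMap B₀ B b := fun _ => rfl
  haveI : IsScalarTower A₀ B₀ B := IsScalarTower.of_algebraMap_eq fun a => by
    rw [← he, Algebra.algebraMap_eq_smul_one (R := A₀) (A := B₀), ← smul_tmul, ← Algebra.algebraMap_eq_smul_one,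
      IsScalarTower.algebraMap_apply A₀ A B]
    exact (e.commutes _).symm
  haveI hpB : Algebra.IsPushout A₀ A B₀ B := isPushout_of_model e he
  let M₀ := (Fin m → B₀) ⧸ Submodule.span B₀ (Set.range l)
  haveI : IsNoetherianRing B₀ := Algebra.FiniteType.isNoetherianRing A₀ B₀
  -- the comparison map
  letI : Module B₀ M := Module.compHom M (algebraMap B₀ B)
  haveI : IsScalarTower B₀ B M := IsScalarTower.of_algebraMap_smul fun _ _ => rfl
  let cl : (Fin m → B₀) →ₗ[B₀] M :=
    (π.restrictScalars B₀).comp ((Algebra.linearMap B₀ B).compLeft (Fin m))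
  have hcl : ∀ v, cl v = π (coord e v) := fun _ => rfl
  let g : M₀ →ₗ[B₀] M := Submodule.liftQ _ cl (Submodule.span_le.2 (by
    rintro _ ⟨k, rfl⟩
    rw [SetLike.mem_coe, LinearMap.mem_ker, hcl, ← LinearMap.mem_ker, ← hspan]
    exact Submodule.subset_span ⟨k, rfl⟩))
  let Φ : B ⊗[B₀] M₀ →ₗ[B] M := g.liftBaseChange B
  let E : A ⊗[A₀] M₀ ≃ₗ[A] M := quotEquiv e l ≪≫ₗ (Submodule.quotEquivOfEq _ _ hspan).restrictScalars A ≪≫ₗ
      (π.quotKerEquivOfSurjective hπ).restrictScalars A
  have key : ∀ t, Φ ((Algebra.IsPushout.cancelBaseChange A₀ A B₀ B M₀).symm t) = E t := by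
    intro t
    induction t using TensorProduct.induction_on with
    | zero => simp only [map_zero]
    | add x y hx hy => simp only [map_add, hx, hy]
    | tmul a x =>
      obtain ⟨v, rfl⟩ := Submodule.Quotient.mk_surjective _ x
      rw [Algebra.IsPushout.cancelBaseChange_symm_tmul]
      show algebraMap A B a • π (coord e v) =
        ((π.quotKerEquivOfSurjective hπ).restrictScalars A)
          (((Submodule.quotEquivOfEq _ _ hspan).restrictScalars A) (quotEquiv e l (a ⊗ₜ Submodule.Quotient.mk v)))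
      rw [quotEquiv_tmul, map_smul, map_smul, algebraMap_smul]
      rfl
  have hΦ : Function.Bijective Φ := by
    have : Φ = fun x => E (Algebra.IsPushout.cancelBaseChange A₀ A B₀ B M₀ x) := funext fun x => by
      rw [← key, LinearEquiv.symm_apply_apply]
    show Function.Bijective ⇑Φ
    rw [this]
    exact E.bijective.comp (Algebra.IsPushout.cancelBaseChange A₀ A B₀ B M₀).bijective
  exact ⟨A₀, inferInstance, B₀, inferInstance, inferInstance, inferInstance, inferInstance, inferInstance,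
    inferInstance, M₀, inferInstance, inferInstance, inferInstance, inferInstance, inferInstance, E,
    LinearEquiv.ofBijective Φ hΦ, fun b hb => hsub (Or.inr hb)⟩

set_option maxHeartbeats 1000000 in
set_option synthInstance.maxHeartbeats 200000 in
theorem exists_flat_model (s : Finset B) :
    ∃ (A₁ : Type u) (_ : CommRing A₁) (_ : IsNoetherianRing A₁) (B₁ : Type u) (_ : CommRing B₁)
      (_ : Algebra A₁ B₁) (_ : Algebra.FinitePresentation A₁ B₁) (_ : Algebra A₁ A) (_ : Algebra B₁ B)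
      (_ : Algebra A₁ B) (_ : IsScalarTower A₁ B₁ B) (_ : IsScalarTower A₁ A B) (_ : Algebra.IsPushout A₁ B₁ A B)
      (M₁ : Type u) (_ : AddCommGroup M₁) (_ : Module B₁ M₁) (_ : Module A₁ M₁) (_ : IsScalarTower A₁ B₁ M₁)
      (_ : Module.FinitePresentation B₁ M₁) (_ : Module.Flat A₁ M₁) (_ : B ⊗[B₁] M₁ ≃ₗ[B] M),
      ↑s ⊆ Set.range (algebraMap B₁ B) := by
  obtain ⟨A₀, _, B₀, _, _, _, _, _, hpB, M₀, _, _, _, _, _, E, eM, hsub⟩ := exists_model_mem (A := A) (M := M) s
  haveI hflA : Module.Flat A (A ⊗[A₀] M₀) := Module.Flat.of_linearEquiv E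
  obtain ⟨C, hC, hflat⟩ := FlatStage64.exists_fg_flat (R := A₀) (B := B₀) (M := M₀) A hflA
  haveI : Algebra.FiniteType A₀ C := (Subalgebra.fg_iff_finiteType C).mp hC
  haveI : IsNoetherianRing C := Algebra.FiniteType.isNoetherianRing A₀ C
  let B₁ := C ⊗[A₀] B₀
  letI : CommRing B₁ := Algebra.TensorProduct.instCommRing
  letI : Module B₀ B₁ := Algebra.toModule
  let ψ : B₁ →ₐ[A₀] B :=
    Algebra.TensorProduct.lift (IsScalarTower.toAlgHom A₀ C B) (IsScalarTower.toAlgHom A₀ B₀ B) fun _ _ => .all _ _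
  letI : Algebra B₁ B := ψ.toRingHom.toAlgebra
  have hψ : ∀ (c : C) (b : B₀), ψ (c ⊗ₜ b) = algebraMap C B c * algebraMap B₀ B b := fun c b =>
    Algebra.TensorProduct.lift_tmul _ _ _ c b
  haveI : IsScalarTower C B₁ B := IsScalarTower.of_algebraMap_eq fun c => by
    show _ = ψ (c ⊗ₜ 1)
    rw [hψ, map_one, mul_one]
  haveI : IsScalarTower B₀ B₁ B := IsScalarTower.of_algebraMap_eq fun b => by
    show _ = ψ (1 ⊗ₜ b)
    rw [hψ, map_one, one_mul]
  haveI : Algebra.IsPushout C B₁ A B :=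
    ((Algebra.IsPushout.comp_iff A₀ C B₀ B₁ (T := A) (T' := B)).1 hpB).symm
  let M₁ := B₁ ⊗[B₀] M₀
  haveI : Module.Flat C (C ⊗[A₀] M₀) := hflat C le_rfl
  haveI : Module.Flat C M₁ := Module.Flat.of_linearEquiv (Algebra.IsPushout.cancelBaseChange A₀ C B₀ B₁ M₀)
  haveI : IsNoetherianRing B₁ := Algebra.FiniteType.isNoetherianRing C B₁
  haveI : Module.Finite B₁ M₁ := Module.Finite.base_change B₀ B₁ M₀
  refine ⟨C, inferInstance, inferInstance, B₁, inferInstance, inferInstance, inferInstance, inferInstance,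
    inferInstance, inferInstance, inferInstance, inferInstance, inferInstance, M₁, inferInstance, inferInstance,
    inferInstance, inferInstance, Module.finitePresentation_of_finite B₁ M₁, inferInstance,
    AlgebraTensorModule.cancelBaseChange B₀ B₁ B B M₀ ≪≫ₗ eM, ?_⟩
  intro b hb
  obtain ⟨b₀, hb₀⟩ := hsub hb
  refine ⟨(1 : C) ⊗ₜ b₀, ?_⟩
  show ψ _ = b
  rw [hψ, map_one, one_mul]
  exact hb₀

end Groth.Agent.CAlg9.FibreDepth
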