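import Groth.Agent.CAlg9.FibreDepthOpen
import Groth.Agent.CAlg9.FibreDepthModel
import Mathlib.RingTheory.Spectrum.Prime.ConstructibleSet
import Mathlib.RingTheory.Spectrum.Prime.Noetherian

/-!
Constructibility of the fibrewise depth along a constructible closed set.
-/

set_option autoImplicit false
set_option backward.isDefEq.respectTransparency.types false
set_option linter.style.haveILetI false
universe u

open CategoryTheory AlgebraicGeometry TopologicalSpace TensorProduct IsLocalRing RingTheory.Sequence Topology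

namespace Groth.Agent.CAlg9.FibreDepth

open Groth.Agent.QC70 Groth.Agent.Fib62

attribute [local instance] Algebra.TensorProduct.rightAlgebra

theorem isCompact_of_isConstructible {R : Type u} [CommRing R] {s : Set (PrimeSpectrum R)} (hs : IsConstructible s) :
    IsCompact s := by
  obtain ⟨S, rfl⟩ := PrimeSpectrum.exists_constructibleSetData_iff.2 hs
  refine S.isCompact_biUnion fun C _ => ?_
  rw [PrimeSpectrum.BasicConstructibleSetData.toSet, Set.sdiff_eq, ← PrimeSpectrum.basicOpen_eq_zeroLocus_compl]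
  exact (PrimeSpectrum.isCompact_basicOpen C.f).inter_left (PrimeSpectrum.isClosed_zeroLocus _)

theorem exists_compact_open_model {A B : Type u} [CommRing A] [CommRing B] [Algebra A B] [Algebra.FinitePresentation A B]
    (M : Type u) [AddCommGroup M] [Module B M] [Module A M] [IsScalarTower A B M] [Module.FinitePresentation B M]
    [Module.Flat A M] (s : Finset B) :
    ∃ N : ℕ, (∀ P : PrimeSpectrum B, (↑(N + 1) : ℕ∞) ≤ fdepth A M (Ideal.span (s : Set B)) P →
        fdepth A M (Ideal.span (s : Set B)) P = ⊤) ∧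
      ∀ n : ℕ, ∃ K : Set (PrimeSpectrum B), IsOpen K ∧ IsCompact K ∧ ∀ P : PrimeSpectrum B,
        Ideal.span (s : Set B) ≤ P.asIdeal → (P ∈ K ↔ (n : ℕ∞) ≤ fdepth A M (Ideal.span (s : Set B)) P) := by
  classical
  refine ⟨s.card, fun P h => fdepth_eq_top_of_card_lt M s P h, fun n => ?_⟩
  obtain ⟨A₁, _, _, B₁, _, _, _, _, _, _, _, _, _, M₁, _, _, _, _, _, _, eM, hs⟩ :=
    exists_flat_model (A := A) (B := B) (M := M) s
  choose c hc using fun b : {b // b ∈ s} => hs b.2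
  let J₁ : Ideal B₁ := Ideal.span (Set.range c)
  have hJ : J₁.map (algebraMap B₁ B) = Ideal.span (s : Set B) := by
    rw [Ideal.map_span, ← Set.range_comp]
    congr 1
    ext b
    exact ⟨fun ⟨x, hx⟩ => by rw [← hx, Function.comp_apply, hc x]; exact x.2, fun hb => ⟨⟨b, hb⟩, hc ⟨b, hb⟩⟩⟩
  obtain ⟨W, hW, hWiff⟩ := exists_isOpen_fdepth (A := A₁) M₁ J₁ n
  haveI : IsNoetherianRing B₁ := Algebra.FiniteType.isNoetherianRing A₁ B₁
  refine ⟨PrimeSpectrum.comap (algebraMap B₁ B) ⁻¹' W, hW.preimage (PrimeSpectrum.continuous_comap _), ?_, ?_⟩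
  · obtain ⟨t, rfl⟩ := PrimeSpectrum.isCompact_isOpen_iff.1 ⟨NoetherianSpace.isCompact W, hW⟩
    exact (PrimeSpectrum.isCompact_isOpen_iff.2 ⟨t.image (algebraMap B₁ B), by
      rw [Set.preimage_compl, PrimeSpectrum.preimage_comap_zeroLocus, Finset.coe_image]⟩).1
  · intro P hP
    rw [Set.mem_preimage, hWiff _ (Ideal.map_le_iff_le_comap.1 (hJ.le.trans hP)), ← hJ,
      fdepth_baseChange (A := A₁) (A' := A) M₁ M eM J₁ P]

variable {X S : Scheme.{u}} (f : X ⟶ S) {F : X.Modules} [F.IsQuasicoherent]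

theorem exists_chart [LocallyOfFinitePresentation f] [CohB1.IsFP F] (hfl : FlatMod.IsFlatOver f F) (Y : Set X)
    (hY : IsClosed Y) (hYc : IsLocallyConstructible Y) {U : X.Opens} {V : S.Opens} (e : U ≤ f ⁻¹ᵁ V)
    (hU : IsAffineOpen U) (hV : IsAffineOpen V) :
    (∃ N : ℕ, ∀ z ∈ U, z ∈ Y → (↑(N + 1) : ℕ∞) ≤ CInt.fiberDepthAlong f F Y z →
        CInt.fiberDepthAlong f F Y z = ⊤) ∧
      ∀ n : ℕ, ∃ K : Set (PrimeSpectrum Γ(X, U)), IsOpen K ∧ IsCompact K ∧ ∀ Q : PrimeSpectrum Γ(X, U),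
        hU.fromSpec Q ∈ Y → (Q ∈ K ↔ (n : ℕ∞) ≤ CInt.fiberDepthAlong f F Y (hU.fromSpec Q)) := by
  classical
  letI : Algebra Γ(S, V) Γ(X, U) := (f.appLE V U e).hom.toAlgebra
  letI : Module Γ(S, V) Γ(F, U) := Module.compHom _ (f.appLE V U e).hom
  haveI : IsScalarTower Γ(S, V) Γ(X, U) Γ(F, U) := IsScalarTower.of_algebraMap_smul fun _ _ => rfl
  haveI : Algebra.FinitePresentation Γ(S, V) Γ(X, U) := f.finitePresentation_appLE hV hU e
  haveI : Module.FinitePresentation Γ(X, U) Γ(F, U) := Props58.LocFree.finitePresentation_sections F hU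
  have hmem : ∀ Q : PrimeSpectrum Γ(X, U), hU.fromSpec Q ∈ U := fun Q => by
    have : hU.fromSpec Q ∈ Set.range hU.fromSpec := ⟨Q, rfl⟩
    rwa [hU.range_fromSpec] at this
  have hprime : ∀ Q : PrimeSpectrum Γ(X, U), hU.primeIdealOf ⟨hU.fromSpec Q, hmem Q⟩ = Q := fun Q =>
    hU.fromSpec.isOpenEmbedding.injective (hU.fromSpec_primeIdealOf ⟨_, hmem Q⟩)
  haveI hflat : Module.Flat Γ(S, V) Γ(F, U) := by
    refine Module.flat_of_isLocalized_maximal (R := Γ(S, V)) Γ(X, U) Γ(F, U)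
      (fun P _ => LocalizedModule P.primeCompl Γ(F, U)) (fun P _ => LocalizedModule.mkLinearMap P.primeCompl Γ(F, U))
      fun P hP => ?_
    have h := (Open62.isFlatOverAt_iff_localized f e hU hV (isLocAt_of_isQuasicoherent F hU)
      (hmem ⟨P, hP.isPrime⟩)).1 (hfl _)
    rwa [hprime] at h
  let C : Set (PrimeSpectrum Γ(X, U)) := hU.fromSpec ⁻¹' Y
  have hC : IsClosed C := hY.preimage hU.fromSpec.continuous
  have hCc : IsConstructible C :=
    (hYc.preimage_of_isOpenEmbedding hU.fromSpec.isOpenEmbedding).isConstructible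
  obtain ⟨s, hs⟩ := PrimeSpectrum.isCompact_isOpen_iff.1 ⟨isCompact_of_isConstructible hCc.compl, hC.isOpen_compl⟩
  have hsC : PrimeSpectrum.zeroLocus (s : Set Γ(X, U)) = C := compl_injective hs
  let a : Ideal Γ(X, U) := PrimeSpectrum.vanishingIdeal C
  have hpt : ∀ Q : PrimeSpectrum Γ(X, U), a ≤ Q.asIdeal ↔ hU.fromSpec Q ∈ Y := fun Q => by
    have : Q ∈ PrimeSpectrum.zeroLocus (a : Set Γ(X, U)) ↔ Q ∈ C := by
      rw [PrimeSpectrum.zeroLocus_vanishingIdeal_eq_closure, hC.closure_eq]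
    exact this
  have hzl : ∀ Q : PrimeSpectrum Γ(X, U), Ideal.span (s : Set Γ(X, U)) ≤ Q.asIdeal ↔ a ≤ Q.asIdeal := fun Q => by
    rw [Ideal.span_le, hpt]
    exact Set.ext_iff.1 hsC Q
  have hcomap : ∀ (z : X) (hz : z ∈ U), hV.fromSpec (PrimeSpectrum.comap (f.appLE V U e).hom
      (hU.primeIdealOf ⟨z, hz⟩)) = f z := fun z hz => by
    rw [show PrimeSpectrum.comap (f.appLE V U e).hom (hU.primeIdealOf ⟨z, hz⟩) = _ from
      IsAffineOpen.comap_primeIdealOf_appLE V hV U hU e hz, hV.fromSpec_primeIdealOf]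
  have key : ∀ (Q : PrimeSpectrum Γ(X, U)), hU.fromSpec Q ∈ Y → ∀ n : ℕ,
      ((n : ℕ∞) ≤ CInt.fiberDepthAlong f F Y (hU.fromSpec Q) ↔
        (n : ℕ∞) ≤ fdepth Γ(S, V) Γ(F, U) (Ideal.span (s : Set Γ(X, U))) Q) := by
    intro P hPY n
    rw [fdepth_congr_zeroLocus Γ(F, U) hzl P]
    have haP : a ≤ P.asIdeal := (hpt P).2 hPY
    constructor
    · intro hn
      obtain ⟨gs, hlen, hmemgs, hreg⟩ := natCast_le_idealDepth_fibre (A := Γ(S, V)) Γ(F, U) a P haP n
        fun P' haP' hP'P hP'A => by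
          have hzy : hU.fromSpec P' ⤳ hU.fromSpec P :=
            ((PrimeSpectrum.le_iff_specializes P' P).1 hP'P).map hU.fromSpec.continuous
          have hfz : f (hU.fromSpec P') = f (hU.fromSpec P) := by
            rw [← hcomap _ (hmem P'), ← hcomap _ (hmem P), hprime, hprime]
            exact congrArg _ (PrimeSpectrum.ext hP'A)
          have hdep := (natCast_le_fiberDepth_iff f e hU hV (hmem P') n).1
            (hn.trans (iInf_le _ (⟨_, (hpt P').1 haP', hzy, hfz⟩ :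
              {z : X // z ∈ Y ∧ z ⤳ hU.fromSpec P ∧ f.base z = f.base (hU.fromSpec P)})))
          rwa [hprime] at hdep
      exact hlen ▸ natCast_le_fdepth_of_list Γ(F, U) a P gs hmemgs hreg
    · intro hn
      obtain ⟨gs, hlen, hmemgs, hreg⟩ := exists_list_of_le_fdepth Γ(F, U) a P haP n hn
      obtain ⟨T, hT⟩ : ∃ T : Set (PrimeSpectrum Γ(X, U)), T = {Q : PrimeSpectrum Γ(X, U) |
          Module.Flat Γ(S, V) (Localization.AtPrime Q.asIdeal ⊗[Γ(X, U)] Γ(F, U)) ∧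
            IsWeaklyRegular (FibreLocal Γ(S, V) Q ⊗[Γ(X, U)] Γ(F, U)) gs} := ⟨_, rfl⟩
      have hTo : IsOpen T := hT ▸ isOpen_weaklyRegular_fibre gs Γ(F, U)
      haveI : Module.Flat Γ(X, U) (Localization.AtPrime P.asIdeal) :=
        IsLocalization.flat _ P.asIdeal.primeCompl
      have hPT : P ∈ T := hT ▸ ⟨flat_tensor_of_flat Γ(F, U), hreg⟩
      refine le_iInf fun ⟨z, hzY, hzy, _⟩ => ?_
      obtain ⟨Q, hQ, rfl⟩ : z ∈ hU.fromSpec '' T :=
        hzy.mem_open (hU.fromSpec.isOpenEmbedding.isOpenMap T hTo) ⟨P, hPT, rfl⟩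
      rw [natCast_le_fiberDepth_iff f e hU hV (hmem Q) n, hprime]
      rw [hT] at hQ
      exact ⟨gs, hlen, fun g hg => (hpt Q).2 hzY (hmemgs g hg), hQ.2⟩
  obtain ⟨N, hN, hK⟩ := exists_compact_open_model (A := Γ(S, V)) Γ(F, U) s
  refine ⟨⟨N, fun z hz hzY h => ?_⟩, fun n => ?_⟩
  · obtain ⟨Q, rfl⟩ : z ∈ Set.range hU.fromSpec := by rw [hU.range_fromSpec]; exact hz
    have h1 := hN Q ((key Q hzY (N + 1)).1 h)
    exact ENat.eq_top_iff_forall_ge.2 fun n => (key Q hzY n).2 (h1 ▸ le_top)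
  · obtain ⟨K, hK1, hK2, hK3⟩ := hK n
    exact ⟨K, hK1, hK2, fun Q hQ => (hK3 Q ((hzl Q).2 ((hpt Q).2 hQ))).trans (key Q hQ n).symm⟩

theorem exists_chart_subset (W : X.Opens) {x : X} (hx : x ∈ W) :
    ∃ (U : X.Opens) (V : S.Opens), IsAffineOpen U ∧ IsAffineOpen V ∧ U ≤ f ⁻¹ᵁ V ∧ x ∈ U ∧ U ≤ W := by
  obtain ⟨V, hV, hxV, -⟩ := exists_isAffineOpen_mem_and_subset (X := S) (x := f x) (U := ⊤) trivial
  obtain ⟨U, hU, hxU, e⟩ := exists_isAffineOpen_mem_and_subset (X := X) (x := x) (U := f ⁻¹ᵁ V ⊓ W) ⟨hxV, hx⟩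
  exact ⟨U, V, hU, hV, e.trans inf_le_left, hxU, e.trans inf_le_right⟩

theorem isRetrocompact_fiberDepthAlong_ge [LocallyOfFinitePresentation f] [CohB1.IsFP F]
    (hfl : FlatMod.IsFlatOver f F) (Y : Set X) (hY : IsClosed Y) (hYc : IsLocallyConstructible Y) (n : ℕ) :
    IsRetrocompact {y : X | y ∈ Y ∧ (n : ℕ∞) ≤ CInt.fiberDepthAlong f F Y y} := by
  intro W hWc hWo
  choose U V hU hV e hxU hUW using fun x : ↥W => exists_chart_subset f ⟨W, hWo⟩ (x := x.1) x.2
  obtain ⟨t, ht⟩ := hWc.elim_finite_subcover (fun x : ↥W => (U x : Set X)) (fun x => (U x).2)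
    fun x hx => Set.mem_iUnion.2 ⟨⟨x, hx⟩, hxU ⟨x, hx⟩⟩
  have : {y : X | y ∈ Y ∧ (n : ℕ∞) ≤ CInt.fiberDepthAlong f F Y y} ∩ W =
      ⋃ x ∈ t, {y : X | y ∈ Y ∧ (n : ℕ∞) ≤ CInt.fiberDepthAlong f F Y y} ∩ U x := by
    ext y
    simp only [Set.mem_inter_iff, Set.mem_iUnion, exists_prop]
    constructor
    · rintro ⟨h, hy⟩
      obtain ⟨x, hxt, hyx⟩ := Set.mem_iUnion₂.1 (ht hy)
      exact ⟨x, hxt, h, hyx⟩
    · rintro ⟨x, -, h, hyx⟩
      exact ⟨h, hUW x hyx⟩
  rw [this]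
  refine t.isCompact_biUnion fun x _ => ?_
  obtain ⟨K, -, hK, hKiff⟩ := (exists_chart f hfl Y hY hYc (e x) (hU x) (hV x)).2 n
  have himg : {y : X | y ∈ Y ∧ (n : ℕ∞) ≤ CInt.fiberDepthAlong f F Y y} ∩ U x =
      (hU x).fromSpec '' (K ∩ (hU x).fromSpec ⁻¹' Y) := by
    ext y
    constructor
    · rintro ⟨⟨hyY, hy⟩, hyU⟩
      obtain ⟨Q, rfl⟩ : y ∈ Set.range (hU x).fromSpec := by rw [(hU x).range_fromSpec]; exact hyU
      exact ⟨Q, ⟨(hKiff Q hyY).2 hy, hyY⟩, rfl⟩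
    · rintro ⟨Q, ⟨hQK, hQY⟩, rfl⟩
      refine ⟨⟨hQY, (hKiff Q hQY).1 hQK⟩, ?_⟩
      have : (hU x).fromSpec Q ∈ Set.range (hU x).fromSpec := ⟨Q, rfl⟩
      rwa [(hU x).range_fromSpec] at this
  rw [himg]
  exact (hK.inter_right (hY.preimage (hU x).fromSpec.continuous)).image (hU x).fromSpec.continuous

theorem exists_constructible_levels [LocallyOfFinitePresentation f] [CohB1.IsFP F]
    (hfl : FlatMod.IsFlatOver f F) (Y : Set X) (hY : IsClosed Y) (hYc : IsLocallyConstructible Y) (y₀ : ↥Y) :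
    ∃ W : Opens ↥Y, y₀ ∈ W ∧
      ((fun y : ↥Y => CInt.fiberDepthAlong f F Y y.1) '' (W : Set ↥Y)).Finite ∧
      ∀ t : ℕ∞, IsConstructible {v : ↥W | CInt.fiberDepthAlong f F Y v.1.1 = t} := by
  obtain ⟨U, V, hU, hV, e, hyU, -⟩ := exists_chart_subset f ⊤ (x := y₀.1) trivial
  obtain ⟨⟨N, hN⟩, hK⟩ := exists_chart f hfl Y hY hYc e hU hV
  let W : Opens ↥Y := ⟨Subtype.val ⁻¹' (U : Set X), U.2.preimage continuous_subtype_val⟩
  refine ⟨W, hyU, ?_, ?_⟩
  · refine (((Set.finite_Iic N).image (fun k : ℕ => (k : ℕ∞))).union (Set.finite_singleton ⊤)).subset ?_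
    rintro _ ⟨y, hy, rfl⟩
    by_cases h : (↑(N + 1) : ℕ∞) ≤ CInt.fiberDepthAlong f F Y y.1
    · exact Or.inr (hN y.1 hy y.2 h)
    · refine Or.inl ?_
      obtain ⟨k, hk⟩ := ENat.ne_top_iff_exists.1 (fun hT : CInt.fiberDepthAlong f F Y y.1 = ⊤ => h (hT ▸ le_top))
      refine ⟨k, ?_, hk⟩
      rw [← hk, Nat.cast_le] at h
      simp only [Set.mem_Iic]
      omega
  · let ι : ↥W → PrimeSpectrum Γ(X, U) := fun v => hU.primeIdealOf ⟨v.1.1, v.2⟩
    have hfι : hU.fromSpec ∘ ι = fun v : ↥W => v.1.1 := funext fun v => hU.fromSpec_primeIdealOf _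
    have hιc : Continuous ι :=
      hU.isoSpec.hom.continuous.comp
        ((continuous_subtype_val.comp continuous_subtype_val).subtype_mk _)
    have hιe : IsEmbedding ι := IsEmbedding.of_comp hιc hU.fromSpec.continuous
      (hfι ▸ IsEmbedding.subtypeVal.comp IsEmbedding.subtypeVal : IsEmbedding (hU.fromSpec ∘ ι))
    have hrange : Set.range ι = hU.fromSpec ⁻¹' Y := by
      ext Q
      constructor
      · rintro ⟨v, rfl⟩
        show hU.fromSpec (ι v) ∈ Y
        rw [show hU.fromSpec (ι v) = v.1.1 from congrFun hfι v]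
        exact v.1.2
      · intro hQ
        have hm : hU.fromSpec Q ∈ Set.range hU.fromSpec := ⟨Q, rfl⟩
        rw [hU.range_fromSpec] at hm
        exact ⟨⟨⟨hU.fromSpec Q, hQ⟩, hm⟩, hU.fromSpec.isOpenEmbedding.injective (congrFun hfι _)⟩
    have hcl : IsClosedEmbedding ι := ⟨hιe, hrange ▸ hY.preimage hU.fromSpec.continuous⟩
    have hcc : IsCompact (Set.range ι)ᶜ := by
      rw [hrange]
      exact isCompact_of_isConstructible
        (hYc.preimage_of_isOpenEmbedding hU.fromSpec.isOpenEmbedding).isConstructible.compl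
    have hge : ∀ n : ℕ, IsConstructible {v : ↥W | (n : ℕ∞) ≤ CInt.fiberDepthAlong f F Y v.1.1} := by
      intro n
      obtain ⟨K, hKo, hKc, hKiff⟩ := hK n
      have : {v : ↥W | (n : ℕ∞) ≤ CInt.fiberDepthAlong f F Y v.1.1} = ι ⁻¹' K := by
        ext v
        have hv : hU.fromSpec (ι v) = v.1.1 := congrFun hfι v
        have := hKiff (ι v) (hv ▸ v.1.2)
        rw [hv] at this
        exact this.symm
      rw [this]
      exact (hKc.isConstructible hKo).preimage_of_isClosedEmbedding hcl hcc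
    intro t
    induction t using ENat.recTopCoe with
    | top =>
      convert hge (N + 1) using 1
      ext v
      refine ⟨fun h => ?_, fun h => hN v.1.1 v.2 v.1.2 h⟩
      rw [Set.mem_ofPred_eq] at h ⊢
      rw [h]; exact le_top
    | coe k =>
      have : {v : ↥W | CInt.fiberDepthAlong f F Y v.1.1 = (k : ℕ∞)} =
          {v : ↥W | (k : ℕ∞) ≤ CInt.fiberDepthAlong f F Y v.1.1} \
            {v : ↥W | ((k + 1 : ℕ) : ℕ∞) ≤ CInt.fiberDepthAlong f F Y v.1.1} := by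
        ext v
        simp only [Set.mem_sdiff, Set.mem_ofPred_eq, not_le]
        constructor
        · intro h
          rw [h]
          exact ⟨le_rfl, by exact_mod_cast Nat.lt_succ_self k⟩
        · rintro ⟨h1, h2⟩
          exact le_antisymm (by rwa [Nat.cast_add, Nat.cast_one, ENat.lt_add_one_iff (ENat.natCast_ne_top k)] at h2) h1
      rw [this]
      exact (hge k).sdiff (hge (k + 1))

end Groth.Agent.CAlg9.FibreDepth
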