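import Mathlib.RingTheory.Idempotents
import Mathlib.RingTheory.Artinian.Module
import Mathlib.RingTheory.Jacobson.Ring
import Mathlib.RingTheory.Ideal.Quotient.Operations
import Mathlib.RingTheory.Nilpotent.Lemmas
import Mathlib.FieldTheory.IsAlgClosed.Basic
import Mathlib.RingTheory.Derivation.Basic
import Mathlib.RingTheory.IntegralClosure.IsIntegral.Basic
import Mathlib.FieldTheory.Fixed
import Mathlib.RingTheory.Finiteness.Nakayama
import Mathlib.RingTheory.Ideal.IdempotentFG

namespace Groth.Agent.CAlg9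

set_option linter.unusedSectionVars false

universe u v

variable {k : Type u} [Field k] {A : Type v} [CommRing A] [Algebra k A] [Module.Finite k A]

theorem exists_algHom_ker_eq [IsAlgClosed k] (P : Ideal A) [P.IsPrime] :
    ∃ f : A →ₐ[k] k, RingHom.ker f = P := by
  have hint : Algebra.IsIntegral k (A ⧸ P) := Algebra.IsIntegral.of_finite k _
  let e : k ≃ₐ[k] A ⧸ P := AlgEquiv.ofBijective (Algebra.ofId k _)
    (IsAlgClosed.algebraMap_bijective_of_isIntegral (K := A ⧸ P))
  refine ⟨e.symm.toAlgHom.comp (Ideal.Quotient.mkₐ k P), ?_⟩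
  ext x
  simp [RingHom.mem_ker, Ideal.Quotient.eq_zero_iff_mem]

theorem ker_isMaximal (f : A →ₐ[k] k) : (RingHom.ker f).IsMaximal :=
  RingHom.ker_isMaximal_of_surjective f fun c => ⟨algebraMap k A c, by simp⟩

theorem algHom_ker_injective {f g : A →ₐ[k] k} (h : RingHom.ker f = RingHom.ker g) : f = g := by
  ext x
  have h1 : x - algebraMap k A (f x) ∈ RingHom.ker f := by simp [RingHom.mem_ker]
  rw [h, RingHom.mem_ker, map_sub, AlgHom.commutes, sub_eq_zero] at h1
  simpa using h1.symm

theorem finite_algHom : Finite (A →ₐ[k] k) := by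
  have : IsArtinianRing A := IsArtinianRing.of_finite k A
  exact Finite.of_injective
    (fun f : A →ₐ[k] k => (⟨RingHom.ker f, ker_isMaximal f⟩ : MaximalSpectrum A))
    fun f g h => algHom_ker_injective (congrArg MaximalSpectrum.asIdeal h)

variable (k A) in
/-- Evaluation at all rational points. -/
noncomputable def evalPi : A →ₐ[k] ((A →ₐ[k] k) → k) :=
  AlgHom.pi (R := k) (fun f : A →ₐ[k] k => f)

@[simp] theorem evalPi_apply (x : A) (f : A →ₐ[k] k) : evalPi k A x f = f x := rfl

theorem evalPi_surjective : Function.Surjective (evalPi k A) := by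
  have := finite_algHom (k := k) (A := A)
  intro g
  have hco : Pairwise fun f f' : A →ₐ[k] k => IsCoprime (RingHom.ker f) (RingHom.ker f') :=
    fun f f' hne => (Ideal.isCoprime_iff_sup_eq).mpr
      ((ker_isMaximal f).coprime_of_ne (ker_isMaximal f') fun h => hne (algHom_ker_injective h))
  obtain ⟨x, hx⟩ := Ideal.pi_quotient_surjective hco
    (fun f => Ideal.Quotient.mk (RingHom.ker f) (algebraMap k A (g f)))
  refine ⟨x, funext fun f => ?_⟩
  have h := Ideal.Quotient.eq.mp (hx f)
  rw [RingHom.mem_ker, map_sub, AlgHom.commutes, sub_eq_zero] at h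
  simpa using h

theorem ker_evalPi [IsAlgClosed k] : RingHom.ker (evalPi k A) = nilradical A := by
  rw [nilradical_eq_sInf]
  refine le_antisymm (le_sInf fun P (hP : P.IsPrime) => ?_) fun x hx => ?_
  · intro x hx
    obtain ⟨f, rfl⟩ := exists_algHom_ker_eq (k := k) P
    exact congrFun hx f
  · funext f
    exact Ideal.mem_sInf.mp hx (I := RingHom.ker f) (ker_isMaximal f).isPrime

theorem evalPi_injective [IsAlgClosed k] [IsReduced A] : Function.Injective (evalPi k A) := by
  rw [RingHom.injective_iff_ker_eq_bot, ker_evalPi, nilradical_eq_zero, Ideal.zero_eq_bot]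

theorem span_isIdempotentElem [IsAlgClosed k] [IsReduced A] :
    Submodule.span k {e : A | IsIdempotentElem e} = ⊤ := by
  classical
  have := finite_algHom (k := k) (A := A)
  let := Fintype.ofFinite (A →ₐ[k] k)
  choose ε hε using fun f => evalPi_surjective (k := k) (A := A) (Pi.single f 1)
  rw [eq_top_iff]
  intro x _
  have hx : x = ∑ f, f x • ε f := by
    apply evalPi_injective (k := k)
    funext g
    simp only [map_sum, map_smul, hε, Finset.sum_apply, Pi.smul_apply, smul_eq_mul]
    simp [Pi.single_apply]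
  rw [hx]
  refine Submodule.sum_mem _ fun f _ => Submodule.smul_mem _ _ (Submodule.subset_span ?_)
  apply evalPi_injective (k := k)
  rw [map_mul, hε, ← Pi.single_mul, one_mul]

omit [Module.Finite k A] in
theorem derivation_eq_zero_of_isIdempotentElem {M : Type*} [AddCommGroup M] [Module A M] [Module k M]
    (D : Derivation k A M) {e : A} (he : IsIdempotentElem e) : D e = 0 := by
  have h := D.leibniz e e
  rw [he.eq] at h
  have h2 : e • D e = e • D e + e • D e := by
    conv_lhs => rw [h, smul_add, smul_smul, he.eq]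
  rw [h, left_eq_add.mp h2, add_zero]

theorem subsingleton_derivation_of_isReduced [IsAlgClosed k] [IsReduced A] :
    Subsingleton (Derivation k A A) := by
  refine ⟨fun D E => Derivation.ext fun x => ?_⟩
  refine sub_eq_zero.mp ?_
  have hx : x ∈ Submodule.span k {e : A | IsIdempotentElem e} :=
    (span_isIdempotentElem (k := k) (A := A)).symm ▸ Submodule.mem_top
  show (D - E).toLinearMap x = 0
  rw [← LinearMap.mem_ker]
  exact Submodule.span_le.mpr
    (fun e he => derivation_eq_zero_of_isIdempotentElem (D - E) he) hx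

omit [Module.Finite k A] in
/-- The derivation attached to a rational point, a functional on its cotangent space and a socle
element. -/
theorem exists_derivation_ne_zero (χ : A →ₐ[k] k) (φ : A →ₗ[k] k) (s : A)
    (hs : ∀ a ∈ RingHom.ker χ, a * s = 0) (hs0 : s ≠ 0)
    (hmul : ∀ a ∈ RingHom.ker χ, ∀ b ∈ RingHom.ker χ, φ (a * b) = 0) (hφ1 : φ 1 = 0)
    (hφ : φ ≠ 0) : ¬ Subsingleton (Derivation k A A) := by
  have hχs : ∀ a, a * s = χ a • s := fun a => by
    have h1 := hs (a - algebraMap k A (χ a)) (by simp [RingHom.mem_ker])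
    rw [sub_mul, sub_eq_zero] at h1
    rw [h1, Algebra.smul_def]
  have hφmul : ∀ a b, φ (a * b) = χ a * φ b + χ b * φ a := by
    intro a b
    have h1 := hmul (a - algebraMap k A (χ a)) (by simp [RingHom.mem_ker])
      (b - algebraMap k A (χ b)) (by simp [RingHom.mem_ker])
    have e : (a - algebraMap k A (χ a)) * (b - algebraMap k A (χ b)) =
        a * b - χ a • b - χ b • a + (χ a * χ b) • (1 : A) := by
      simp only [Algebra.smul_def, map_mul, mul_one]; ring
    rw [e] at h1
    simp only [map_add, map_sub, map_smul, hφ1, smul_eq_mul, mul_zero, add_zero] at h1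
    linear_combination h1
  let D : Derivation k A A := Derivation.mk' ((LinearMap.toSpanSingleton k A s) ∘ₗ φ) fun a b => by
    simp only [LinearMap.comp_apply, LinearMap.toSpanSingleton_apply, hφmul, smul_eq_mul,
      mul_smul_comm, hχs, smul_smul, add_smul, mul_comm]
  intro h
  obtain ⟨x, hx⟩ := DFunLike.ne_iff.mp hφ
  have h2 : D x = 0 := by rw [Subsingleton.elim D 0]; rfl
  rcases smul_eq_zero.mp (show φ x • s = 0 from h2) with h | h
  exacts [hx h, hs0 h]

theorem exists_ann_maximal [IsArtinianRing A] [IsNoetherianRing A] {n : A} (hn : IsNilpotent n) (hn0 : n ≠ 0) :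
    ∃ s : A, s ≠ 0 ∧ IsNilpotent s ∧ ∃ m : Ideal A, m.IsMaximal ∧ ∀ a, a ∈ m ↔ a * s = 0 := by
  classical
  let S : Set (Submodule A A) := {J | ∃ s : A, s ≠ 0 ∧ IsNilpotent s ∧ ∀ a, a ∈ J ↔ a * s = 0}
  obtain ⟨m, ⟨s, hs0, hsn, hm⟩, hmax⟩ := set_has_maximal_iff_noetherian.mpr
    (inferInstance : IsNoetherian A A) S
      ⟨LinearMap.ker (LinearMap.mulRight A n), n, hn0, hn, fun a => by simp⟩
  refine ⟨s, hs0, hsn, m, ?_, hm⟩
  have : Ideal.IsPrime (m : Ideal A) := by
    refine ⟨fun h => hs0 (by simpa using (hm 1).mp (h ▸ trivial)), fun {x y} hxy => ?_⟩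
    by_contra hne
    rw [not_or] at hne
    have hys : y * s ≠ 0 := fun h => hne.2 ((hm y).mpr h)
    refine hmax (LinearMap.ker (LinearMap.mulRight A (y * s)))
      ⟨y * s, hys, (Commute.all y s).isNilpotent_mul_left hsn, fun a => by simp [mul_assoc]⟩ ?_
    refine lt_of_le_of_ne (fun a ha => ?_) fun h => hne.1 ?_
    · show a * (y * s) = 0
      rw [mul_left_comm, (hm a).mp ha, mul_zero]
    · rw [h]
      simpa [mul_assoc] using (hm _).mp hxy
  exact IsArtinianRing.isMaximal_of_isPrime m

theorem isReduced_of_subsingleton_derivation [IsAlgClosed k]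
    (h : Subsingleton (Derivation k A A)) : IsReduced A := by
  refine ⟨fun n hn => ?_⟩
  by_contra hn0
  have : IsArtinianRing A := IsArtinianRing.of_finite k A
  have : IsNoetherianRing A := isNoetherian_of_tower k (inferInstance : IsNoetherian k A)
  obtain ⟨s, hs0, hsn, m, hmax, hm⟩ := exists_ann_maximal hn hn0
  obtain ⟨χ, rfl⟩ := exists_algHom_ker_eq (k := k) m
  set m := RingHom.ker χ
  have hne : m * m ≠ m := by
    intro heq
    have : IsNoetherian A A := isNoetherian_of_tower k (inferInstance : IsNoetherian k A)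
    obtain ⟨e, he, hem⟩ := (Ideal.isIdempotentElem_iff_of_fg m
      (IsNoetherian.noetherian m)).mp heq
    have hem' : e ∈ m := hem ▸ Ideal.mem_span_singleton_self e
    have hsm : s ∈ m := by
      obtain ⟨N, hN⟩ := hsn
      exact hmax.isPrime.mem_of_pow_mem N (hN ▸ m.zero_mem)
    rw [hem, Ideal.mem_span_singleton'] at hsm
    obtain ⟨c, hc⟩ := hsm
    refine hs0 ?_
    calc s = c * (e * e) := by rw [he.eq, hc]
      _ = e * s := by rw [← hc]; ring
      _ = 0 := (hm e).mp hem'
  obtain ⟨x, hxm, hx⟩ := SetLike.exists_of_lt (lt_of_le_of_ne Ideal.mul_le_right hne)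
  let W : Submodule k A := (m * m).restrictScalars k ⊔ k ∙ (1 : A)
  have hxW : x ∉ W := by
    intro hxW
    obtain ⟨y, hy, z, hz, rfl⟩ := Submodule.mem_sup.mp hxW
    obtain ⟨c, rfl⟩ := Submodule.mem_span_singleton.mp hz
    have h0 : χ (y + c • 1) = 0 := hxm
    have hy0 : χ y = 0 := Ideal.mul_le_right hy
    rw [map_add, hy0, map_smul, map_one, zero_add, smul_eq_mul, mul_one] at h0
    exact hx (by rw [h0, zero_smul, add_zero]; exact hy)
  obtain ⟨φ, hφx, hφW⟩ := Submodule.exists_dual_map_eq_bot_of_notMem hxW inferInstance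
  have hW : ∀ w ∈ W, φ w = 0 := fun w hw => by
    have := Submodule.mem_map_of_mem (f := φ) hw
    rw [hφW, Submodule.mem_bot] at this
    exact this
  exact exists_derivation_ne_zero χ φ s (fun a ha => (hm a).mp ha) hs0
    (fun a ha b hb => hW _ (Submodule.mem_sup_left (Ideal.mul_mem_mul ha hb)))
    (hW _ (Submodule.mem_sup_right (Submodule.mem_span_singleton_self 1)))
    (fun h0 => hφx (by simp [h0])) h

omit [Module.Finite k A] in
theorem isReduced_quotient_nilradical : IsReduced (A ⧸ nilradical A) :=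
  (Ideal.isRadical_iff_quotient_reduced _).mp (Ideal.radical_isRadical _)

theorem exists_section [IsAlgClosed k] :
    ∃! s : (A ⧸ nilradical A) →ₐ[k] A,
      (Ideal.Quotient.mkₐ k (nilradical A)).comp s = AlgHom.id k (A ⧸ nilradical A) := by
  classical
  have := finite_algHom (k := k) (A := A)
  let := Fintype.ofFinite (A →ₐ[k] k)
  have hker : ∀ x ∈ RingHom.ker (evalPi k A).toRingHom, IsNilpotent x := fun x hx =>
    mem_nilradical.mp (ker_evalPi (k := k) (A := A) ▸ hx)
  obtain ⟨ε, hε, hεe⟩ := CompleteOrthogonalIdempotents.lift_of_isNilpotent_ker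
    (evalPi k A).toRingHom hker (CompleteOrthogonalIdempotents.single (I := A →ₐ[k] k) fun _ => k)
    (fun f => evalPi_surjective (Pi.single f 1))
  let s₀ : ((A →ₐ[k] k) → k) →ₐ[k] A := AlgHom.ofLinearMap
    (Fintype.linearCombination k ε)
    (by simpa [Fintype.linearCombination_apply] using hε.complete)
    (fun g g' => by
      simp only [Fintype.linearCombination_apply, Finset.sum_mul_sum, smul_mul_smul_comm,
        hε.mul_eq, smul_ite, smul_zero, Finset.sum_ite_eq, Finset.mem_univ, if_true,
        Pi.mul_apply])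
  let q : (A ⧸ nilradical A) →ₐ[k] ((A →ₐ[k] k) → k) :=
    Ideal.Quotient.liftₐ (nilradical A) (evalPi k A) fun a ha => by
      rwa [← ker_evalPi (k := k), RingHom.mem_ker] at ha
  have hq : ∀ g, evalPi k A (s₀ g) = g := fun g => by
    funext f
    have h1 := fun f' => congrFun (show evalPi k A (ε f') = _ from congrFun hεe f') f
    show evalPi k A (Fintype.linearCombination k ε g) f = g f
    rw [Fintype.linearCombination_apply]
    simp only [map_sum, map_smul, Finset.sum_apply, Pi.smul_apply, smul_eq_mul, h1]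
    simp [Pi.single_apply]
  have hsec : (Ideal.Quotient.mkₐ k (nilradical A)).comp (s₀.comp q) =
      AlgHom.id k (A ⧸ nilradical A) := by
    apply AlgHom.ext
    intro y
    obtain ⟨x, rfl⟩ := Ideal.Quotient.mk_surjective y
    show Ideal.Quotient.mk _ (s₀ (evalPi k A x)) = Ideal.Quotient.mk _ x
    rw [Ideal.Quotient.eq, ← ker_evalPi (k := k), RingHom.mem_ker, map_sub, hq, sub_self]
  refine ⟨s₀.comp q, hsec, fun s hs => AlgHom.ext fun y => ?_⟩
  have := isReduced_quotient_nilradical (A := A)
  have hy : y ∈ Submodule.span k {e : A ⧸ nilradical A | IsIdempotentElem e} :=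
    (span_isIdempotentElem (k := k) (A := A ⧸ nilradical A)).symm ▸ Submodule.mem_top
  refine LinearMap.eqOn_span (f := s.toLinearMap) (g := (s₀.comp q).toLinearMap) (fun e he => ?_) hy
  refine eq_of_isNilpotent_sub_of_isIdempotentElem (he.map s) (he.map (s₀.comp q)) ?_
  rw [← mem_nilradical, ← Ideal.Quotient.eq]
  exact (AlgHom.congr_fun hs e).trans (AlgHom.congr_fun hsec e).symm
end Groth.Agent.CAlg9
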