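import Groth.Agent.CAlg9.Tame
import Mathlib.RingTheory.Ideal.Cotangent
import Mathlib.RingTheory.Ideal.Quotient.Operations
import Mathlib.LinearAlgebra.Basis.VectorSpace
import Mathlib.LinearAlgebra.Projection
import Mathlib.Algebra.Algebra.Equiv
import Mathlib.Algebra.BigOperators.Field
import Mathlib.GroupTheory.OrderOfElement

/-! The ideal of the fixed locus of a tame finite group action on a local ring is generated by
elements with independent differentials. -/

set_option autoImplicit false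
universe u v

open IsLocalRing

namespace Groth.Agent.CAlg9

variable {k A : Type u} [Field k] [CommRing A] [Algebra k A] [IsLocalRing A]

theorem algEquiv_mem_maximalIdeal (e : A ≃ₐ[k] A) {x : A} (hx : x ∈ maximalIdeal A) :
    e x ∈ maximalIdeal A := by
  rw [mem_maximalIdeal, mem_nonunits_iff] at hx ⊢
  exact fun h => hx ((isUnit_map_iff e x).mp h)

theorem algEquiv_mem_maximalIdeal_sq (e : A ≃ₐ[k] A) {x : A} (hx : x ∈ maximalIdeal A ^ 2) :
    e x ∈ maximalIdeal A ^ 2 := by
  rw [sq] at hx ⊢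
  refine Submodule.mul_induction_on hx (fun a ha b hb => ?_) fun a b ha hb => ?_
  · rw [map_mul]
    exact Ideal.mul_mem_mul (algEquiv_mem_maximalIdeal e ha) (algEquiv_mem_maximalIdeal e hb)
  · rw [map_add]; exact add_mem ha hb

theorem algEquiv_sub_mem_maximalIdeal
    (hres : Function.Surjective (algebraMap k (ResidueField A))) (e : A ≃ₐ[k] A) (a : A) :
    e a - a ∈ maximalIdeal A := by
  obtain ⟨c, hc⟩ := hres (residue A a)
  have h : a - algebraMap k A c ∈ maximalIdeal A := by
    rw [← ker_residue, RingHom.mem_ker, map_sub, sub_eq_zero, ← hc]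
    exact IsScalarTower.algebraMap_apply k A (ResidueField A) c
  have h2 := algEquiv_mem_maximalIdeal e h
  rw [map_sub, AlgEquiv.commutes] at h2
  simpa using sub_mem h2 h

theorem fixedIdeal_generators [IsNoetherianRing A]
    (hres : Function.Surjective (algebraMap k (ResidueField A)))
    {G : Type v} [Group G] [Fintype G] (ρ : G →* (A ≃ₐ[k] A)) (hG : (Fintype.card G : k) ≠ 0) :
    ∃ (r : ℕ) (f : Fin r → maximalIdeal A),
      Ideal.span (Set.range fun i => (f i : A)) = Ideal.span {x : A | ∃ g a, x = ρ g a - a} ∧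
      LinearIndependent (ResidueField A) (fun i => (maximalIdeal A).toCotangent (f i)) := by
  classical
  let M2 : Submodule k A := (maximalIdeal A ^ 2).restrictScalars k
  obtain ⟨C, hC⟩ := Submodule.exists_isCompl M2
  let p : A →ₗ[k] A := C.projection M2 hC.symm
  have hp : ∀ x, p x - x ∈ maximalIdeal A ^ 2 := by
    intro x
    have h : x - p x ∈ M2 := Submodule.sub_projection_mem hC.symm x
    have := (maximalIdeal A ^ 2).neg_mem h
    simpa using this
  have hp0 : ∀ x ∈ maximalIdeal A ^ 2, p x = 0 := fun x hx =>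
    (Submodule.projection_apply_eq_zero_iff hC.symm).mpr hx
  let s : A →ₗ[k] A :=
    (Fintype.card G : k)⁻¹ • ∑ g : G, (ρ g).toLinearMap ∘ₗ p ∘ₗ (ρ g⁻¹).toLinearMap
  have hs : ∀ x, s x = (Fintype.card G : k)⁻¹ • ∑ g : G, ρ g (p (ρ g⁻¹ x)) := fun x => by
    simp only [s, LinearMap.smul_apply, LinearMap.sum_apply, LinearMap.comp_apply]
    rfl
  have hcancel : ∀ (g : G) (x : A), ρ g (ρ g⁻¹ x) = x := fun g x => by
    rw [← AlgEquiv.mul_apply, ← map_mul, mul_inv_cancel, map_one, AlgEquiv.one_apply]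
  have hs1 : ∀ x, s x - x ∈ maximalIdeal A ^ 2 := by
    intro x
    have hx : s x - x = (Fintype.card G : k)⁻¹ • ∑ g : G, (ρ g (p (ρ g⁻¹ x)) - x) := by
      rw [Finset.sum_sub_distrib, smul_sub, ← hs, Finset.sum_const, Finset.card_univ,
        ← Nat.cast_smul_eq_nsmul k, smul_smul, inv_mul_cancel₀ hG, one_smul]
    rw [hx]
    refine Submodule.smul_of_tower_mem _ _ (Ideal.sum_mem _ fun g _ => ?_)
    have h := algEquiv_mem_maximalIdeal_sq (ρ g) (hp (ρ g⁻¹ x))
    rwa [map_sub, hcancel] at h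
  have hs0 : ∀ x ∈ maximalIdeal A ^ 2, s x = 0 := by
    intro x hx
    rw [hs, Finset.sum_eq_zero (fun g _ => by
      rw [hp0 _ (algEquiv_mem_maximalIdeal_sq _ hx), map_zero]), smul_zero]
  have heq : ∀ h x, s (ρ h x) = ρ h (s x) := by
    intro h x
    rw [hs, hs, map_smul, map_sum]
    congr 1
    refine (Fintype.sum_equiv (Equiv.mulLeft h) _ _ fun g => ?_).symm
    show ρ h (ρ g (p (ρ g⁻¹ x))) = ρ (h * g) (p (ρ (h * g)⁻¹ (ρ h x)))
    rw [mul_inv_rev, map_mul, map_mul, AlgEquiv.mul_apply, AlgEquiv.mul_apply,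
      ← AlgEquiv.mul_apply (ρ h⁻¹), ← map_mul, inv_mul_cancel, map_one, AlgEquiv.one_apply]
  have hss : ∀ u ∈ LinearMap.range s, u ∈ maximalIdeal A ^ 2 → u = 0 := by
    rintro u ⟨y, rfl⟩ hu
    have h1 := hs0 _ (hs1 y)
    rw [map_sub, hs0 _ hu, zero_sub, neg_eq_zero] at h1
    exact h1
  -- the generators
  let T : Set (maximalIdeal A) := {z | ∃ g x, (z : A) = ρ g (s x) - s x}
  let J : Ideal A := Ideal.span (Subtype.val '' T)
  have hJT : ∀ g x, ρ g (s x) - s x ∈ J := fun g x =>
    Ideal.subset_span ⟨⟨_, algEquiv_sub_mem_maximalIdeal hres (ρ g) (s x)⟩, ⟨g, x, rfl⟩, rfl⟩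
  have hJm : J ≤ maximalIdeal A := Ideal.span_le.mpr (by rintro _ ⟨z, _, rfl⟩; exact z.2)
  have hJstab : ∀ h, J ≤ J.comap (ρ h : A →+* A) := by
    intro h
    refine Ideal.span_le.mpr ?_
    rintro _ ⟨z, ⟨g, x, hz⟩, rfl⟩
    show ρ h z ∈ J
    have : ρ h z = ρ (h * g * h⁻¹) (s (ρ h x)) - s (ρ h x) := by
      rw [hz, map_sub, heq, map_mul, map_mul, AlgEquiv.mul_apply, AlgEquiv.mul_apply,
        ← AlgEquiv.mul_apply (ρ h⁻¹), ← map_mul, inv_mul_cancel, map_one, AlgEquiv.one_apply]
    rw [this]; exact hJT _ _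
  have hfix : ∀ g a, ρ g a - a ∈ J := by
    have : Nontrivial (A ⧸ J) := Ideal.Quotient.nontrivial_iff.mpr
      (ne_top_of_le_ne_top (maximalIdeal.isMaximal A).ne_top hJm)
    have : IsLocalRing (A ⧸ J) := .of_surjective' _ Ideal.Quotient.mk_surjective
    have hmax : maximalIdeal (A ⧸ J) = (maximalIdeal A).map (Ideal.Quotient.mk J) :=
      (IsLocalRing.map_maximalIdeal_of_surjective _ Ideal.Quotient.mk_surjective).symm
    have : IsNoetherianRing (A ⧸ J) :=
      isNoetherianRing_of_surjective A (A ⧸ J) (Ideal.Quotient.mk J) Ideal.Quotient.mk_surjective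
    intro g a
    rw [← Ideal.Quotient.eq]
    let σ : A ⧸ J →+* A ⧸ J := Ideal.quotientMap J (ρ g : A →+* A) (hJstab g)
    have hσ : ∀ b, σ (Ideal.Quotient.mk J b) = Ideal.Quotient.mk J (ρ g b) := fun b => rfl
    have hit : ∀ (j : ℕ) b, (σ : A ⧸ J → A ⧸ J)^[j] (Ideal.Quotient.mk J b)
        = Ideal.Quotient.mk J (ρ (g ^ j) b) := by
      intro j
      induction j with
      | zero => intro b; simp
      | succ j ih =>
        intro b
        rw [Function.iterate_succ_apply', ih, hσ, pow_succ', map_mul, AlgEquiv.mul_apply]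
    refine apply_eq_self_of_iterate_eq σ (Fintype.card G) ?_ ?_ ?_ ?_ (Ideal.Quotient.mk J a)
    · have h : IsUnit ((Fintype.card G : k)) := isUnit_iff_ne_zero.mpr hG
      simpa using h.map (algebraMap k (A ⧸ J))
    · intro q
      obtain ⟨b, rfl⟩ := Ideal.Quotient.mk_surjective q
      rw [hit, pow_card_eq_one, map_one, AlgEquiv.one_apply]
    · intro q
      obtain ⟨b, rfl⟩ := Ideal.Quotient.mk_surjective q
      rw [hσ, ← map_sub, hmax]
      exact Ideal.mem_map_of_mem _ (algEquiv_sub_mem_maximalIdeal hres _ _)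
    · intro q hq
      rw [hmax, Ideal.mem_map_iff_of_surjective _ Ideal.Quotient.mk_surjective] at hq
      obtain ⟨b, hb, rfl⟩ := hq
      rw [hσ, ← map_sub, hmax, ← Ideal.map_pow]
      have e : ρ g b - b = (ρ g (s b) - s b) + (s b - b - ρ g (s b - b)) := by
        rw [map_sub]; ring
      rw [e, map_add, Ideal.Quotient.eq_zero_iff_mem.mpr (hJT g b), zero_add]
      exact Ideal.mem_map_of_mem _ (sub_mem (hs1 b) (algEquiv_mem_maximalIdeal_sq _ (hs1 b)))
  -- a basis
  obtain ⟨B, hBsub, hBspan, hBli⟩ :=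
    exists_linearIndependent (ResidueField A) ((maximalIdeal A).toCotangent '' T)
  have hBfin : B.Finite := hBli.set_finite_of_isNoetherian
  obtain ⟨r, ⟨e⟩⟩ := Finite.exists_equiv_fin (α := B) (h := hBfin.to_subtype)
  choose f hfT hfe using fun i : Fin r => hBsub (e.symm i).2
  refine ⟨r, f, le_antisymm ?_ ?_, ?_⟩
  · refine Ideal.span_le.mpr ?_
    rintro _ ⟨i, rfl⟩
    obtain ⟨g, x, hx⟩ := hfT i
    exact Ideal.subset_span ⟨g, s x, hx⟩
  · refine Ideal.span_le.mpr ?_
    rintro _ ⟨g, a, rfl⟩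
    refine (Ideal.span_le.mpr ?_ : J ≤ _) (hfix g a)
    rintro _ ⟨z, hzT, rfl⟩
    have hz : (maximalIdeal A).toCotangent z ∈ Submodule.span (ResidueField A)
        (Set.range fun i => (maximalIdeal A).toCotangent (f i)) := by
      have : (fun i => (maximalIdeal A).toCotangent (f i)) = Subtype.val ∘ e.symm := funext hfe
      rw [this, EquivLike.range_comp Subtype.val e.symm, Subtype.range_coe, hBspan]
      exact Submodule.subset_span ⟨z, hzT, rfl⟩
    rw [Submodule.mem_span_range_iff_exists_fun] at hz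
    obtain ⟨c, hc⟩ := hz
    choose c' hc' using fun i => hres (c i)
    have hmem : (z : A) - ∑ i, c' i • (f i : A) ∈ maximalIdeal A ^ 2 := by
      have h : (maximalIdeal A).toCotangent z
          = (maximalIdeal A).toCotangent (∑ i, algebraMap k A (c' i) • f i) := by
        rw [map_sum, ← hc]
        refine Finset.sum_congr rfl fun i _ => ?_
        rw [map_smul, ← hc' i, IsScalarTower.algebraMap_apply k A (ResidueField A), algebraMap_smul]
      rw [Ideal.toCotangent_eq] at h
      simpa [Algebra.smul_def] using h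
    have hrange : (z : A) - ∑ i, c' i • (f i : A) ∈ LinearMap.range s := by
      refine sub_mem ?_ (Submodule.sum_mem _ fun i _ => Submodule.smul_mem _ _ ?_)
      · obtain ⟨g, x, hx⟩ := hzT
        exact ⟨ρ g x - x, by rw [map_sub, heq, hx]⟩
      · obtain ⟨g, x, hx⟩ := hfT i
        exact ⟨ρ g x - x, by rw [map_sub, heq, hx]⟩
    rw [sub_eq_zero.mp (hss _ hrange hmem)]
    exact Ideal.sum_mem _ fun i _ => Submodule.smul_of_tower_mem _ _
      (Ideal.subset_span ⟨i, rfl⟩)
  · have : (fun i => (maximalIdeal A).toCotangent (f i)) = Subtype.val ∘ e.symm := funext hfe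
    rw [this]
    exact hBli.comp e.symm e.symm.injective

end Groth.Agent.CAlg9
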