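import Groth.Agent.CAlg9.FibreComponentLift
import Groth.Agent.S0386
import Groth.Agent.SchBasics.Birational
import Mathlib.RingTheory.Flat.TorsionFree
import Mathlib.AlgebraicGeometry.Noetherian
import Mathlib.Topology.KrullDimension

/-!
Finite surjective morphisms of normal integral surfaces are flat off a finite set of closed points.
-/

set_option autoImplicit false
universe u

open CategoryTheory AlgebraicGeometry TopologicalSpace

namespace Groth.Agent.CAlg9.FlatCofinite

theorem coheight_le_topologicalKrullDim {X : Scheme.{u}} (x : X) :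
    ((Order.coheight x : ℕ∞) : WithBot ℕ∞) ≤ topologicalKrullDim X := by
  rw [topologicalKrullDim, Order.krullDim_eq_of_orderIso (irreducibleSetEquivPoints (α := X))]
  exact Order.coheight_le_krullDim x

theorem isClosed_singleton_of_coheight_eq {X : Scheme.{u}} {d : ℕ} (hX : topologicalKrullDim X ≤ d) (x : X)
    (hx : Order.coheight x = d) : IsClosed ({x} : Set X) := by
  rw [← closure_eq_iff_isClosed]
  refine Set.Subset.antisymm (fun x' hx' => ?_) subset_closure
  have hsp : x ⤳ x' := specializes_iff_mem_closure.2 hx'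
  by_contra hne
  have hlt : x' < x := lt_of_le_not_ge (Scheme.le_iff_specializes.2 hsp) fun h =>
    hne (hsp.antisymm (Scheme.le_iff_specializes.1 h)).eq.symm
  have h1 := Order.coheight_add_one_le hlt
  have h2 : ((Order.coheight x' : ℕ∞) : WithBot ℕ∞) ≤ ((d : ℕ∞) : WithBot ℕ∞) := (coheight_le_topologicalKrullDim x').trans hX
  rw [WithBot.coe_le_coe] at h2
  rw [hx] at h1
  have : ((d + 1 : ℕ) : ℕ∞) ≤ d := by push_cast; exact h1.trans h2
  have : d + 1 ≤ d := by exact_mod_cast this
  omega

theorem natCast_le_coheight {X Y : Scheme.{u}} [IsIntegral X] [IsIntegral Y] (hY : Pi1.IsNormalScheme Y)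
    (f : X ⟶ Y) [IsFinite f] [Surjective f] {d : ℕ} (hYd : topologicalKrullDim Y ≤ d) :
    ∀ (n : ℕ) (x : X), (n : ℕ∞) ≤ Order.coheight (f x) → (n : ℕ∞) ≤ Order.coheight x := by
  intro n
  induction n with
  | zero => intro x _; simp
  | succ n ih =>
    intro x hx
    have hfin : Order.coheight (f x) < ⊤ := by
      have := (coheight_le_topologicalKrullDim (f x)).trans hYd
      rw [← WithBot.coe_natCast, WithBot.coe_le_coe] at this
      exact this.trans_lt (ENat.natCast_lt_top d)
    obtain ⟨y, hy, hyn⟩ := (Order.coe_lt_coheight_iff hfin).1 (lt_of_lt_of_le (by exact_mod_cast Nat.lt_succ_self n) hx)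
    obtain ⟨x', hx', rfl⟩ := FibreComponentLift.exists_lift hY f x y (Scheme.le_iff_specializes.1 hy.le)
    have hlt : x < x' := lt_of_le_not_ge (Scheme.le_iff_specializes.2 hx') fun h =>
      hy.not_ge (Scheme.le_iff_specializes.2 ((Scheme.le_iff_specializes.1 h).map f.continuous))
    calc ((n + 1 : ℕ) : ℕ∞) = (n : ℕ∞) + 1 := by push_cast; rfl
      _ ≤ Order.coheight x' + 1 := by gcongr; exact ih x' hyn.ge
      _ ≤ Order.coheight x := Order.coheight_add_one_le hlt

theorem finite_of_closed_points {X : Type u} [TopologicalSpace X] [NoetherianSpace X] [QuasiSober X] {F : Set X}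
    (hF : IsClosed F) (h : ∀ x ∈ F, IsClosed ({x} : Set X)) : F.Finite := by
  obtain ⟨S, hS, hScl, hSirr, rfl⟩ := NoetherianSpace.exists_finite_set_isClosed_irreducible hF
  refine hS.sUnion fun t ht => ?_
  have hg := (hSirr t ht).closure_genericPoint (hScl t ht)
  have hmem : (hSirr t ht).genericPoint ∈ t := hg.le (subset_closure rfl)
  rw [← hg, (h _ ⟨t, ht, hmem⟩).closure_eq]
  exact Set.finite_singleton _

theorem flat_stalkMap_of_dim_le_one {X Y : Scheme.{u}} [IsIntegral X] [IsIntegral Y] [IsLocallyNoetherian Y]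
    (hY : Pi1.IsNormalScheme Y) (f : X ⟶ Y) [Surjective f] (x : X)
    (h : ringKrullDim (Y.presheaf.stalk (f x)) ≤ 1) : (f.stalkMap x).hom.Flat := by
  have hgen : f (genericPoint X) = genericPoint Y := by
    obtain ⟨z, hz⟩ := f.surjective (genericPoint Y)
    exact (hz ▸ ((genericPoint_spec X).specializes (Set.mem_univ z)).map f.continuous).antisymm
      ((genericPoint_spec Y).specializes (Set.mem_univ _)) |>.eq
  have hinj := SchBasics.stalkMap_injective f hgen x
  have := (hY (f x)).2
  algebraize [(f.stalkMap x).hom]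
  show Module.Flat (Y.presheaf.stalk (f x)) (X.presheaf.stalk x)
  by_cases hf : IsField (Y.presheaf.stalk (f x))
  · let := hf.toField
    infer_instance
  have : IsDiscreteValuationRing (Y.presheaf.stalk (f x)) := by
    let A := Y.presheaf.stalk (f x)
    have h3 : IsIntegrallyClosed A ∧ ∃! P : Ideal A, P ≠ ⊥ ∧ P.IsPrime := by
      refine ⟨inferInstance, IsLocalRing.maximalIdeal A,
        ⟨fun hb => hf (IsLocalRing.isField_iff_maximalIdeal_eq.mpr hb), (IsLocalRing.maximalIdeal.isMaximal A).isPrime⟩,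
        fun P ⟨hP, hPp⟩ => ?_⟩
      have : Ring.KrullDimLE 1 A := Ring.krullDimLE_iff.mpr h
      exact IsLocalRing.eq_maximalIdeal (Ring.krullDimLE_one_iff_of_noZeroDivisors.mp this P hP hPp)
    exact ((IsDiscreteValuationRing.TFAE A hf).out 0 3).mpr h3
  rw [IsDedekindDomain.flat_iff_torsion_eq_bot, eq_bot_iff]
  intro b hb
  obtain ⟨a, ha⟩ := (Submodule.mem_torsion_iff b).1 hb
  rw [Submodule.mem_bot]
  refine (mul_eq_zero.1 (show (f.stalkMap x).hom a.1 * b = 0 from ha)).resolve_left ?_
  exact (map_ne_zero_iff _ hinj).2 (nonZeroDivisors.ne_zero a.2)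

theorem exists_open {S : Scheme.{u}} [IsLocallyNoetherian S] [CompactSpace S] (X Y : Scheme.{u}) [IsIntegral X]
    [IsIntegral Y] (pY : Y ⟶ S) [LocallyOfFiniteType pY] [QuasiCompact pY] (hY : Pi1.IsNormalScheme Y)
    (hdX : topologicalKrullDim X = 2) (hdY : topologicalKrullDim Y = 2) (f : X ⟶ Y) [IsFinite f] [Surjective f] :
    ∃ V : Y.Opens, ((V : Set Y)ᶜ).Finite ∧ (∀ y : Y, y ∉ V → ringKrullDim (Y.presheaf.stalk y) = 2) ∧
      (((f ⁻¹ᵁ V : X.Opens) : Set X)ᶜ).Finite ∧ (∀ x : X, x ∉ f ⁻¹ᵁ V → ringKrullDim (X.presheaf.stalk x) = 2) ∧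
      Flat (f ∣_ V) := by
  have : IsLocallyNoetherian Y := LocallyOfFiniteType.isLocallyNoetherian pY
  have : CompactSpace Y := QuasiCompact.compactSpace_of_compactSpace pY
  have : IsNoetherian Y := ⟨⟩
  let N : Set X := {x | (f.stalkMap x).hom.Flat}ᶜ
  have hN : IsClosed (f '' N) := f.isClosedMap _ (S0386.result f).isClosed_compl
  have h2 : ∀ y ∈ f '' N, Order.coheight y = (2 : ℕ) := by
    rintro _ ⟨x, hx, rfl⟩
    have hle := (coheight_le_topologicalKrullDim (f x)).trans hdY.le
    refine le_antisymm (WithBot.coe_le_coe.1 hle) ?_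
    by_contra hlt
    rw [not_le] at hlt
    refine hx (flat_stalkMap_of_dim_le_one hY f x ?_)
    rw [ringKrullDim_stalk_eq_coheight]
    have : Order.coheight (f x) ≤ 1 := by
      have h3 : Order.coheight (f x) < (1 : ℕ∞) + 1 := by rwa [show ((2 : ℕ) : ℕ∞) = 1 + 1 from rfl] at hlt
      exact Order.le_of_lt_add_one h3
    exact_mod_cast this
  have hdimY : ∀ y ∈ f '' N, ringKrullDim (Y.presheaf.stalk y) = 2 := fun y hy => by
    rw [ringKrullDim_stalk_eq_coheight, h2 y hy]; rfl
  have hfinY : (f '' N).Finite :=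
    finite_of_closed_points hN fun y hy => isClosed_singleton_of_coheight_eq (d := 2) hdY.le y (h2 y hy)
  let V : Y.Opens := ⟨(f '' N)ᶜ, hN.isOpen_compl⟩
  refine ⟨V, ?_, fun y hy => hdimY y (not_not.1 hy), ?_, fun x hx => ?_, ?_⟩
  · show ((f '' N)ᶜ)ᶜ.Finite
    rwa [compl_compl]
  · show (f ⁻¹' (f '' N)ᶜ)ᶜ.Finite
    rw [Set.preimage_compl, compl_compl]
    exact hfinY.preimage' fun y _ => f.finite_preimage_singleton y
  · rw [ringKrullDim_stalk_eq_coheight]
    have h3 := natCast_le_coheight hY f (d := 2) hdY.le 2 x (h2 _ (not_not.1 hx)).ge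
    exact le_antisymm ((coheight_le_topologicalKrullDim x).trans hdX.le) (WithBot.coe_le_coe.2 h3)
  · refine (Flat.iff_flat_stalkMap _).2 fun z => ?_
    have : (RingHom.toMorphismProperty RingHom.Flat).RespectsIso :=
      RingHom.toMorphismProperty_respectsIso_iff.mp RingHom.Flat.respectsIso
    refine ((RingHom.toMorphismProperty RingHom.Flat).arrow_mk_iso_iff (morphismRestrictStalkMap f V z)).2 ?_
    by_contra hflat
    exact z.2 ⟨z.1, hflat, rfl⟩

end Groth.Agent.CAlg9.FlatCofinite
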