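import Groth.Agent.CAlg9.Completion
import Mathlib.RingTheory.AdicCompletion.Noetherian
import Mathlib.RingTheory.LocalRing.Module

namespace Groth.Agent.CAlg9

universe u v w

open W4c5adicflatcompl Submodule IsLocalRing

section approx

variable {A : Type u} [CommRing A] {I : Ideal A} {Z : Type v}
variable {M : Type w} [AddCommGroup M] [Module A M]

theorem exists_limit_decaying [IsPrecomplete I A] (G : ℕ → Z →₀ A)
    (hG : ∀ {a b : ℕ}, a ≤ b → ∀ z, G b z - G a z ∈ I ^ a) :
    ∃ g : decaying I Z A, (∀ n z, (g : Z → A) z - G n z ∈ I ^ n) ∧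
      ∀ n z, G n z = 0 → (g : Z → A) z ∈ I ^ n := by
  choose g hg using fun z => IsPrecomplete.prec (‹IsPrecomplete I A›) (f := fun n => G n z)
    (fun {a b} hab => by
      rw [SModEq.sub_mem, smul_eq_mul, Ideal.mul_top, ← neg_mem_iff, neg_sub]
      exact hG hab z)
  have h1 : ∀ n z, g z - G n z ∈ I ^ n := fun n z => by
    have := SModEq.sub_mem.mp (hg z n)
    rw [smul_eq_mul, Ideal.mul_top, ← neg_mem_iff, neg_sub] at this
    exact this
  have h2 : ∀ n z, G n z = 0 → g z ∈ I ^ n := fun n z h => by simpa [h] using h1 n z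
  have hgd : g ∈ decaying I Z A := fun n => (G n).support.finite_toSet.subset fun z hz => by
    by_contra hc
    exact hz (by simpa using h2 n z (Finsupp.notMem_support_iff.mp hc))
  exact ⟨⟨g, hgd⟩, h1, h2⟩

theorem exists_coeff_step (m : Z → M) (hm : Submodule.span A (Set.range m) ⊔ I • ⊤ = ⊤) (k : ℕ)
    {x : M} (hx : x ∈ (I ^ k • ⊤ : Submodule A M)) :
    ∃ c : Z →₀ A, (∀ z, c z ∈ I ^ k) ∧
      x - Finsupp.linearCombination A m c ∈ (I ^ (k + 1) • ⊤ : Submodule A M) := by
  refine Submodule.smul_induction_on hx (fun r hr y _ => ?_) ?_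
  · obtain ⟨s, hs, t, ht, rfl⟩ := Submodule.mem_sup.mp (hm.symm ▸ Submodule.mem_top :
      y ∈ Submodule.span A (Set.range m) ⊔ I • ⊤)
    rw [← Finsupp.range_linearCombination] at hs
    obtain ⟨c, rfl⟩ := hs
    refine ⟨r • c, fun z => ?_, ?_⟩
    · simpa using Ideal.mul_mem_right (c z) _ hr
    · rw [map_smul, smul_add, add_sub_cancel_left, pow_succ, Submodule.mul_smul]
      exact Submodule.smul_mem_smul hr ht
  · rintro a b ⟨c, hc, hc'⟩ ⟨d, hd, hd'⟩
    refine ⟨c + d, fun z => by simpa using add_mem (hc z) (hd z), ?_⟩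
    rw [map_add, add_sub_add_comm]
    exact Submodule.add_mem _ hc' hd'

theorem exists_expansion [IsPrecomplete I A] (m : Z → M)
    (hm : Submodule.span A (Set.range m) ⊔ I • ⊤ = ⊤) (x : M) :
    ∃ g : decaying I Z A, ∀ n : ℕ, ∃ S : Finset Z,
      (∀ z, z ∉ S → (g : Z → A) z ∈ I ^ n) ∧
      x - ∑ z ∈ S, (g : Z → A) z • m z ∈ (I ^ n • ⊤ : Submodule A M) := by
  choose c hc hc' using fun k (y : (I ^ k • ⊤ : Submodule A M)) => exists_coeff_step m hm k y.2
  let X : ∀ k, (I ^ k • ⊤ : Submodule A M) := fun k => Nat.rec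
    ⟨x, by simp [Ideal.one_eq_top]⟩ (fun j y => ⟨_, hc' j y⟩) k
  let G : ℕ → Z →₀ A := fun n => ∑ k ∈ Finset.range n, c k (X k)
  have hX : ∀ n, (X n).1 = x - Finsupp.linearCombination A m (G n) := by
    intro n
    induction n with
    | zero => simp [G, X]
    | succ n ih =>
      show (X n).1 - Finsupp.linearCombination A m (c n (X n)) = _
      rw [ih]
      simp only [G, Finset.sum_range_succ, map_add]
      abel
  obtain ⟨g, h1, h2⟩ := exists_limit_decaying (I := I) G fun {a b} hab z => by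
    rw [show G b z - G a z = ∑ k ∈ Finset.Ico a b, c k (X k) z by
      simp only [G, Finsupp.finsetSum_apply, Finset.sum_Ico_eq_sub _ hab]]
    exact Submodule.sum_mem _ fun k hk =>
      Ideal.pow_le_pow_right (Finset.mem_Ico.mp hk).1 (hc k _ z)
  refine ⟨g, fun n => ⟨(G n).support, fun z hz => h2 n z (Finsupp.notMem_support_iff.mp hz), ?_⟩⟩
  have e : x - ∑ z ∈ (G n).support, (g : Z → A) z • m z =
      (X n).1 - ∑ z ∈ (G n).support, ((g : Z → A) z - G n z) • m z := by
    rw [hX, Finsupp.linearCombination_apply, Finsupp.sum]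
    simp [sub_smul, Finset.sum_sub_distrib]
  rw [e]
  exact Submodule.sub_mem _ (X n).2
    (Submodule.sum_mem _ fun z _ => Submodule.smul_mem_smul (h1 n z) trivial)

end approx

section local_ring

variable {A : Type u} [CommRing A]
variable {M : Type w} [AddCommGroup M] [Module A M] {ι : Type u}

theorem ker_residue_mk [IsLocalRing A] :
    LinearMap.ker (TensorProduct.mk A (ResidueField A) M 1) =
      (maximalIdeal A • ⊤ : Submodule A M) :=
  LinearMap.ker_tensorProductMk M

theorem linearIndependent_of_flat' [IsLocalRing A] [Module.Flat A M] (v : ι → M)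
    (H : ∀ (s : Finset ι) (c : ι → A),
      ∑ i ∈ s, c i • v i ∈ (maximalIdeal A • ⊤ : Submodule A M) →
      ∀ i ∈ s, c i ∈ maximalIdeal A) :
    LinearIndependent A v := by
  refine Module.IsLocalRing.linearIndependent_of_flat v ?_
  rw [linearIndependent_iff']
  intro s g hg i hi
  choose c hc using fun j => residue_surjective (g j)
  have h1 : (TensorProduct.mk A (ResidueField A) M 1) (∑ j ∈ s, c j • v j) = 0 := by
    rw [map_sum]
    rw [← hg]
    refine Finset.sum_congr rfl fun j _ => ?_
    rw [Function.comp_apply, map_smul, ← hc j]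
    exact (algebraMap_smul (ResidueField A) (c j) _).symm
  rw [← LinearMap.mem_ker, ker_residue_mk] at h1
  rw [← hc i]
  exact (residue_eq_zero_iff _).mpr (H s c h1 i hi)

theorem coeff_mem_of_flat_quotient (J m : Ideal A) [m.IsMaximal] (hJ : J ≤ m)
    [IsLocalRing (A ⧸ J)] [Module (A ⧸ J) M] [IsScalarTower A (A ⧸ J) M] [Module.Flat (A ⧸ J) M]
    (v : ι → M)
    (H : ∀ (s : Finset ι) (c : ι → A), ∑ i ∈ s, c i • v i ∈ (m • ⊤ : Submodule A M) →
      ∀ i ∈ s, c i ∈ m)
    (s : Finset ι) (c : ι → A) (h : ∑ i ∈ s, c i • v i = 0) : ∀ i ∈ s, c i ∈ J := by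
  have hsmul : ∀ (a : A) (x : M), (Ideal.Quotient.mk J a) • x = a • x := fun a x =>
    algebraMap_smul (A ⧸ J) a x
  have hmem : ∀ a : A, Ideal.Quotient.mk J a ∈ maximalIdeal (A ⧸ J) ↔ a ∈ m := by
    intro a
    have hmax : (m.map (Ideal.Quotient.mk J)).IsMaximal := by
      refine (Ideal.map_eq_top_or_isMaximal_of_surjective _ Ideal.Quotient.mk_surjective
        ‹m.IsMaximal›).resolve_left fun ht => ‹m.IsMaximal›.ne_top ?_
      rw [← sup_of_le_right hJ, ← Ideal.comap_map_quotientMk, ht, Ideal.comap_top]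
    rw [← IsLocalRing.eq_maximalIdeal hmax, ← Ideal.mem_comap, Ideal.comap_map_quotientMk,
      sup_of_le_right hJ]
  have hli : LinearIndependent (A ⧸ J) v := by
    refine linearIndependent_of_flat' v fun t d hd => ?_
    choose d' hd' using fun j => Ideal.Quotient.mk_surjective (d j)
    simp_rw [← hd', hsmul] at hd
    have h2 : ∑ i ∈ t, d' i • v i ∈ (m • ⊤ : Submodule A M) := by
      refine Submodule.smul_induction_on hd (fun r hr x _ => ?_) fun x y hx hy => add_mem hx hy
      obtain ⟨a, rfl⟩ := Ideal.Quotient.mk_surjective r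
      rw [hsmul]
      exact Submodule.smul_mem_smul ((hmem a).mp hr) trivial
    intro i hi
    rw [← hd' i]
    exact (hmem _).mpr (H t d' h2 i hi)
  intro i hi
  rw [← Ideal.Quotient.eq_zero_iff_mem]
  exact linearIndependent_iff'.mp hli s (fun j => Ideal.Quotient.mk J (c j))
    (by simpa [hsmul] using h) i hi

theorem exists_lift_basis [IsLocalRing A] (M : Type u) [AddCommGroup M] [Module A M] :
    ∃ (Z : Type u) (v : Z → M), Submodule.span A (Set.range v) ⊔ maximalIdeal A • ⊤ = ⊤ ∧
      ∀ (s : Finset Z) (c : Z → A),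
        ∑ i ∈ s, c i • v i ∈ (maximalIdeal A • ⊤ : Submodule A M) →
        ∀ i ∈ s, c i ∈ maximalIdeal A := by
  classical
  let b := Module.Free.chooseBasis (ResidueField A) (TensorProduct A (ResidueField A) M)
  choose v hv using fun i => TensorProduct.mk_surjective A M (ResidueField A)
    residue_surjective (b i)
  refine ⟨_, v, eq_top_iff.mpr fun x _ => ?_, fun s c h i hi => ?_⟩
  · let r := b.repr ((TensorProduct.mk A (ResidueField A) M) 1 x)
    choose d hd using fun j => residue_surjective (r j)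
    have h1 : x - ∑ j ∈ r.support, d j • v j ∈ (maximalIdeal A • ⊤ : Submodule A M) := by
      rw [← ker_residue_mk, LinearMap.mem_ker, map_sub, map_sum, sub_eq_zero]
      conv_lhs => rw [← b.linearCombination_repr ((TensorProduct.mk A (ResidueField A) M) 1 x)]
      rw [Finsupp.linearCombination_apply, Finsupp.sum]
      refine Finset.sum_congr rfl fun j _ => ?_
      rw [map_smul, hv j]
      show r j • b j = _
      rw [← hd j]
      exact algebraMap_smul (ResidueField A) (d j) (b j)
    refine Submodule.mem_sup.mpr ⟨∑ j ∈ r.support, d j • v j, Submodule.sum_mem _ fun j _ =>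
      Submodule.smul_mem _ _ (Submodule.subset_span ⟨j, rfl⟩), _, h1, by abel⟩
  · rw [← ker_residue_mk, LinearMap.mem_ker, map_sum] at h
    rw [← residue_eq_zero_iff]
    refine linearIndependent_iff'.mp b.linearIndependent s (fun j => residue A (c j)) ?_ i hi
    rw [← h]
    refine Finset.sum_congr rfl fun j _ => ?_
    rw [map_smul, hv j]
    exact algebraMap_smul (ResidueField A) (c j) (b j)

theorem isLocalRing_quotient [IsLocalRing A] (J : Ideal A) (hJ : J ≠ ⊤) : IsLocalRing (A ⧸ J) :=
  have : Nontrivial (A ⧸ J) := Ideal.Quotient.nontrivial_iff.mpr hJ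
  IsLocalRing.of_surjective' (Ideal.Quotient.mk J) Ideal.Quotient.mk_surjective

theorem isAdicComplete_of_pow_smul_eq_bot {I : Ideal A} {k : ℕ}
    (h : (I ^ k • ⊤ : Submodule A M) = ⊥) : IsAdicComplete I M := by
  refine { haus' := fun x hx => ?_, prec' := fun f hf => ⟨f k, fun n => ?_⟩ }
  · have := hx k
    rw [h, SModEq.bot] at this
    exact this
  · rcases le_total n k with hnk | hnk
    · exact hf hnk
    · have := hf hnk
      rw [h, SModEq.bot] at this
      rw [this]

theorem span_eq_top_of_nilpotent {I : Ideal A} {k : ℕ} (P : Submodule A M)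
    (hP : P ⊔ I • ⊤ = ⊤) (h : (I ^ k • ⊤ : Submodule A M) = ⊥) : P = ⊤ := by
  have key : ∀ j, P ⊔ I ^ j • ⊤ = ⊤ := by
    intro j
    induction j with
    | zero => simp [Ideal.one_eq_top]
    | succ j ih =>
      refine eq_top_iff.mpr (ih.ge.trans (sup_le le_sup_left ?_))
      calc (I ^ j • ⊤ : Submodule A M) = I ^ j • (P ⊔ I • ⊤) := by rw [hP]
        _ = I ^ j • P ⊔ I ^ (j + 1) • ⊤ := by rw [Submodule.smul_sup, pow_succ, Submodule.mul_smul]
        _ ≤ P ⊔ I ^ (j + 1) • ⊤ := sup_le_sup_right Submodule.smul_le_right _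
  simpa [h] using key k

end local_ring

end Groth.Agent.CAlg9
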