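import Mathlib.LinearAlgebra.BilinearForm.Properties
import Mathlib.LinearAlgebra.Basis.Fin
import Mathlib.LinearAlgebra.FreeModule.PID
import Mathlib.Algebra.GCDMonoid.Finset
import Mathlib.RingTheory.Int.Basic
import Mathlib.Data.ZMod.QuotientGroup
import Mathlib.Tactic.Ring
import Mathlib.Tactic.LinearCombination

/-!
The lattice computation for symmetric forms `x ↦ b(d,x) + (1-g) b(x,x)` modulo `δ`.
-/

namespace Groth.Agent.CAlg9.Lattice

open Finset

theorem exists_sum_eq_gcd {ι : Type*} (s : Finset ι) (d : ι → ℤ) :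
    ∃ c : ι → ℤ, ∑ i ∈ s, c i * d i = s.gcd d := by
  classical
  induction s using Finset.induction with
  | empty => exact ⟨0, by simp⟩
  | insert a s ha ih =>
    obtain ⟨c, hc⟩ := ih
    refine ⟨fun i => if i = a then Int.gcdA (d a) (s.gcd d)
      else Int.gcdB (d a) (s.gcd d) * c i, ?_⟩
    rw [Finset.gcd_insert, ← Int.coe_gcd, Int.gcd_eq_gcd_ab, Finset.sum_insert ha,
      Finset.sum_congr rfl (g := fun i => Int.gcdB (d a) (s.gcd d) * (c i * d i))
        (fun i hi => by simp only [if_neg (ne_of_mem_of_not_mem hi ha)]; ring),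
      ← Finset.mul_sum, hc]
    simp only [if_true]
    ring

theorem exists_basis {r' : ℕ} (d : Fin (r' + 1) → ℤ) :
    ∃ e : Module.Basis (Fin (r' + 1)) ℤ (Fin (r' + 1) → ℤ),
      d = (Finset.univ.gcd d) • e 0 := by
  classical
  set D := Finset.univ.gcd d with hD
  by_cases h0 : D = 0
  · refine ⟨Pi.basisFun ℤ _, funext fun i => ?_⟩
    rw [h0, zero_smul]
    exact Finset.gcd_eq_zero_iff.mp (hD.symm.trans h0) i (Finset.mem_univ i)
  obtain ⟨c, hc⟩ := exists_sum_eq_gcd Finset.univ d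
  have hdvd : ∀ i, ∃ t, d i = D * t := fun i => Finset.gcd_dvd (Finset.mem_univ i)
  choose d' hd' using hdvd
  let lam : (Fin (r' + 1) → ℤ) →ₗ[ℤ] ℤ := ∑ i, c i • LinearMap.proj i
  have hlam : ∀ z, lam z = ∑ i, c i * z i := fun z => by simp [lam]
  have hl1 : lam d' = 1 := by
    refine mul_left_cancel₀ h0 ?_
    rw [hlam, Finset.mul_sum, mul_one]
    refine Eq.trans (Finset.sum_congr rfl fun i _ => ?_) hc
    rw [hd' i]; ring
  obtain ⟨m, b⟩ := Submodule.basisOfPid (Pi.basisFun ℤ (Fin (r' + 1))) (LinearMap.ker lam)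
  have hli : ∀ (a : ℤ), ∀ x ∈ LinearMap.ker lam, a • d' + x = 0 → a = 0 := by
    intro a x hx h
    have := congrArg lam h
    rwa [map_add, map_smul, hl1, LinearMap.mem_ker.mp hx, add_zero, map_zero, smul_eq_mul,
      mul_one] at this
  have hsp : ∀ z, ∃ a : ℤ, z + a • d' ∈ LinearMap.ker lam := fun z =>
    ⟨-lam z, by rw [LinearMap.mem_ker, map_add, map_smul, hl1, smul_eq_mul, mul_one, add_neg_cancel]⟩
  let e' := Module.Basis.mkFinCons d' b hli hsp
  have hm : m + 1 = r' + 1 := by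
    have := Module.finrank_eq_card_basis e'
    rwa [Module.finrank_fin_fun, Fintype.card_fin, eq_comm] at this
  obtain rfl : m = r' := Nat.succ_injective hm
  refine ⟨e', funext fun i => ?_⟩
  rw [hd' i, Pi.smul_apply, smul_eq_mul]
  congr 1
  rw [show e' = Module.Basis.mkFinCons d' b hli hsp from rfl, Module.Basis.coe_mkFinCons]
  simp

section

variable {r' δ : ℕ} {g : ℤ} (e : Module.Basis (Fin (r' + 1)) ℤ (Fin (r' + 1) → ℤ))

/-- Values on the basis. -/
noncomputable def coords : ((Fin (r' + 1) → ℤ) →+ ZMod δ) ≃+ (Fin (r' + 1) → ZMod δ) where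
  toFun φ i := φ (e i)
  invFun v := (e.constr ℤ v).toAddMonoidHom
  left_inv φ := by
    have h : e.constr ℤ (fun i => φ (e i)) = φ.toIntLinearMap :=
      e.ext fun i => by simp
    simp only [h]
    ext z; rfl
  right_inv v := by ext i; simp
  map_add' _ _ := rfl

theorem coords_apply (φ : (Fin (r' + 1) → ℤ) →+ ZMod δ) (i : Fin (r' + 1)) :
    coords e φ i = φ (e i) := rfl

/-- The generators. -/
def gens (δ : ℕ) (g : ℤ) (d : Fin (r' + 1) → ℤ) : Set ((Fin (r' + 1) → ℤ) →+ ZMod δ) :=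
  {φ | ∃ b : LinearMap.BilinForm ℤ (Fin (r' + 1) → ℤ), b.IsSymm ∧
      ∀ x, φ x = ((b d x + (1 - g) * b x x : ℤ) : ZMod δ)}

theorem mem_closure_iff (hδ : (δ : ℤ) ∣ 2 * (g - 1)) (d : Fin (r' + 1) → ℤ) (D : ℤ)
    (hd : d = D • e 0) (φ : (Fin (r' + 1) → ℤ) →+ ZMod δ) :
    φ ∈ AddSubgroup.closure (gens δ g d) ↔
      (∃ a : ℤ, coords e φ 0 = ((a * (D + 1 - g) : ℤ) : ZMod δ)) ∧
      ∀ i : Fin r', ∃ x y : ℤ, coords e φ i.succ = ((x * D + y * (1 - g) : ℤ) : ZMod δ) := by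
  constructor
  · intro h
    induction h using AddSubgroup.closure_induction with
    | mem φ hφ =>
      obtain ⟨b, hb, hφ⟩ := hφ
      refine ⟨⟨b (e 0) (e 0), ?_⟩, fun i => ⟨b (e 0) (e i.succ), b (e i.succ) (e i.succ), ?_⟩⟩
      · rw [coords_apply, hφ, hd, map_smul, LinearMap.smul_apply, smul_eq_mul]
        congr 1; ring
      · rw [coords_apply, hφ, hd, map_smul, LinearMap.smul_apply, smul_eq_mul]
        congr 1; ring
    | zero => exact ⟨⟨0, by simp⟩, fun i => ⟨0, 0, by simp⟩⟩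
    | add φ ψ _ _ h1 h2 =>
      obtain ⟨a, ha⟩ := h1.1
      obtain ⟨a', ha'⟩ := h2.1
      refine ⟨⟨a + a', by rw [map_add, Pi.add_apply, ha, ha']; push_cast; ring⟩, fun i => ?_⟩
      obtain ⟨x, y, hxy⟩ := h1.2 i
      obtain ⟨x', y', hxy'⟩ := h2.2 i
      exact ⟨x + x', y + y', by rw [map_add, Pi.add_apply, hxy, hxy']; push_cast; ring⟩
    | neg φ _ h1 =>
      obtain ⟨a, ha⟩ := h1.1
      refine ⟨⟨-a, by rw [map_neg, Pi.neg_apply, ha]; push_cast; ring⟩, fun i => ?_⟩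
      obtain ⟨x, y, hxy⟩ := h1.2 i
      exact ⟨-x, -y, by rw [map_neg, Pi.neg_apply, hxy]; push_cast; ring⟩
  · rintro ⟨⟨a, ha⟩, h⟩
    choose x y hxy using h
    let Mt : Fin (r' + 1) → Fin (r' + 1) → ℤ :=
      Fin.cons (Fin.cons a x) fun i => Fin.cons (x i) fun j => if i = j then y i else 0
    have hMt : ∀ i j, Mt i j = Mt j i := by
      intro i j
      refine Fin.cases ?_ (fun i' => ?_) i <;> refine Fin.cases ?_ (fun j' => ?_) j <;>
        simp [Mt]
      rcases eq_or_ne i' j' with rfl | hne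
      · simp
      · simp [hne, hne.symm]
    let b : LinearMap.BilinForm ℤ (Fin (r' + 1) → ℤ) :=
      e.constr ℤ fun i => e.constr ℤ (Mt i)
    have hbe : ∀ i j, b (e i) (e j) = Mt i j := fun i j => by simp [b]
    have hsymm : ∀ u v, b u v = b v u := by
      have : b = LinearMap.flip b := e.ext fun i => e.ext fun j => by
        rw [LinearMap.flip_apply, hbe, hbe, hMt]
      intro u v
      conv_lhs => rw [this, LinearMap.flip_apply]
    refine AddSubgroup.subset_closure ⟨b, ⟨hsymm⟩, fun z => ?_⟩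
    let ψ : (Fin (r' + 1) → ℤ) →+ ZMod δ :=
      AddMonoidHom.mk' (fun z => ((b d z + (1 - g) * b z z : ℤ) : ZMod δ)) fun u v => by
        have h2 : ((2 * (g - 1) * b u v : ℤ) : ZMod δ) = 0 :=
          (ZMod.intCast_zmod_eq_zero_iff_dvd _ _).mpr (hδ.mul_right _)
        have e1 : b d (u + v) + (1 - g) * b (u + v) (u + v) =
            (b d u + (1 - g) * b u u) + (b d v + (1 - g) * b v v) - 2 * (g - 1) * b u v := by
          simp only [map_add, LinearMap.add_apply, hsymm v u]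
          ring
        rw [e1, Int.cast_sub, h2, sub_zero, Int.cast_add]
    suffices φ = ψ from DFunLike.congr_fun this z
    refine (coords e).injective (funext fun i => ?_)
    rw [coords_apply e ψ]
    refine Fin.cases ?_ (fun j => ?_) i
    · rw [ha]
      show _ = ((b d (e 0) + (1 - g) * b (e 0) (e 0) : ℤ) : ZMod δ)
      rw [hd, map_smul, LinearMap.smul_apply, hbe, smul_eq_mul]
      simp only [Mt, Fin.cons_zero]
      congr 1; ring
    · rw [hxy j]
      show _ = ((b d (e j.succ) + (1 - g) * b (e j.succ) (e j.succ) : ℤ) : ZMod δ)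
      rw [hd, map_smul, LinearMap.smul_apply, hbe, hbe, smul_eq_mul]
      simp only [Mt, Fin.cons_zero, Fin.cons_succ, if_true]
      congr 1; ring

theorem exists_mul_iff_castHom {n : ℕ} (A : ℤ) (hn : n = Int.gcd δ A) (h : n ∣ δ) (v : ZMod δ) :
    (∃ a : ℤ, v = ((a * A : ℤ) : ZMod δ)) ↔ ZMod.castHom h (ZMod n) v = 0 := by
  obtain ⟨z, rfl⟩ := ZMod.intCast_surjective v
  rw [map_intCast, ZMod.intCast_zmod_eq_zero_iff_dvd]
  constructor
  · rintro ⟨a, ha⟩
    rw [ZMod.intCast_eq_intCast_iff_dvd_sub] at ha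
    have h1 : (n : ℤ) ∣ a * A - z := (Int.natCast_dvd_natCast.mpr h).trans ha
    have h2 : (n : ℤ) ∣ a * A := (hn ▸ Int.gcd_dvd_right _ _).mul_left a
    simpa using dvd_sub h2 h1
  · rintro ⟨t, rfl⟩
    refine ⟨t * Int.gcdB δ A, (ZMod.intCast_eq_intCast_iff_dvd_sub _ _ _).mpr ⟨-(t * Int.gcdA δ A), ?_⟩⟩
    rw [hn, Int.gcd_eq_gcd_ab]; ring

theorem combo_iff (D : ℤ) (v : ZMod δ) :
    (∃ x y : ℤ, v = ((x * D + y * (1 - g) : ℤ) : ZMod δ)) ↔
      ∃ a : ℤ, v = ((a * (Int.gcd (g - 1) D : ℤ) : ℤ) : ZMod δ) := by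
  constructor
  · rintro ⟨x, y, rfl⟩
    obtain ⟨t, ht⟩ : (Int.gcd (g - 1) D : ℤ) ∣ x * D + y * (1 - g) := by
      refine dvd_add ((Int.gcd_dvd_right _ _).mul_left x) ?_
      rw [show y * (1 - g) = -y * (g - 1) by ring]
      exact (Int.gcd_dvd_left _ _).mul_left _
    exact ⟨t, by rw [ht, mul_comm]⟩
  · rintro ⟨a, rfl⟩
    exact ⟨a * Int.gcdB (g - 1) D, -(a * Int.gcdA (g - 1) D), by
      rw [Int.gcd_eq_gcd_ab]; congr 1; ring⟩

theorem quotient_equiv (hδ : (δ : ℤ) ∣ 2 * (g - 1)) (d : Fin (r' + 1) → ℤ) :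
    Nonempty ((((Fin (r' + 1) → ℤ) →+ ZMod δ) ⧸ AddSubgroup.closure (gens δ g d)) ≃+
      (ZMod (Int.gcd δ (Finset.univ.gcd d + 1 - g)) ×
        (Fin r' → ZMod (Int.gcd δ (Int.gcd (g - 1) (Finset.univ.gcd d)))))) := by
  obtain ⟨e, he⟩ := exists_basis d
  generalize hD : Finset.univ.gcd d = D at he ⊢
  generalize hA : Int.gcd δ (D + 1 - g) = nA
  generalize hB : Int.gcd δ (Int.gcd (g - 1) D) = nB
  have hA' : nA ∣ δ := hA ▸ Int.natCast_dvd_natCast.mp (Int.gcd_dvd_left _ _)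
  have hB' : nB ∣ δ := hB ▸ Int.natCast_dvd_natCast.mp (Int.gcd_dvd_left _ _)
  let Ψ : ((Fin (r' + 1) → ℤ) →+ ZMod δ) →+ ZMod nA × (Fin r' → ZMod nB) :=
    AddMonoidHom.mk' (fun φ => (ZMod.castHom hA' (ZMod nA) (coords e φ 0),
      fun i => ZMod.castHom hB' (ZMod nB) (coords e φ i.succ))) fun φ ψ =>
        Prod.ext (by simp only [map_add, Pi.add_apply, Prod.fst_add])
          (funext fun i => by simp only [map_add, Pi.add_apply, Prod.snd_add])
  have hsurj : Function.Surjective Ψ := by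
    rintro ⟨u, w⟩
    obtain ⟨u', hu'⟩ := ZMod.castHom_surjective hA' u
    choose w' hw' using fun i => ZMod.castHom_surjective hB' (w i)
    refine ⟨(coords e).symm (Fin.cons u' w'), Prod.ext ?_ (funext fun i => ?_)⟩
    · show ZMod.castHom hA' (ZMod nA) (coords e ((coords e).symm (Fin.cons u' w')) 0) = u
      rw [AddEquiv.apply_symm_apply, Fin.cons_zero, hu']
    · show ZMod.castHom hB' (ZMod nB) (coords e ((coords e).symm (Fin.cons u' w')) i.succ) = w i
      rw [AddEquiv.apply_symm_apply, Fin.cons_succ, hw' i]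
  have hker : AddSubgroup.closure (gens δ g d) = Ψ.ker := by
    ext φ
    rw [mem_closure_iff e hδ d D he, AddMonoidHom.mem_ker]
    show _ ↔ (_, _) = ((0 : ZMod nA), (0 : Fin r' → ZMod nB))
    rw [Prod.ext_iff, funext_iff]
    exact and_congr (exists_mul_iff_castHom _ hA.symm hA' _)
      (forall_congr' fun i => (combo_iff D _).trans (exists_mul_iff_castHom _ hB.symm hB' _))
  exact ⟨(QuotientAddGroup.quotientAddEquivOfEq hker).trans
    (QuotientAddGroup.quotientKerEquivOfSurjective Ψ hsurj)⟩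

theorem exists_cyclic_embedding (hδ0 : 0 < δ) (A : ℤ) :
    ∃ θ : ZMod (δ / Int.gcd δ A) →+ ZMod δ, Function.Injective θ ∧
      ∀ v, (∃ a : ℤ, v = ((a * A : ℤ) : ZMod δ)) ↔ v ∈ θ.range := by
  have hG : 0 < Int.gcd δ A := Int.gcd_pos_of_ne_zero_left _ (by exact_mod_cast hδ0.ne')
  have hdiv : Int.gcd δ A ∣ δ := Int.natCast_dvd_natCast.mp (Int.gcd_dvd_left _ _)
  let f : ℤ →+ ZMod δ := (Int.castAddHom (ZMod δ)).comp (AddMonoidHom.mulRight A)
  have key : ∀ a : ℤ, f a = 0 ↔ ((δ / Int.gcd δ A : ℕ) : ℤ) ∣ a := by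
    intro a
    show ((a * A : ℤ) : ZMod δ) = 0 ↔ _
    rw [ZMod.intCast_zmod_eq_zero_iff_dvd]
    constructor
    · intro h
      have h1 : ((δ / Int.gcd δ A : ℕ) : ℤ) * Int.gcd δ A = δ := by
        exact_mod_cast Nat.div_mul_cancel hdiv
      have h2 : (δ : ℤ) ∣ a * Int.gcd δ A := by
        rw [Int.gcd_eq_gcd_ab, mul_add]
        exact dvd_add ((dvd_mul_right _ _).mul_left a)
          (by rw [← mul_assoc]; exact h.mul_right _)
      exact Int.dvd_of_mul_dvd_mul_right (Int.natCast_ne_zero.mpr hG.ne') (h1.dvd.trans h2)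
    · intro h
      obtain ⟨t, rfl⟩ := h
      obtain ⟨A', hA'⟩ : (Int.gcd δ A : ℤ) ∣ A := Int.gcd_dvd_right _ _
      refine ⟨t * A', ?_⟩
      have h1 : ((δ / Int.gcd δ A : ℕ) : ℤ) * Int.gcd δ A = δ := by
        exact_mod_cast Nat.div_mul_cancel hdiv
      linear_combination ((δ / Int.gcd δ A : ℕ) : ℤ) * t * hA' + t * A' * h1
  refine ⟨ZMod.lift _ ⟨f, (key _).mpr dvd_rfl⟩, ?_, fun v => ⟨?_, ?_⟩⟩
  · refine (injective_iff_map_eq_zero _).mpr fun x hx => ?_
    obtain ⟨z, rfl⟩ := ZMod.intCast_surjective x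
    rw [ZMod.lift_coe] at hx
    exact (ZMod.intCast_zmod_eq_zero_iff_dvd _ _).mpr ((key z).mp hx)
  · rintro ⟨a, rfl⟩
    exact ⟨(a : ZMod _), by rw [ZMod.lift_coe]; rfl⟩
  · rintro ⟨x, rfl⟩
    obtain ⟨z, rfl⟩ := ZMod.intCast_surjective x
    exact ⟨z, by rw [ZMod.lift_coe]; rfl⟩

theorem closure_equiv (hδ0 : 0 < δ) (hδ : (δ : ℤ) ∣ 2 * (g - 1)) (d : Fin (r' + 1) → ℤ) :
    Nonempty (AddSubgroup.closure (gens δ g d) ≃+
      (ZMod (δ / Int.gcd δ (Finset.univ.gcd d + 1 - g)) ×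
        (Fin r' → ZMod (δ / Int.gcd δ (Int.gcd (g - 1) (Finset.univ.gcd d)))))) := by
  obtain ⟨e, he⟩ := exists_basis d
  generalize hD : Finset.univ.gcd d = D at he ⊢
  obtain ⟨θA, hAinj, hAr⟩ := exists_cyclic_embedding hδ0 (D + 1 - g)
  obtain ⟨θB, hBinj, hBr⟩ := exists_cyclic_embedding hδ0 (Int.gcd (g - 1) D)
  let Θ : (ZMod (δ / Int.gcd δ (D + 1 - g)) ×
      (Fin r' → ZMod (δ / Int.gcd δ (Int.gcd (g - 1) D)))) →+ ((Fin (r' + 1) → ℤ) →+ ZMod δ) :=
    AddMonoidHom.mk' (fun p => (coords e).symm (Fin.cons (θA p.1) fun i => θB (p.2 i))) fun p q => by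
      rw [← map_add]
      congr 1
      funext i
      refine Fin.cases ?_ (fun j => ?_) i <;> simp
  have hΘ : ∀ p, coords e (Θ p) = Fin.cons (θA p.1) fun i => θB (p.2 i) := fun p => by
    simp [Θ]
  have hinj : Function.Injective Θ := by
    intro p q h
    have h' := congrArg (coords e) h
    rw [hΘ, hΘ, Fin.cons_inj] at h'
    exact Prod.ext (hAinj h'.1) (funext fun i => hBinj (congrFun h'.2 i))
  have hrange : Θ.range = AddSubgroup.closure (gens δ g d) := by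
    ext φ
    rw [mem_closure_iff e hδ d D he]
    constructor
    · rintro ⟨p, rfl⟩
      simp only [hΘ, Fin.cons_zero, Fin.cons_succ]
      exact ⟨(hAr _).mpr ⟨_, rfl⟩, fun i => (combo_iff D _).mpr ((hBr _).mpr ⟨_, rfl⟩)⟩
    · rintro ⟨h0, h⟩
      obtain ⟨u, hu⟩ := (hAr _).mp h0
      choose w hw using fun i => (hBr _).mp ((combo_iff D _).mp (h i))
      refine ⟨(u, w), (coords e).injective (funext fun i => ?_)⟩
      rw [hΘ]
      refine Fin.cases ?_ (fun j => ?_) i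
      · rw [Fin.cons_zero, hu]
      · rw [Fin.cons_succ, hw j]
  exact ⟨((AddMonoidHom.ofInjective hinj).trans (AddEquiv.addSubgroupCongr hrange)).symm⟩

end

end Groth.Agent.CAlg9.Lattice
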