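import Groth.Prelude.Def_Found
import Groth.Agent.CAlg9.FSFlat
import Groth.Agent.CAlg5.RegularHom
import Groth.Agent.EGA4Alg4.GeomRegFS
import Groth.Agent.Cohen12.FlatFS

/-! Regular homomorphisms and formal smoothness of the local maps. -/

set_option autoImplicit false
set_option maxHeartbeats 1000000

universe u

open IsLocalRing TensorProduct

namespace Groth.Agent.CAlg9

theorem isNoetherianRing_fiber {R S : Type u} [CommRing R] [CommRing S] [Algebra R S] [IsNoetherianRing S]
    (p : Ideal R) [p.IsPrime] : IsNoetherianRing (p.Fiber S) := by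
  letI : Algebra S (p.Fiber S) := Algebra.TensorProduct.rightAlgebra
  haveI : IsNoetherianRing (Localization (Algebra.algebraMapSubmonoid S p.primeCompl)) :=
    IsLocalization.isNoetherianRing (Algebra.algebraMapSubmonoid S p.primeCompl) _ inferInstance
  exact isNoetherianRing_of_ringEquiv _ (Ideal.Fiber.algEquivQuotient (S := S) p).symm.toRingEquiv

theorem isGeometricallyRegular_of_localization (k S : Type u) [Field k] [CommRing S] [Algebra k S]
    [IsNoetherianRing S]
    (h : ∀ (Q : Ideal S) [Q.IsPrime], CAlg.IsGeometricallyRegular k (Localization.AtPrime Q)) :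
    CAlg.IsGeometricallyRegular k S := by
  intro l _ _ hl
  haveI : IsNoetherianRing (l ⊗[k] S) := by
    haveI : Algebra.FiniteType S (S ⊗[k] l) := inferInstance
    haveI := Algebra.FiniteType.isNoetherianRing S (S ⊗[k] l)
    exact isNoetherianRing_of_ringEquiv _ (Algebra.TensorProduct.comm k S l).toRingEquiv
  rw [isRegularRing_iff]
  intro P hP
  let inc := (Algebra.TensorProduct.includeRight : S →ₐ[k] l ⊗[k] S)
  let Q := P.comap inc
  have := h Q l hl
  let M : Submonoid (l ⊗[k] S) := Q.primeCompl.map inc
  let L := Localization M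
  haveI : IsRegularRing L := IsRegularRing.of_ringEquiv
    (IsLocalization.tensorProductEquivOfMapIncludeRight k l Q.primeCompl (Localization.AtPrime Q) L).toRingEquiv
  have hdisj : Disjoint (M : Set (l ⊗[k] S)) (P : Set (l ⊗[k] S)) := by
    rw [Set.disjoint_left]
    rintro _ ⟨x, hx, rfl⟩ hxP
    exact hx hxP
  haveI hP' : (P.map (algebraMap _ L)).IsPrime := IsLocalization.isPrime_of_isPrime_disjoint M _ P hP hdisj
  have hc : (P.map (algebraMap _ L)).comap (algebraMap (l ⊗[k] S) L) = P :=
    IsLocalization.comap_map_of_isPrime_disjoint M _ hP hdisj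
  let e : Localization.AtPrime ((P.map (algebraMap (l ⊗[k] S) L)).comap (algebraMap (l ⊗[k] S) L)) ≃+*
      Localization.AtPrime (P.map (algebraMap (l ⊗[k] S) L)) :=
    (IsLocalization.localizationLocalizationAtPrimeIsoLocalization M (P.map (algebraMap _ L))).toRingEquiv
  haveI : IsRegularLocalRing (Localization.AtPrime (P.map (algebraMap (l ⊗[k] S) L))) :=
    IsRegularRing.isRegularLocalRing_localization _
  exact regular_congr hc (@IsRegularLocalRing.of_ringEquiv _ _ ‹_› _ _ e.symm)
where
  regular_congr {T : Type u} [CommRing T] {P P' : Ideal T} [P.IsPrime] [P'.IsPrime]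
      (e : P = P') (h : IsRegularLocalRing (Localization.AtPrime P)) :
      IsRegularLocalRing (Localization.AtPrime P') := by
    subst e; exact h

section Local

variable {A B : Type u} [CommRing A] [IsLocalRing A] [CommRing B] [IsLocalRing B] [IsNoetherianRing B]
  [Algebra A B] [IsLocalHom (algebraMap A B)]

theorem map_mk_maximalIdeal (I : Ideal B) [Nontrivial (B ⧸ I)] :
    haveI := IsLocalRing.of_surjective' (Ideal.Quotient.mk I) Ideal.Quotient.mk_surjective
    (maximalIdeal B).map (Ideal.Quotient.mk I) = maximalIdeal (B ⧸ I) := by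
  haveI := IsLocalRing.of_surjective' (Ideal.Quotient.mk I) Ideal.Quotient.mk_surjective
  haveI : IsLocalHom (Ideal.Quotient.mk I) := IsLocalHom.of_surjective _ Ideal.Quotient.mk_surjective
  refine le_antisymm (Ideal.map_le_iff_le_comap.mpr fun b hb => map_nonunit _ b hb) fun x hx => ?_
  obtain ⟨b, rfl⟩ := Ideal.Quotient.mk_surjective x
  exact Ideal.mem_map_of_mem _ ((mem_maximalIdeal _).mpr fun hu => (mem_maximalIdeal _).mp hx (hu.map _))

theorem isAdicFormallySmooth_iff_fibre [IsNoetherianRing A] :
    letI := Ideal.Quotient.field (maximalIdeal A)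
    CAlgX.IsAdicFormallySmooth A B (maximalIdeal B) ↔ Module.Flat A B ∧
      CAlg.IsGeometricallyRegular (A ⧸ maximalIdeal A) (B ⧸ (maximalIdeal A).map (algebraMap A B)) := by
  letI := Ideal.Quotient.field (maximalIdeal A)
  have hle : (maximalIdeal A).map (algebraMap A B) ≤ maximalIdeal B :=
    ((local_hom_TFAE (algebraMap A B)).out 0 2).mp ‹_›
  haveI : Nontrivial (B ⧸ (maximalIdeal A).map (algebraMap A B)) := Ideal.Quotient.nontrivial_iff.mpr fun ht =>
    (maximalIdeal.isMaximal B).ne_top (top_le_iff.mp (ht ▸ hle))
  haveI := IsLocalRing.of_surjective' (Ideal.Quotient.mk ((maximalIdeal A).map (algebraMap A B)))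
    Ideal.Quotient.mk_surjective
  constructor
  · intro h
    haveI := flat_of_isAdicFormallySmooth h
    refine ⟨inferInstance, ?_⟩
    have hf := Cohen12.formallySmooth_fibre (A := A) (A₀ := A) (B := B) (B₀ := B) (fun x => ⟨x, rfl⟩)
      (RingHom.id B) Function.surjective_id
      (by rw [(RingHom.injective_iff_ker_eq_bot (RingHom.id B)).mp Function.injective_id]; exact bot_le)
      (fun a => rfl) (isFormallySmoothAdic_of_isAdicFormallySmooth _ _ h)
    rw [map_mk_maximalIdeal] at hf
    exact Cohen12.isGeometricallyRegular_of_formallySmooth hf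
  · rintro ⟨hflat, hg⟩
    have hf := EGA4Alg4.GeomFS13.isAdicFormallySmooth_iff_isGeometricallyRegular.mpr hg
    rw [← map_mk_maximalIdeal] at hf
    have h1 := Cohen12.isFormallySmoothAdic_of_flat_fibre hf
    intro C _ _ J hJ u hu
    obtain ⟨m, hm⟩ := hu
    refine h1 C J ⟨2, hJ⟩ ⟨m * 2, ?_⟩ u ⟨m, hm⟩
    have h2 : (maximalIdeal A ^ m).map (algebraMap A C) ≤ J := by
      rw [Ideal.map_le_iff_le_comap]
      intro a ha
      show algebraMap A C a ∈ J
      rw [← Ideal.Quotient.eq_zero_iff_mem, ← Ideal.Quotient.algebraMap_eq, ← IsScalarTower.algebraMap_apply,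
        ← u.commutes]
      exact hm _ (Ideal.pow_right_mono hle m (Ideal.map_pow (algebraMap A B) _ m ▸ Ideal.mem_map_of_mem _ ha))
    rw [eq_bot_iff, pow_mul, Ideal.map_pow]
    exact (Ideal.pow_right_mono h2 2).trans hJ.le

end Local

section Global

variable {R S : Type u} [CommRing R] [CommRing S] [Algebra R S]

theorem geomReg_fibre_iff (p : Ideal R) [p.IsPrime] (Q : Ideal (p.Fiber S)) [Q.IsPrime]
    [Algebra (Localization.AtPrime p) (Localization.AtPrime (Q.comap Algebra.TensorProduct.includeRight))]
    [Localization.AtPrime.IsLiesOverAlgebra p (Q.comap Algebra.TensorProduct.includeRight)] :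
    letI := Ideal.Quotient.field (maximalIdeal (Localization.AtPrime p))
    CAlg.IsGeometricallyRegular p.ResidueField (Localization.AtPrime Q) ↔
      CAlg.IsGeometricallyRegular (Localization.AtPrime p ⧸ maximalIdeal (Localization.AtPrime p))
        (Localization.AtPrime (Q.comap Algebra.TensorProduct.includeRight) ⧸
          (maximalIdeal (Localization.AtPrime p)).map
            (algebraMap (Localization.AtPrime p) (Localization.AtPrime (Q.comap Algebra.TensorProduct.includeRight)))) := by
  letI := Ideal.Quotient.field (maximalIdeal (Localization.AtPrime p))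
  let A := Localization.AtPrime p
  let B := Localization.AtPrime (Q.comap Algebra.TensorProduct.includeRight)
  have hm : p.map (algebraMap R B) = (maximalIdeal A).map (algebraMap A B) := by
    rw [← Localization.AtPrime.map_eq_maximalIdeal, Ideal.map_map, ← IsScalarTower.algebraMap_eq]
  let e : Localization.AtPrime Q ≃ₐ[A] B ⧸ (maximalIdeal A).map (algebraMap A B) :=
    (Ideal.Fiber.localizationAlgEquivQuotient p Q).trans (Ideal.quotientEquivAlgOfEq A hm)
  letI : Algebra p.ResidueField (B ⧸ (maximalIdeal A).map (algebraMap A B)) :=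
    (Ideal.Quotient.algebraQuotientMapQuotient :
      Algebra (A ⧸ maximalIdeal A) (B ⧸ (maximalIdeal A).map (algebraMap A B)))
  let e' : Localization.AtPrime Q ≃ₐ[p.ResidueField] B ⧸ (maximalIdeal A).map (algebraMap A B) :=
    AlgEquiv.ofRingEquiv (f := e.toRingEquiv) fun x => by
      obtain ⟨a, rfl⟩ := IsLocalRing.residue_surjective x
      exact (congrArg e (IsScalarTower.algebraMap_apply A p.ResidueField (Localization.AtPrime Q) a).symm).trans
        (e.commutes a)
  exact ⟨fun h => (CAlg5.isGeometricallyRegular_of_algEquiv (k := p.ResidueField) e' h :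
      CAlg.IsGeometricallyRegular p.ResidueField (B ⧸ (maximalIdeal A).map (algebraMap A B))),
    fun h => CAlg5.isGeometricallyRegular_of_algEquiv (k := p.ResidueField) e'.symm h⟩

theorem algebraMap_localRingHom (q : Ideal S) [q.IsPrime] :
    letI := Localization.AtPrime.algebraOfLiesOver (q.under R) q
    algebraMap (Localization.AtPrime (q.under R)) (Localization.AtPrime q) =
      Localization.localRingHom (Ideal.comap (algebraMap R S) q) q (algebraMap R S) rfl := by
  letI := Localization.AtPrime.algebraOfLiesOver (q.under R) q
  exact Localization.AtPrime.IsLiesOverAlgebra.algebraMap_eq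

theorem isRegularHom_iff [IsNoetherianRing R] [IsNoetherianRing S] :
    CAlg.IsRegularHom R S ↔ ∀ (q : Ideal S) [q.IsPrime],
      letI := Localization.AtPrime.algebraOfLiesOver (q.under R) q
      CAlgX.IsAdicFormallySmooth (Localization.AtPrime (q.under R))
        (Localization.AtPrime q) (maximalIdeal (Localization.AtPrime q)) := by
  have loc : ∀ (p : Ideal R) [p.IsPrime] (r : Ideal S) [r.IsPrime] [r.LiesOver p],
      letI := Localization.AtPrime.algebraOfLiesOver p r
      IsLocalHom (algebraMap (Localization.AtPrime p) (Localization.AtPrime r)) := fun p _ r _ _ => by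
    letI := Localization.AtPrime.algebraOfLiesOver p r
    rw [Localization.AtPrime.IsLiesOverAlgebra.algebraMap_eq]; infer_instance
  constructor
  · rintro ⟨hflat, hfib⟩ q hq
    haveI := hflat
    let x := PrimeSpectrum.primesOverOrderIsoFiber R S (q.under R) ⟨q, inferInstance, ⟨rfl⟩⟩
    have hQ : x.asIdeal.comap (Algebra.TensorProduct.includeRight : S →ₐ[R] (q.under R).Fiber S) = q := by
      rw [← PrimeSpectrum.coe_primesOverOrderIsoFiber_symm_apply, OrderIso.symm_apply_apply]
    let r := x.asIdeal.comap (Algebra.TensorProduct.includeRight : S →ₐ[R] (q.under R).Fiber S)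
    haveI : r.LiesOver (q.under R) := ⟨by simp only [r]; rw [hQ]⟩
    letI := Localization.AtPrime.algebraOfLiesOver (q.under R) r
    haveI := loc (q.under R) r
    haveI : IsNoetherianRing (Localization.AtPrime (q.under R)) :=
      IsLocalization.isNoetherianRing (q.under R).primeCompl _ inferInstance
    haveI : IsNoetherianRing (Localization.AtPrime r) :=
      IsLocalization.isNoetherianRing r.primeCompl _ inferInstance
    haveI : Module.Flat R (Localization.AtPrime r) := Module.Flat.trans R S _
    refine congr_back (p := q.under R) hQ ?_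
    refine isAdicFormallySmooth_iff_fibre.mpr
      ⟨(Module.flat_iff_of_isLocalization _ (q.under R).primeCompl _).2 inferInstance,
      (geomReg_fibre_iff _ x.asIdeal).mp
        (EGA4Alg4.GeomFS13.isGeometricallyRegular_localization (k := (q.under R).ResidueField) (A := (q.under R).Fiber S) x.asIdeal.primeCompl (hfib (q.under R)).2)⟩
  · intro h
    refine ⟨?_, fun p _ => ?_⟩
    · refine Module.flat_of_isLocalized_maximal S S (fun P _ => Localization.AtPrime P)
        (fun P _ => Algebra.linearMap S _) fun P _ => ?_
      letI := Localization.AtPrime.algebraOfLiesOver (P.under R) P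
      haveI := loc (P.under R) P
      haveI : IsNoetherianRing (Localization.AtPrime (P.under R)) :=
        IsLocalization.isNoetherianRing (P.under R).primeCompl _ inferInstance
      haveI : IsNoetherianRing (Localization.AtPrime P) :=
        IsLocalization.isNoetherianRing P.primeCompl _ inferInstance
      haveI := flat_of_isAdicFormallySmooth (h P)
      exact Module.Flat.trans R (Localization.AtPrime (P.under R)) _
    · haveI := isNoetherianRing_fiber (S := S) p
      refine ⟨inferInstance, isGeometricallyRegular_of_localization _ _ fun Q _ => ?_⟩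
      let r := Q.comap (Algebra.TensorProduct.includeRight : S →ₐ[R] p.Fiber S)
      haveI : r.LiesOver p := ⟨by
        ext a
        rw [Ideal.over_def Q p]
        simp only [r, Ideal.under_def, Ideal.mem_comap]
        rw [AlgHom.commutes]⟩
      letI := Localization.AtPrime.algebraOfLiesOver p r
      haveI := loc p r
      haveI : IsNoetherianRing (Localization.AtPrime p) :=
        IsLocalization.isNoetherianRing p.primeCompl _ inferInstance
      haveI : IsNoetherianRing (Localization.AtPrime r) :=
        IsLocalization.isNoetherianRing r.primeCompl _ inferInstance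
      exact (geomReg_fibre_iff p Q).mpr (isAdicFormallySmooth_iff_fibre.mp (fs_congr h p r)).2
where
  fs_congr (h : ∀ (q : Ideal S) [q.IsPrime],
      letI := Localization.AtPrime.algebraOfLiesOver (q.under R) q
      CAlgX.IsAdicFormallySmooth (Localization.AtPrime (q.under R))
        (Localization.AtPrime q) (maximalIdeal (Localization.AtPrime q)))
      (p : Ideal R) [p.IsPrime] (r : Ideal S) [r.IsPrime] [hr : r.LiesOver p] :
      letI := Localization.AtPrime.algebraOfLiesOver p r
      CAlgX.IsAdicFormallySmooth (Localization.AtPrime p)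
        (Localization.AtPrime r) (maximalIdeal (Localization.AtPrime r)) := by
    obtain rfl := hr.over
    exact h r
  congr_back {p : Ideal R} [p.IsPrime] {r : Ideal S} [r.IsPrime] [hr : r.LiesOver p] {q : Ideal S} [q.IsPrime]
      (e : r = q)
      (h : letI := Localization.AtPrime.algebraOfLiesOver p r
        CAlgX.IsAdicFormallySmooth (Localization.AtPrime p)
          (Localization.AtPrime r) (maximalIdeal (Localization.AtPrime r))) :
      letI := Localization.AtPrime.algebraOfLiesOver (q.under R) q
      CAlgX.IsAdicFormallySmooth (Localization.AtPrime (q.under R))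
        (Localization.AtPrime q) (maximalIdeal (Localization.AtPrime q)) := by
    subst e
    obtain rfl := hr.over
    exact h

end Global

end Groth.Agent.CAlg9
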