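import Mathlib.RingTheory.Filtration
import Mathlib.RingTheory.LocalRing.MaximalIdeal.Basic
import Mathlib.Logic.Function.Iterate

namespace Groth.Agent.CAlg9

open IsLocalRing

theorem apply_eq_self_of_iterate_eq {A : Type*} [CommRing A] [IsLocalRing A] [IsNoetherianRing A]
    (σ : A →+* A) (N : ℕ) (hN : IsUnit (N : A)) (hσN : ∀ a, (σ : A → A)^[N] a = a)
    (h1 : ∀ a, σ a - a ∈ maximalIdeal A) (h2 : ∀ x ∈ maximalIdeal A, σ x - x ∈ maximalIdeal A ^ 2)
    (a : A) : σ a = a := by
  set m := maximalIdeal A
  have hfil : ∀ i, ∀ x ∈ m ^ (i + 1), σ x - x ∈ m ^ (i + 2) := by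
    intro i
    induction i with
    | zero => intro x hx; exact h2 x (by simpa using hx)
    | succ i ih =>
      intro x hx
      rw [pow_succ m (i + 1)] at hx
      refine Submodule.mul_induction_on hx (fun y hy z hz => ?_) fun y z hy hz => ?_
      · have hσz : σ z ∈ m := by simpa using add_mem (h1 z) hz
        rw [show σ (y * z) - y * z = (σ y - y) * σ z + y * (σ z - z) by rw [map_mul]; ring]
        refine add_mem ?_ ?_
        · rw [show i + 1 + 2 = (i + 2) + 1 from rfl, pow_succ m (i + 2)]
          exact Ideal.mul_mem_mul (ih y hy) hσz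
        · rw [show i + 1 + 2 = (i + 1) + 2 from rfl, pow_add m (i + 1) 2]
          exact Ideal.mul_mem_mul hy (h2 z hz)
      · rw [map_add, add_sub_add_comm]; exact add_mem hy hz
  have key : ∀ i, ∀ b, σ b - b ∈ m ^ (i + 1) := by
    intro i
    induction i with
    | zero => intro b; simpa using h1 b
    | succ i ih =>
      intro b
      set δ := σ b - b
      have hj : ∀ j : ℕ, (σ : A → A)^[j] b - b - j * δ ∈ m ^ (i + 2) := by
        intro j
        induction j with
        | zero => simp
        | succ j ihj =>
          rw [Function.iterate_succ_apply']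
          set r := (σ : A → A)^[j] b - b - j * δ
          have e : (σ : A → A)^[j] b = b + j * δ + r := by simp [r]
          rw [e, map_add, map_add, map_mul, map_natCast, Nat.cast_succ]
          have hσr : σ r ∈ m ^ (i + 2) := by
            have := add_mem (hfil i r (Ideal.pow_le_pow_right (by omega) ihj)) ihj
            simpa using this
          have hσδ := Ideal.mul_mem_left _ (j : A) (hfil i δ (ih b))
          convert add_mem hσδ hσr using 1
          simp [δ]; ring
      have h3 := hj N
      rw [hσN b, sub_self, zero_sub, neg_mem_iff] at h3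
      exact (Ideal.unit_mul_mem_iff_mem _ hN).mp h3
  refine sub_eq_zero.mp ?_
  rw [← Ideal.mem_bot, ← Ideal.iInf_pow_eq_bot_of_isLocalRing m (maximalIdeal.isMaximal A).ne_top,
    Submodule.mem_iInf]
  exact fun i => Ideal.pow_le_pow_right i.le_succ (key i a)

end Groth.Agent.CAlg9
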