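import Groth.Agent.CAlg9.Decaying
import Mathlib.RingTheory.Flat.Tensor
import Mathlib.RingTheory.AdicCompletion.Noetherian
import Mathlib.LinearAlgebra.TensorProduct.Pi

namespace Groth.Agent.CAlg9

universe u v w w'

open W4c5adicflatcompl Submodule TensorProduct

variable {A : Type u} [CommRing A] {I : Ideal A} {Z : Type v}
variable {M : Type w} [AddCommGroup M] [Module A M]

variable (I Z M) in
/-- The comparison map from the tensor product with decaying functions. -/
noncomputable def tensorToPi : M ⊗[A] decaying I Z A →ₗ[A] (Z → M) :=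
  (TensorProduct.piScalarRightHom A A M Z) ∘ₗ ((decaying I Z A).subtype.lTensor M)

theorem tensorToPi_tmul (m : M) (g : decaying I Z A) (z : Z) :
    tensorToPi I Z M (m ⊗ₜ g) z = (g : Z → A) z • m := by
  simp [tensorToPi]

theorem exists_tmul_sum {D : Type w'} [AddCommGroup D] [Module A D] {ι : Type*} [Fintype ι]
    (m : ι → M) (hm : Submodule.span A (Set.range m) = ⊤) (t : M ⊗[A] D) :
    ∃ c : ι → D, t = ∑ i, m i ⊗ₜ[A] c i := by
  induction t with
  | zero => exact ⟨0, by simp⟩
  | tmul x d =>
    have hx : x ∈ Submodule.span A (Set.range m) := hm ▸ trivial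
    obtain ⟨a, ha⟩ := (Submodule.mem_span_range_iff_exists_fun A).mp hx
    refine ⟨fun i => a i • d, ?_⟩
    rw [← ha, TensorProduct.sum_tmul]
    exact Finset.sum_congr rfl fun i _ => TensorProduct.smul_tmul _ _ _
  | add x y hx hy =>
    obtain ⟨c, rfl⟩ := hx
    obtain ⟨d, rfl⟩ := hy
    exact ⟨c + d, by simp [tmul_add, Finset.sum_add_distrib]⟩

variable [IsNoetherianRing A] [IsAdicComplete I A] [Module.Finite A M]

theorem tensorToPi_injective : Function.Injective (tensorToPi I Z M) := by
  rw [injective_iff_map_eq_zero]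
  intro t ht
  obtain ⟨r, m, hm⟩ := Module.Finite.exists_fin (R := A) (M := M)
  obtain ⟨c, rfl⟩ := exists_tmul_sum m hm t
  let K : Submodule A (Fin r → A) := LinearMap.ker (Fintype.linearCombination A m)
  have hK : ∀ z, (fun i => (c i : Z → A) z) ∈ K := fun z => by
    have := congrFun ht z
    simpa [K, Fintype.linearCombination_apply, tensorToPi_tmul] using this
  have hG : (fun z => (⟨_, hK z⟩ : K)) ∈ decaying I Z K :=
    (mem_decaying_submodule_iff K _).mpr
      (mem_decaying_of_pi (fun z i => (c i : Z → A) z) fun i => (c i).2)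
  obtain ⟨q, k, hk⟩ := Module.Finite.exists_fin (R := A) (M := K)
  have := isHausdorff_of_finite (M := K) I
  obtain ⟨d, hd⟩ := exists_decaying_sum k hk _ hG
  have hc : ∀ i, c i = ∑ j, (k j : Fin r → A) i • d j := fun i => by
    apply Subtype.ext; funext z
    have := congrFun (congrArg Subtype.val (hd z)) i
    simpa [Finset.sum_apply, mul_comm] using this
  simp_rw [hc, TensorProduct.tmul_sum, TensorProduct.tmul_smul, TensorProduct.smul_tmul']
  rw [Finset.sum_comm]
  refine Finset.sum_eq_zero fun j _ => ?_
  have h0 : ∑ i, (k j : Fin r → A) i • m i = 0 := (k j).2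
  rw [← TensorProduct.sum_tmul, h0, zero_tmul]

theorem range_tensorToPi : LinearMap.range (tensorToPi I Z M) = decaying I Z M := by
  apply le_antisymm
  · rintro _ ⟨t, rfl⟩
    induction t with
    | zero => simp
    | tmul x g =>
      have e : tensorToPi I Z M (x ⊗ₜ g) =
          fun z => LinearMap.toSpanSingleton A M x ((g : Z → A) z) := by
        funext z; simp [tensorToPi_tmul]
      rw [e]
      exact (decayingMap I Z (LinearMap.toSpanSingleton A M x) g).2
    | add x y hx hy => rw [map_add]; exact Submodule.add_mem _ hx hy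
  · intro g hg
    obtain ⟨r, m, hm⟩ := Module.Finite.exists_fin (R := A) (M := M)
    have := isHausdorff_of_finite (M := M) I
    obtain ⟨c, hc⟩ := exists_decaying_sum m hm g hg
    refine ⟨∑ i, m i ⊗ₜ c i, funext fun z => ?_⟩
    simp [hc z, tensorToPi_tmul]

omit [Module.Finite A M] in
theorem flat_decaying : Module.Flat A (decaying I Z A) := by
  rw [Module.Flat.iff_rTensor_injective']
  intro J a b hab
  apply tensorToPi_injective (M := J)
  have key : ∀ t : J ⊗[A] decaying I Z A, ∀ z,
      ((tensorToPi I Z J t z : J) : A) =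
        tensorToPi I Z A (J.subtype.rTensor (decaying I Z A) t) z := by
    intro t z
    induction t with
    | zero => simp
    | tmul x g => simp [tensorToPi_tmul]
    | add x y hx hy => simp [hx, hy]
  funext z
  apply Subtype.ext
  rw [key, key, hab]

end Groth.Agent.CAlg9
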