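import Groth.Agent.Gor18.GlobalDim
import Groth.Prelude.Def_CAlg
import Mathlib.Algebra.Homology.ShortComplex.ModuleCat
import Mathlib.Algebra.Homology.DerivedCategory.Ext.ExactSequences
import Mathlib.Algebra.Homology.DerivedCategory.Ext.EnoughProjectives
import Mathlib.RingTheory.Finiteness.Cardinality
import Mathlib.LinearAlgebra.Dual.Lemmas

/-!
Torsionless modules over Gorenstein rings of dimension at most one.
-/

set_option autoImplicit false

universe u

open CategoryTheory Abelian

namespace Groth.Agent.CAlg9.Torsionless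

variable {S : Type u} [CommRing S]

theorem injDim_one [LocCoh.IsGorensteinRing S] (hdim : ringKrullDim S ≤ 1) :
    HasInjectiveDimensionLT (ModuleCat.of S S) 2 := by
  refine (ModuleCat.hasInjectiveDimensionLE_iff_forall_maximalSpectrum 1
    (ModuleCat.of S S)).2 fun m => ?_
  have := m.isMaximal
  have := LocCoh.IsGorensteinRing.isGorensteinLocalRing_localization (A := S) m.asIdeal
  have := ModuleCat.localizedModule_isLocalizedModule (ModuleCat.of S S) m.asIdeal.primeCompl
  refine (ModuleCat.hasInjectiveDimensionLE_iff_of_linearEquiv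
    (M := (ModuleCat.of S S).localizedModule m.asIdeal.primeCompl)
    (N := ModuleCat.of (Localization.AtPrime m.asIdeal) (Localization.AtPrime m.asIdeal))
    (LinearEquiv.extendScalarsOfIsLocalization m.asIdeal.primeCompl _
      (IsLocalizedModule.linearEquiv m.asIdeal.primeCompl
        ((ModuleCat.of S S).localizedModuleMkLinearMap m.asIdeal.primeCompl)
        (Algebra.linearMap S (Localization.AtPrime m.asIdeal)))) 1).2
    (Gor18.injDimLE_of_dim_le ?_)
  rw [IsLocalization.AtPrime.ringKrullDim_eq_height m.asIdeal (Localization.AtPrime m.asIdeal)]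
  exact (ringKrullDim_le_iff_isMaximal_height_le _).1 (by exact_mod_cast hdim) m.isMaximal

variable {M F C : Type u} [AddCommGroup M] [Module S M] [AddCommGroup F] [Module S F]

/-- The short complex of a submodule. -/
noncomputable abbrev quotSeq (i : M →ₗ[S] F) : ShortComplex (ModuleCat.{u} S) :=
  ShortComplex.moduleCatMk (R := S) i (LinearMap.range i).mkQ (LinearMap.range_mkQ_comp i)

theorem quotSeq_shortExact (i : M →ₗ[S] F) (hi : Function.Injective i) :
    (quotSeq i).ShortExact where
  exact := (ShortComplex.moduleCat_exact_iff_range_eq_ker _).2 (by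
    show LinearMap.range i = LinearMap.ker (LinearMap.range i).mkQ
    rw [Submodule.ker_mkQ])
  mono_f := (ModuleCat.mono_iff_injective _).2 hi
  epi_g := (ModuleCat.epi_iff_surjective _).2 (Submodule.mkQ_surjective _)

theorem subsingleton_ext_one_of_injective [HasInjectiveDimensionLT (ModuleCat.of S S) 2]
    [Module.Projective S F] (i : M →ₗ[S] F) (hi : Function.Injective i) :
    Subsingleton (Ext (ModuleCat.of S M) (ModuleCat.of S S) 1) := by
  have hS := quotSeq_shortExact i hi
  refine subsingleton_of_forall_eq 0 fun x => ?_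
  have : Subsingleton (Ext (quotSeq i).X₃ (ModuleCat.of S S) 2) :=
    HasInjectiveDimensionLT.subsingleton _ 2 2 le_rfl _
  obtain ⟨y, hy⟩ := Ext.contravariant_sequence_exact₁ hS (ModuleCat.of S S) (n₀ := 1) x (n₁ := 2)
    rfl (Subsingleton.elim _ _)
  have : Projective (quotSeq i).X₂ := inferInstanceAs (Projective (ModuleCat.of S F))
  rw [← hy, Ext.eq_zero_of_projective y]
  simp only [Ext.comp_zero]
  rfl

theorem exists_extend [HasInjectiveDimensionLT (ModuleCat.of S S) 2]
    [AddCommGroup C] [Module S C] [Module.Projective S C]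
    (D : F →ₗ[S] C) (ψ : LinearMap.ker D →ₗ[S] S) :
    ∃ ψ' : F →ₗ[S] S, ∀ x : LinearMap.ker D, ψ' x = ψ x := by
  have hS := quotSeq_shortExact (LinearMap.ker D).subtype (LinearMap.ker D).injective_subtype
  let e : (F ⧸ LinearMap.range (LinearMap.ker D).subtype) →ₗ[S] C :=
    Submodule.liftQ _ D (by rw [Submodule.range_subtype])
  have he : Function.Injective e := by
    rw [← LinearMap.ker_eq_bot]
    exact Submodule.ker_liftQ_eq_bot _ _ _ (by rw [Submodule.range_subtype])
  have : Subsingleton (Ext (quotSeq (LinearMap.ker D).subtype).X₃ (ModuleCat.of S S) 1) :=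
    subsingleton_ext_one_of_injective e he
  obtain ⟨y, hy⟩ := Ext.contravariant_sequence_exact₁ hS (ModuleCat.of S S) (n₀ := 0)
    (Ext.mk₀ (ModuleCat.ofHom ψ)) (n₁ := 1) rfl (Subsingleton.elim _ _)
  obtain ⟨g, rfl⟩ := (Ext.mk₀_bijective _ _).2 y
  rw [Ext.mk₀_comp_mk₀] at hy
  have hy' := (Ext.mk₀_bijective _ _).1 hy
  exact ⟨g.hom, fun x => LinearMap.congr_fun (congrArg ModuleCat.Hom.hom hy') x⟩

theorem exists_injective_of_eval_injective [IsNoetherianRing S] [Module.Finite S M]
    (h : Function.Injective (Module.Dual.eval S M)) :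
    ∃ (n : ℕ) (i : M →ₗ[S] (Fin n → S)), Function.Injective i := by
  obtain ⟨n, l, hl⟩ := Module.Finite.exists_fin' S (Module.Dual S M)
  let f : Fin n → Module.Dual S M := fun j => l (Pi.single j 1)
  refine ⟨n, LinearMap.pi f, fun a b hab => h (LinearMap.ext fun φ => ?_)⟩
  obtain ⟨c, rfl⟩ := hl φ
  rw [pi_eq_sum_univ' c]
  simp only [map_sum, map_smul, Module.Dual.eval_apply]
  refine Finset.sum_congr rfl fun j _ => congrArg (c j • ·) ?_
  exact congrFun hab j

theorem isReflexive_of_eval_injective [LocCoh.IsGorensteinRing S] (hdim : ringKrullDim S ≤ 1)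
    [Module.Finite S M] (h : Function.Injective (Module.Dual.eval S M)) :
    Module.IsReflexive S M := by
  have := injDim_one hdim
  refine ⟨h, fun Ψ => ?_⟩
  obtain ⟨n, π, hπ⟩ := Module.Finite.exists_fin' S M
  obtain ⟨m, gk, hgk⟩ := Module.Finite.exists_fin' S (LinearMap.ker π)
  -- `D` kills exactly the functionals that factor through `π`
  let D : Module.Dual S (Fin n → S) →ₗ[S] (Fin m → S) :=
    LinearMap.pi fun j => Module.Dual.eval S (Fin n → S) (gk (Pi.single j 1) : Fin n → S)
  have hD : ∀ φ : Module.Dual S M, D (φ.comp π) = 0 := fun φ => funext fun j => by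
    have hk : π (gk (Pi.single j 1) : Fin n → S) = 0 := (gk (Pi.single j 1)).2
    simp [D, hk]
  have hfac : ∀ x : LinearMap.ker D, ∃ φ : Module.Dual S M, φ.comp π = (x : Module.Dual S (Fin n → S)) := by
    intro x
    have hle : LinearMap.ker π ≤ LinearMap.ker (x : Module.Dual S (Fin n → S)) := by
      intro v hv
      obtain ⟨c, hc⟩ := hgk ⟨v, hv⟩
      have hv' : v = (gk c : Fin n → S) := (congrArg Subtype.val hc).symm
      rw [LinearMap.mem_ker, hv', pi_eq_sum_univ' c]
      simp only [map_sum, map_smul, Submodule.coe_sum, Submodule.coe_smul]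
      refine Finset.sum_eq_zero fun j _ => ?_
      have h2 : D (x : Module.Dual S (Fin n → S)) j = 0 := congrFun (LinearMap.mem_ker.mp x.2) j
      simp only [D, LinearMap.pi_apply, Module.Dual.eval_apply] at h2
      rw [h2, smul_zero]
    exact ⟨(Submodule.liftQ _ (x : Module.Dual S (Fin n → S)) hle).comp
      (π.quotKerEquivOfSurjective hπ).symm.toLinearMap, LinearMap.ext fun v => by
        simp [LinearMap.quotKerEquivOfSurjective_symm_apply]⟩
  choose lft hlft using hfac
  have huniq : ∀ φ φ' : Module.Dual S M, φ.comp π = φ'.comp π → φ = φ' := fun φ φ' e =>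
    LinearMap.ext fun a => by
      obtain ⟨v, rfl⟩ := hπ a
      exact LinearMap.congr_fun e v
  let L : LinearMap.ker D →ₗ[S] Module.Dual S M :=
    { toFun := lft
      map_add' := fun a b => huniq _ _ (by rw [LinearMap.add_comp, hlft, hlft, hlft]; rfl)
      map_smul' := fun r a => huniq _ _ (by
        rw [RingHom.id_apply, LinearMap.smul_comp, hlft, hlft]; rfl) }
  obtain ⟨ψ', hψ'⟩ := exists_extend D (Ψ.comp L)
  obtain ⟨v, hv⟩ := (Module.bijective_dual_eval S (Fin n → S)).2 ψ'
  refine ⟨π v, LinearMap.ext fun φ => ?_⟩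
  have h1 := hψ' ⟨φ.comp π, hD φ⟩
  rw [← hv] at h1
  simp only [Module.Dual.eval_apply, LinearMap.comp_apply] at h1 ⊢
  rw [h1]
  congr 1
  exact huniq _ _ (hlft _)

end Groth.Agent.CAlg9.Torsionless
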