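import Groth.Agent.CAlg9.TransRegNear
import Groth.Agent.CAlg9.CIT.ImmersionComp
import Groth.Agent.CAlg9.CIT.RelCI
import Groth.Agent.FlatMor66.FibCritScheme
import Groth.Agent.SchBasics.FibreIsoMain
import Mathlib.AlgebraicGeometry.Morphisms.FinitePresentation

/-!
Regular immersions which are flat over a base: pointwise fibre criterion, over any base.
-/

set_option autoImplicit false
set_option backward.isDefEq.respectTransparency.types false
set_option linter.style.haveILetI false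
universe u

open CategoryTheory Limits AlgebraicGeometry TopologicalSpace IsLocalRing RingTheory.Sequence

namespace Groth.Agent.CAlg9.TransRegImm

open Groth.Agent.Fib62

attribute [local instance] Algebra.TensorProduct.rightAlgebra

variable {X Y S : Scheme.{u}} (i : Y ⟶ X) (g : X ⟶ S)

/-- `i` is a regular immersion near `y`. -/
def Near (y : Y) : Prop := ∃ V : X.Opens, i y ∈ V ∧ Mor2.IsRegularClosedImmersion (i ∣_ V)

/-- The ideal of the fibre of `g` in the local ring. -/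
noncomputable def fibJ (x : X) : Ideal (X.presheaf.stalk x) :=
  (maximalIdeal (S.presheaf.stalk (g x))).map (g.stalkMap x).hom

/-- The fibre of `i` is regular at `y`. -/
def FibReg (y : Y) : Prop :=
  CInt.IsRegularIdeal ((RingHom.ker (i.stalkMap y).hom).map (Ideal.Quotient.mk (fibJ g (i y))))

theorem near_of_away [IsClosedImmersion i] (U : X.affineOpens) (s : Γ(X, U.1))
    (h : ∀ (R : Type u) [CommRing R] [Algebra Γ(X, U.1) R] [IsLocalization.Away s R],
      ∃ gs : List R, IsRegular R gs ∧ (i.ker.ideal U).map (algebraMap Γ(X, U.1) R) = Ideal.ofList gs)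
    (y : Y) (hy : i y ∈ X.basicOpen s) : Near i y := by
  refine ⟨X.basicOpen s, hy, inferInstance, fun z' => ?_⟩
  let V := X.basicOpen s
  have hVaff : IsAffine V.toScheme := (U.2.basicOpen s)
  refine ⟨⊤, isAffineOpen_top V.toScheme, trivial, ?_⟩
  rw [CIT.ker_restrict_eq]
  let W : X.affineOpens := ⟨V.ι ''ᵁ ⊤, (isAffineOpen_top V.toScheme).image_of_isOpenImmersion V.ι⟩
  have hWV : W.1 = X.basicOpen s := V.ι_image_top
  have hWU : W ≤ U := hWV.le.trans (X.basicOpen_le s)
  let : Algebra Γ(X, U.1) Γ(X, W.1) := (X.presheaf.map (homOfLE hWU).op).hom.toAlgebra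
  have : IsLocalization.Away s Γ(X, W.1) := U.2.isLocalization_of_eq_basicOpen s (homOfLE hWU) hWV
  have hmap : (i.ker.ideal U).map (algebraMap Γ(X, U.1) Γ(X, W.1)) = i.ker.ideal W :=
    i.ker.map_ideal hWU
  obtain ⟨gs, h1, h2⟩ := h Γ(X, W.1)
  exact ⟨gs, h1, hmap.symm.trans h2⟩

theorem stalk_list_of_near [IsClosedImmersion i] (y : Y) (h : Near i y) :
    ∃ ts : List (X.presheaf.stalk (i y)), IsWeaklyRegular (X.presheaf.stalk (i y)) ts ∧
      Ideal.ofList ts = RingHom.ker (i.stalkMap y).hom := by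
  obtain ⟨V, hzV, -, hV⟩ := h
  obtain ⟨U, hU, hzU, rs, hrs, hker⟩ := hV ⟨y, hzV⟩
  rw [CIT.ker_restrict_eq] at hker
  let W : X.affineOpens := ⟨V.ι ''ᵁ U, hU.image_of_isOpenImmersion V.ι⟩
  have hzW : i y ∈ W.1 := ⟨(i ∣_ V) ⟨y, hzV⟩, hzU, morphismRestrict_base_coe i V ⟨y, hzV⟩⟩
  letI : Algebra Γ(X, W.1) (X.presheaf.stalk (i y)) := Div89.stalkAlg W.1 (i y) hzW
  haveI := Div89.isLocalization_stalk W (i y) hzW
  haveI := Div89.primeAt_isPrime W (i y) hzW
  refine ⟨(show List Γ(X, W.1) from rs).map (algebraMap Γ(X, W.1) (X.presheaf.stalk (i y))),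
    IsWeaklyRegular.of_isLocalization (X.presheaf.stalk (i y)) (Div89.primeAt W (i y) hzW).primeCompl hrs.1, ?_⟩
  rw [FlatMor68.FlatInfNbhd.ker_stalkMap_closedImmersion, Div89.stalkIdeal_eq _ W _ hzW, ← Ideal.map_ofList]
  exact congrArg (Ideal.map _) hker.symm

section chart

variable [IsClosedImmersion i] (y : Y) {U : X.Opens} {V : S.Opens} (hU : IsAffineOpen U) (hV : IsAffineOpen V)
  (e : U ≤ g ⁻¹ᵁ V) (hy : i y ∈ U)

theorem ker_app_eq : i.ker.ideal ⟨U, hU⟩ = RingHom.ker (i.app U).hom := by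
  haveI : QuasiCompact i := inferInstance
  rw [Scheme.Hom.ker_apply]

include e hV in
theorem data :
    letI := (g.appLE V U e).hom.toAlgebra
    ((g.stalkMap (i y)).hom.Flat ↔ Module.Flat Γ(S, V) (Localization.AtPrime (hU.primeIdealOf ⟨i y, hy⟩).asIdeal)) ∧
    (((i ≫ g).stalkMap y).hom.Flat ↔ Module.Flat Γ(S, V)
      (Localization.AtPrime (hU.primeIdealOf ⟨i y, hy⟩).asIdeal ⧸
        (i.ker.ideal ⟨U, hU⟩).map (algebraMap Γ(X, U) (Localization.AtPrime (hU.primeIdealOf ⟨i y, hy⟩).asIdeal)))) ∧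
    (FibReg i g y ↔ CInt.IsRegularIdeal ((i.ker.ideal ⟨U, hU⟩).map
      (algebraMap Γ(X, U) (FibreLocal Γ(S, V) (hU.primeIdealOf ⟨i y, hy⟩))))) ∧
    i.ker.ideal ⟨U, hU⟩ ≤ (hU.primeIdealOf ⟨i y, hy⟩).asIdeal := by
  letI algAC := (g.appLE V U e).hom.toAlgebra
  let A := Γ(S, V)
  let C := Γ(X, U)
  let P := hU.primeIdealOf ⟨i y, hy⟩
  let O := X.presheaf.stalk (i y)
  let Cp := Localization.AtPrime P.asIdeal
  let I := i.ker.ideal ⟨U, hU⟩
  letI algCO : Algebra C O := Div89.stalkAlg U (i y) hy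
  haveI hloc : IsLocalization.AtPrime O P.asIdeal := hU.isLocalization_stalk ⟨i y, hy⟩
  letI algAO : Algebra A O := ((algebraMap C O).comp (algebraMap A C)).toAlgebra
  haveI : IsScalarTower A C O := IsScalarTower.of_algebraMap_eq fun _ => rfl
  let σ : Cp ≃ₐ[C] O := IsLocalization.algEquiv P.asIdeal.primeCompl Cp O
  have hK : RingHom.ker (i.stalkMap y).hom = I.map (algebraMap C O) := by
    rw [FlatMor68.FlatInfNbhd.ker_stalkMap_closedImmersion, Div89.stalkIdeal_eq _ ⟨U, hU⟩ _ hy]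
    rfl
  have hσK : (I.map (algebraMap C Cp)).map σ.toRingEquiv.toRingHom = RingHom.ker (i.stalkMap y).hom := by
    rw [hK, Ideal.map_map]
    exact congrArg (fun φ => Ideal.map φ I) (RingHom.ext σ.commutes)
  have hIP : I ≤ P.asIdeal := by
    intro c hc
    by_contra hcP
    have hu : IsUnit (algebraMap C O c) := IsLocalization.map_units O (⟨c, hcP⟩ : P.asIdeal.primeCompl)
    exact RingHom.ker_ne_top (i.stalkMap y).hom (Ideal.eq_top_of_isUnit_mem _ (hK ▸ Ideal.mem_map_of_mem _ hc) hu)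
  refine ⟨FlatMor66.flat_stalkMap_iff_localization g hV hU e hy, ?_, ?_, hIP⟩
  · -- the closed subscheme
    let W : Y.Opens := i ⁻¹ᵁ U
    have hW : IsAffineOpen W := hU.preimage i
    have eW : W ≤ (i ≫ g) ⁻¹ᵁ V := fun z hz => e hz
    rw [FlatMor66.flat_stalkMap_iff_localization (i ≫ g) hV hW eW (x := y) hy]
    letI algAB := ((i ≫ g).appLE V W eW).hom.toAlgebra
    letI algBY : Algebra Γ(Y, W) (Y.presheaf.stalk y) := (Y.presheaf.germ W y hy).hom.toAlgebra
    haveI : IsLocalization.AtPrime (Y.presheaf.stalk y) (hW.primeIdealOf ⟨y, hy⟩).asIdeal :=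
      hW.isLocalization_stalk ⟨y, hy⟩
    letI algAY : Algebra A (Y.presheaf.stalk y) := ((algebraMap Γ(Y, W) (Y.presheaf.stalk y)).comp (algebraMap A Γ(Y, W))).toAlgebra
    haveI : IsScalarTower A Γ(Y, W) (Y.presheaf.stalk y) := IsScalarTower.of_algebraMap_eq fun _ => rfl
    let ρ : Localization.AtPrime (hW.primeIdealOf ⟨y, hy⟩).asIdeal ≃ₐ[Γ(Y, W)] Y.presheaf.stalk y :=
      IsLocalization.algEquiv (hW.primeIdealOf ⟨y, hy⟩).asIdeal.primeCompl _ _
    let θ : Cp →ₐ[A] Y.presheaf.stalk y :=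
      { (i.stalkMap y).hom.comp σ.toRingEquiv.toRingHom with
        commutes' := fun a => by
          show (i.stalkMap y).hom (σ (algebraMap A Cp a)) = _
          rw [IsScalarTower.algebraMap_apply A C Cp, σ.commutes]
          show (i.stalkMap y).hom ((X.presheaf.germ U (i y) hy).hom ((g.appLE V U e).hom a)) =
            (Y.presheaf.germ W y hy).hom (((i ≫ g).appLE V W eW).hom a)
          rw [FlatMor66.stalkMap_germ_appLE i (le_refl W) hy, ← Scheme.Hom.appLE_comp_appLE i g V U W e le_rfl]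
          rfl }
    have hθ : Function.Surjective θ := (i.stalkMap_surjective y).comp σ.surjective
    have hθk : RingHom.ker θ = I.map (algebraMap C Cp) := by
      ext x
      have h1 : x ∈ RingHom.ker θ ↔ σ.toRingEquiv.toRingHom x ∈ RingHom.ker (i.stalkMap y).hom := Iff.rfl
      rw [h1, ← hσK]
      refine ⟨fun h => ?_, fun h => Ideal.mem_map_of_mem _ h⟩
      obtain ⟨x', hx', hxx⟩ := (Ideal.mem_map_iff_of_surjective _ σ.toRingEquiv.surjective).1 h
      exact σ.injective hxx ▸ hx'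
    exact Module.Flat.equiv_iff ((ρ.restrictScalars A).trans ((Ideal.quotientKerAlgEquivOfSurjective hθ).symm.trans
      (Ideal.quotientEquivAlgOfEq A hθk))).toLinearEquiv
  · -- the fibre
    let L := FibreLocal A P
    obtain ⟨τ, hτ, hτk⟩ := exists_surjective_fibreLocal (A := A) P
    let φ : Cp →+* O ⧸ fibJ g (i y) := (Ideal.Quotient.mk _).comp σ.toRingEquiv.toRingHom
    have hφ : Function.Surjective φ := Ideal.Quotient.mk_surjective.comp σ.surjective
    have hJ : fibJ g (i y) = (P.asIdeal.under A).map (algebraMap A O) := by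
      rw [fibJ, CIT.map_maximalIdeal_stalkMap g hV hU e (i y) hy]
      rfl
    have hφk : RingHom.ker φ = RingHom.ker τ.toRingHom := by
      rw [show RingHom.ker τ.toRingHom = (P.asIdeal.under A).map (algebraMap A Cp) from hτk]
      ext x
      rw [RingHom.mem_ker, RingHom.comp_apply, Ideal.Quotient.eq_zero_iff_mem, hJ]
      have : (P.asIdeal.under A).map (algebraMap A O) =
          ((P.asIdeal.under A).map (algebraMap A Cp)).map σ.toRingEquiv.toRingHom := by
        rw [Ideal.map_map]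
        exact congrArg (fun ψ => Ideal.map ψ _) (RingHom.ext fun a => (σ.toAlgHom.restrictScalars A).commutes a |>.symm)
      rw [this]
      refine ⟨fun h => ?_, fun h => Ideal.mem_map_of_mem _ h⟩
      obtain ⟨x', hx', hxx⟩ := (Ideal.mem_map_iff_of_surjective _ σ.toRingEquiv.surjective).1 h
      exact σ.injective hxx ▸ hx'
    let ε : L ≃+* O ⧸ fibJ g (i y) := (RingHom.quotientKerEquivOfSurjective (f := τ.toRingHom) hτ).symm.trans
      ((Ideal.quotEquivOfEq hφk.symm).trans (RingHom.quotientKerEquivOfSurjective hφ))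
    have hε : ∀ x, ε (τ x) = φ x := fun x => by
      have : (RingHom.quotientKerEquivOfSurjective (f := τ.toRingHom) hτ).symm (τ x) = Ideal.Quotient.mk _ x := by
        rw [RingEquiv.symm_apply_eq]
        rfl
      simp only [ε, RingEquiv.trans_apply, this]
      rfl
    rw [FibReg, ← CIT.isRegularIdeal_map_equiv ε (I.map (algebraMap C L)), hK, Ideal.map_map, Ideal.map_map]
    refine iff_of_eq (congrArg CInt.IsRegularIdeal (congrArg (fun ψ => Ideal.map ψ I) (RingHom.ext fun c => ?_)))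
    show Ideal.Quotient.mk _ (algebraMap C O c) = ε (algebraMap C L c)
    rw [← τ.commutes, hε]
    show _ = Ideal.Quotient.mk _ (σ (algebraMap C Cp c))
    rw [σ.commutes]

end chart

theorem near_flat_iff [IsClosedImmersion i] [LocallyOfFinitePresentation g] [LocallyOfFinitePresentation (i ≫ g)]
    (y : Y) :
    (Near i y ∧ ((i ≫ g).stalkMap y).hom.Flat) ↔
      ((g.stalkMap (i y)).hom.Flat ∧ ((i ≫ g).stalkMap y).hom.Flat ∧ FibReg i g y) := by
  obtain ⟨V, hV, hxV, -⟩ := exists_isAffineOpen_mem_and_subset (X := S) (x := g (i y)) (U := ⊤) trivial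
  obtain ⟨U, hU, hy, e⟩ := exists_isAffineOpen_mem_and_subset (X := X) (x := i y) (U := g ⁻¹ᵁ V) hxV
  letI algAC := (g.appLE V U e).hom.toAlgebra
  haveI : Algebra.FinitePresentation Γ(S, V) Γ(X, U) := g.finitePresentation_appLE hV hU e
  have eW : i ⁻¹ᵁ U ≤ (i ≫ g) ⁻¹ᵁ V := fun z hz => e hz
  letI algAB : Algebra Γ(S, V) Γ(Y, i ⁻¹ᵁ U) := ((i ≫ g).appLE V (i ⁻¹ᵁ U) eW).hom.toAlgebra
  haveI : Algebra.FinitePresentation Γ(S, V) Γ(Y, i ⁻¹ᵁ U) :=
    (i ≫ g).finitePresentation_appLE hV (hU.preimage i) eW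
  let ψ : Γ(X, U) →ₐ[Γ(S, V)] Γ(Y, i ⁻¹ᵁ U) :=
    { (i.app U).hom with
      commutes' := fun a => by
        show (i.app U).hom ((g.appLE V U e).hom a) = ((i ≫ g).appLE V (i ⁻¹ᵁ U) eW).hom a
        rw [← Scheme.Hom.appLE_comp_appLE i g V U (i ⁻¹ᵁ U) e le_rfl, Scheme.Hom.appLE_eq_app]
        rfl }
  have hfg : (i.ker.ideal ⟨U, hU⟩).FG := by
    rw [ker_app_eq i hU]
    exact Algebra.FinitePresentation.ker_fG_of_surjective ψ (i.app_surjective U hU)
  obtain ⟨d1, d2, d3, hIP⟩ := data i g y hU hV e hy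
  rw [d1, d2, d3]
  let P := hU.primeIdealOf ⟨i y, hy⟩
  let O := X.presheaf.stalk (i y)
  let Cp := Localization.AtPrime P.asIdeal
  let I := i.ker.ideal ⟨U, hU⟩
  constructor
  · rintro ⟨hn, hflat⟩
    obtain ⟨ts, hts, htsK⟩ := stalk_list_of_near i y hn
    letI algCO : Algebra Γ(X, U) O := Div89.stalkAlg U (i y) hy
    haveI hloc : IsLocalization.AtPrime O P.asIdeal := hU.isLocalization_stalk ⟨i y, hy⟩
    let σ : Cp ≃ₐ[Γ(X, U)] O := IsLocalization.algEquiv P.asIdeal.primeCompl Cp O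
    have hK : RingHom.ker (i.stalkMap y).hom = I.map (algebraMap Γ(X, U) O) := by
      rw [FlatMor68.FlatInfNbhd.ker_stalkMap_closedImmersion, Div89.stalkIdeal_eq _ ⟨U, hU⟩ _ hy]
      rfl
    have hass : ∀ r ∈ I.map (algebraMap Γ(X, U) O), ∃ c ∈ I, Associated r (algebraMap Γ(X, U) O c) := fun r hr =>
      FibreDepth.associated_of_mem_map P.asIdeal.primeCompl (RingHom.id O) Function.surjective_id I
        (by rwa [RingHom.id_comp])
    choose! c hcI hcr using hass
    have htI : ∀ t ∈ ts, t ∈ I.map (algebraMap Γ(X, U) O) := fun t ht => hK ▸ htsK ▸ Ideal.subset_span ht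
    have hfa : List.Forall₂ Associated ts ((ts.map c).map (algebraMap Γ(X, U) O)) := by
      rw [List.map_map, List.forall₂_map_right_iff, List.forall₂_same]
      exact fun t ht => hcr t (htI t ht)
    have hwr : IsWeaklyRegular Cp (ts.map c) :=
      (LinearEquiv.isWeaklyRegular_congr σ.toLinearEquiv _).2
        ((isWeaklyRegular_map_algebraMap_iff (S := O) (M := O) _).1 (FibreDepth.isWeaklyRegular_of_associated hfa hts))
    have hgen : I.map (algebraMap Γ(X, U) Cp) ≤ (Ideal.ofList (ts.map c)).map (algebraMap Γ(X, U) Cp) := by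
      refine Ideal.map_le_iff_le_comap.2 fun a ha => ?_
      have h1 : algebraMap Γ(X, U) O a ∈ (Ideal.ofList (ts.map c)).map (algebraMap Γ(X, U) O) := by
        have h2 : algebraMap Γ(X, U) O a ∈ Ideal.ofList ts := htsK ▸ hK ▸ Ideal.mem_map_of_mem _ ha
        refine (Ideal.span_le.2 fun t ht => ?_ : Ideal.ofList ts ≤ _) h2
        obtain ⟨v, hv⟩ := (hcr t (htI t ht)).symm
        rw [SetLike.mem_coe, ← hv]
        exact Ideal.mul_mem_right _ _ (Ideal.mem_map_of_mem _ (Ideal.subset_span (List.mem_map.2 ⟨t, ht, rfl⟩)))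
      rw [Ideal.mem_comap]
      have h3 := Ideal.mem_map_of_mem σ.symm.toAlgHom.toRingHom h1
      rw [Ideal.map_map, show σ.symm.toAlgHom.toRingHom.comp (algebraMap Γ(X, U) O) = algebraMap Γ(X, U) Cp from
        RingHom.ext σ.symm.commutes] at h3
      rwa [show σ.symm.toAlgHom.toRingHom (algebraMap Γ(X, U) O a) = algebraMap Γ(X, U) Cp a from σ.symm.commutes a] at h3
    obtain ⟨h1, h2⟩ := TransRegNear.fibre_isRegularIdeal_of_regular (A := Γ(S, V)) I P hIP (ts.map c)
      (fun r hr => by obtain ⟨t, ht, rfl⟩ := List.mem_map.1 hr; exact hcI t (htI t ht)) hgen hwr hflat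
    exact ⟨h1, hflat, h2⟩
  · rintro ⟨hCflat, hBflat, hreg⟩
    obtain ⟨rs, hmem, hwr, hgen⟩ := TransRegNear.exists_fibre_regular_list (A := Γ(S, V)) I P hfg hBflat hreg
    obtain ⟨s, hs, hR⟩ := TransRegNear.exists_away (A := Γ(S, V)) I P hIP hfg rs hmem hgen hwr hCflat
    refine ⟨near_of_away i ⟨U, hU⟩ s (fun R _ _ _ => ?_) y ?_, hBflat⟩
    · obtain ⟨h1, h2⟩ := hR R
      exact ⟨_, h1, h2⟩
    · exact (X.mem_basicOpen s (i y) hy).2 ((Div89.germ_isUnit_iff ⟨U, hU⟩ (i y) hy s).2 hs)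

theorem exists_flat_open {T : Scheme.{u}} (h : T ⟶ S) [LocallyOfFinitePresentation h] (z : T) :
    (∃ W : T.Opens, z ∈ W ∧ Flat (W.ι ≫ h)) ↔ (h.stalkMap z).hom.Flat := by
  constructor
  · rintro ⟨W, hz, hW⟩
    have h1 := (Flat.iff_flat_stalkMap _).1 hW ⟨z, hz⟩
    rw [Scheme.Hom.stalkMap_comp] at h1
    exact (RingHom.Flat.respectsIso.cancel_right_isIso (h.stalkMap (W.ι ⟨z, hz⟩)) (W.ι.stalkMap ⟨z, hz⟩)).1 h1
  · intro hz
    obtain ⟨V, hV, hzV, -⟩ := exists_isAffineOpen_mem_and_subset (X := S) (x := h z) (U := ⊤) trivial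
    obtain ⟨U, hU, hzU, e⟩ := exists_isAffineOpen_mem_and_subset (X := T) (x := z) (U := h ⁻¹ᵁ V) hzV
    letI := (h.appLE V U e).hom.toAlgebra
    haveI : Algebra.FinitePresentation Γ(S, V) Γ(T, U) := h.finitePresentation_appLE hV hU e
    obtain ⟨O, hO⟩ : ∃ O : Set (PrimeSpectrum Γ(T, U)), O = {q : PrimeSpectrum Γ(T, U) |
        Module.Flat Γ(S, V) (LocalizedModule q.asIdeal.primeCompl Γ(T, U))} := ⟨_, rfl⟩
    have hOo : IsOpen O := hO ▸ FlatCrit65.isOpen_flat_locus_module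
    let W : T.Opens := ⟨hU.fromSpec '' O, hU.fromSpec.isOpenEmbedding.isOpenMap O hOo⟩
    refine ⟨W, ⟨hU.primeIdealOf ⟨z, hzU⟩, ?_, hU.fromSpec_primeIdealOf _⟩, (Flat.iff_flat_stalkMap _).2 ?_⟩
    · rw [hO]
      exact (FlatMor66.flat_localizedModule_iff _).2 ((FlatMor66.flat_stalkMap_iff_localization h hV hU e hzU).1 hz)
    · rintro ⟨w, hw⟩
      rw [Scheme.Hom.stalkMap_comp]
      refine (RingHom.Flat.respectsIso.cancel_right_isIso (h.stalkMap (W.ι ⟨w, hw⟩)) (W.ι.stalkMap ⟨w, hw⟩)).2 ?_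
      obtain ⟨q, hq, hqw⟩ := hw
      have hwU : w ∈ U := by
        have : hU.fromSpec q ∈ Set.range hU.fromSpec := ⟨q, rfl⟩
        rw [hU.range_fromSpec] at this
        exact hqw ▸ this
      have hqe : hU.primeIdealOf ⟨w, hwU⟩ = q :=
        hU.fromSpec.isOpenEmbedding.injective ((hU.fromSpec_primeIdealOf ⟨w, hwU⟩).trans hqw.symm)
      rw [hO] at hq
      refine (FlatMor66.flat_stalkMap_iff_localization h hV hU e hwU).2 ?_
      rw [hqe]
      exact (FlatMor66.flat_localizedModule_iff _).1 hq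

theorem fiberMap_eq (s : S) : CInt.fiberMap i g s = MoreMor.fiberMap i g s := by
  apply pullback.hom_ext <;> (simp [CInt.fiberMap, MoreMor.fiberMap, pullback.map, Scheme.Hom.fiberι, Scheme.Hom.fiberToSpecResidueField]; rfl)

/-- Regularity of a map of fibres at a point is regularity on the fibre. -/
theorem isRegularIdeal_fiberMap_iff [IsClosedImmersion i] (s : S) (w : (i ≫ g).fiber s) :
    CInt.IsRegularIdeal (RingHom.ker ((CInt.fiberMap i g s).stalkMap w).hom) ↔
      FibReg i g ((i ≫ g).fiberι s w) := by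
  rw [fiberMap_eq]
  obtain ⟨cB, hcB, hcC, kB, kC, sq⟩ := FlatMor66.exists_fibre_square i g s w
  let y := (i ≫ g).fiberι s w
  let u := (i.stalkMap y).hom
  let cC := (((i ≫ g).fiberι s).stalkMap w).hom
  let v := ((MoreMor.fiberMap i g s).stalkMap w).hom
  have hsq : v.comp cB = cC.comp u := sq
  have hkC : RingHom.ker cC = (fibJ g (i y)).map u := by
    rw [fibJ, Ideal.map_map]
    exact kC
  have h1 : RingHom.ker v = ((RingHom.ker u) ⊔ fibJ g (i y)).map cB := by
    rw [← CIT.map_ker_comp cB hcB v, hsq]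
    refine congrArg (Ideal.map cB) ?_
    rw [← RingHom.comap_ker, hkC, Ideal.comap_map_of_surjective u (i.stalkMap_surjective y), sup_comm]
    rfl
  have h2 : RingHom.ker v = (RingHom.ker u).map cB := by
    rw [h1, Ideal.map_sup, sup_eq_left]
    exact Ideal.map_le_iff_le_comap.2 fun x hx => by
      rw [Ideal.mem_comap, show cB x = 0 from kB.ge hx]
      exact zero_mem _
  show CInt.IsRegularIdeal (RingHom.ker v) ↔ _
  rw [h2, FibReg, ← CIT.isRegularIdeal_quot_iff cB hcB]
  rw [show RingHom.ker cB = fibJ g (i y) from kB]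

end Groth.Agent.CAlg9.TransRegImm
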