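import Groth.Agent.CAlg9.TransRegPoint
import Groth.Agent.QReg14.BaseChange
import Groth.Agent.FlatCrit65.Injective
import Groth.Prelude.Def_CInt

/-!
Transversally regular ideals at a prime, over any base: local and fibre descriptions, spreading.
-/

set_option autoImplicit false
set_option linter.style.haveILetI false
universe u

open TensorProduct RingTheory.Sequence IsLocalRing
open scoped Pointwise

namespace Groth.Agent.CAlg9.TransRegNear

open Groth.Agent.Fib62 Groth.Agent.CAlg9.FibreDepth Groth.Agent.CAlg9.TransRegPoint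

attribute [local instance] Algebra.TensorProduct.rightAlgebra

theorem inf_map_le_of_flat {A O : Type u} [CommRing A] [CommRing O] [Algebra A O] (I : Ideal O)
    [Module.Flat A (O ⧸ I)] (p : Ideal A) : I ⊓ p.map (algebraMap A O) ≤ p.map (algebraMap A O) * I := by
  rintro x ⟨hxI, hxp⟩
  let f : ↥I →ₗ[A] O := I.subtype.restrictScalars A
  let g : O →ₗ[A] O ⧸ I := (Ideal.Quotient.mkₐ A I).toLinearMap
  have hinj := QReg14.lTensor_injective_of_flat_coker (A := A) f g Subtype.val_injective
    (Ideal.Quotient.mkₐ_surjective A I) (fun y => by simp [f, g, Ideal.Quotient.eq_zero_iff_mem]) (A ⧸ p)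
  have hx : x ∈ p • (⊤ : Submodule A O) := by
    rw [← EGA4Alg4.FlatReg13.mem_smul_top_iff (B := O), Ideal.smul_eq_mul, Ideal.mul_top]
    exact hxp
  have h0 : (1 : A ⧸ p) ⊗ₜ[A] (⟨x, hxI⟩ : ↥I) = 0 := hinj (by
    rw [map_zero, LinearMap.lTensor_tmul]
    exact (FlatCrit65.one_tmul_eq_zero_iff p x).2 hx)
  have h1 := (FlatCrit65.one_tmul_eq_zero_iff p (⟨x, hxI⟩ : ↥I)).1 h0
  refine Submodule.smul_induction_on (p := fun y : ↥I => (y : O) ∈ p.map (algebraMap A O) * I) h1 ?_ ?_
  · intro a ha y _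
    rw [Submodule.coe_smul_of_tower, Algebra.smul_def]
    exact Ideal.mul_mem_mul (Ideal.mem_map_of_mem _ ha) y.2
  · intro a b ha hb
    exact Ideal.add_mem _ ha hb

variable {A C : Type u} [CommRing A] [CommRing C] [Algebra A C]

theorem flat_tensor_quot_iff {Cp : Type u} [CommRing Cp] [Algebra C Cp] [Algebra A Cp] [IsScalarTower A C Cp]
    (J : Ideal C) : Module.Flat A (Cp ⊗[C] (C ⧸ J)) ↔ Module.Flat A (Cp ⧸ J.map (algebraMap C Cp)) :=
  Module.Flat.equiv_iff
    ((Algebra.TensorProduct.quotIdealMapEquivTensorQuot Cp J).symm.toLinearEquiv.restrictScalars A)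

theorem flat_tensor_smul_top_iff {Cp : Type u} [CommRing Cp] [Algebra C Cp] [Algebra A Cp] [IsScalarTower A C Cp]
    (J : Ideal C) :
    Module.Flat A (Cp ⊗[C] (C ⧸ (J • (⊤ : Submodule C C)))) ↔ Module.Flat A (Cp ⧸ J.map (algebraMap C Cp)) := by
  rw [← flat_tensor_quot_iff (A := A) J]
  exact Module.Flat.equiv_iff ((AlgebraTensorModule.congr (LinearEquiv.refl Cp Cp)
    (Submodule.quotEquivOfEq _ _ (by rw [Ideal.smul_eq_mul, Ideal.mul_top]))).restrictScalars A)

theorem isWeaklyRegular_tensor_self_iff {N : Type u} [AddCommGroup N] [Module C N] (rs : List C) :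
    IsWeaklyRegular (N ⊗[C] C) rs ↔ IsWeaklyRegular N rs :=
  LinearEquiv.isWeaklyRegular_congr (TensorProduct.rid C N) rs

variable [Algebra.FinitePresentation A C] (I : Ideal C) (P : PrimeSpectrum C)

omit [Algebra.FinitePresentation A C] in
theorem map_fibreLocal (J : Ideal C) {τ : Localization.AtPrime P.asIdeal →ₐ[C] FibreLocal A P} :
    (J.map (algebraMap C (Localization.AtPrime P.asIdeal))).map τ.toRingHom = J.map (algebraMap C (FibreLocal A P)) := by
  rw [Ideal.map_map]
  exact congrArg (fun φ => Ideal.map φ J) (RingHom.ext τ.commutes)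

omit [Algebra.FinitePresentation A C] in
theorem map_le_maximalIdeal_fibreLocal (hI : I ≤ P.asIdeal) :
    I.map (algebraMap C (FibreLocal A P)) ≤ maximalIdeal (FibreLocal A P) := by
  refine Ideal.map_le_iff_le_comap.2 fun c hc => ?_
  rw [Ideal.mem_comap, IsScalarTower.algebraMap_apply C ((P.asIdeal.under A).Fiber C) (FibreLocal A P),
    IsLocalization.AtPrime.to_map_mem_maximal_iff (FibreLocal A P) (fibrePoint (A := A) P).asIdeal]
  exact (comap_fibrePoint P).ge (hI hc)

/-- A regular system of generators with flat quotient gives a regular ideal on the fibre. -/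
theorem fibre_isRegularIdeal_of_regular (hI : I ≤ P.asIdeal) (rs : List C) (hmem : ∀ r ∈ rs, r ∈ I)
    (hgen : I.map (algebraMap C (Localization.AtPrime P.asIdeal)) ≤
      (Ideal.ofList rs).map (algebraMap C (Localization.AtPrime P.asIdeal)))
    (hwr : IsWeaklyRegular (Localization.AtPrime P.asIdeal) rs)
    (hflat : Module.Flat A (Localization.AtPrime P.asIdeal ⧸ I.map (algebraMap C (Localization.AtPrime P.asIdeal)))) :
    Module.Flat A (Localization.AtPrime P.asIdeal) ∧ CInt.IsRegularIdeal (I.map (algebraMap C (FibreLocal A P))) := by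
  have hle : Ideal.ofList rs ≤ I := Ideal.span_le.2 hmem
  have heq := le_antisymm (Ideal.map_mono (f := algebraMap C (Localization.AtPrime P.asIdeal)) hle) hgen
  obtain ⟨h1, h2⟩ := flat_and_fibre_regular (A := A) P rs C (fun r hr => hI (hmem r hr))
    ((isWeaklyRegular_tensor_self_iff rs).2 hwr) ((flat_tensor_smul_top_iff _).2 (heq ▸ hflat))
  refine ⟨Module.Flat.of_linearEquiv ((AlgebraTensorModule.rid C (Localization.AtPrime P.asIdeal)
    (Localization.AtPrime P.asIdeal)).symm.restrictScalars A), rs.map (algebraMap C (FibreLocal A P)), ⟨?_, ?_⟩, ?_⟩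
  · exact (isWeaklyRegular_map_algebraMap_iff (S := FibreLocal A P) (M := FibreLocal A P) rs).2
      ((isWeaklyRegular_tensor_self_iff rs).1 h2)
  · rw [← Ideal.map_ofList, Ideal.smul_eq_mul, Ideal.mul_top]
    exact fun h => (maximalIdeal.isMaximal (FibreLocal A P)).ne_top
      (top_le_iff.1 (h.le.trans ((Ideal.map_mono hle).trans (map_le_maximalIdeal_fibreLocal I P hI))))
  · rw [← Ideal.map_ofList]
    obtain ⟨τ, -, -⟩ := exists_surjective_fibreLocal (A := A) P
    rw [← map_fibreLocal P _ (τ := τ), ← map_fibreLocal P I (τ := τ), heq]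

omit [Algebra.FinitePresentation A C] in
/-- Generators of the fibre ideal which form a regular sequence lift to generators. -/
theorem exists_fibre_regular_list (hfg : I.FG)
    (hflat : Module.Flat A (Localization.AtPrime P.asIdeal ⧸ I.map (algebraMap C (Localization.AtPrime P.asIdeal))))
    (h : CInt.IsRegularIdeal (I.map (algebraMap C (FibreLocal A P)))) :
    ∃ rs : List C, (∀ r ∈ rs, r ∈ I) ∧ IsWeaklyRegular (FibreLocal A P) rs ∧
      I.map (algebraMap C (Localization.AtPrime P.asIdeal)) ≤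
        (Ideal.ofList rs).map (algebraMap C (Localization.AtPrime P.asIdeal)) := by
  let O := Localization.AtPrime P.asIdeal
  let L := FibreLocal A P
  obtain ⟨τ, hτ, hker⟩ := exists_surjective_fibreLocal (A := A) P
  obtain ⟨ts, hts, heq⟩ := h
  have hass : ∀ r ∈ I.map (algebraMap C L), ∃ c ∈ I, Associated r (algebraMap C L c) := fun r hr => by
    obtain ⟨c, hc, hcr⟩ := associated_of_mem_map P.asIdeal.primeCompl τ.toRingHom hτ I (r := r)
      (by rwa [show τ.toRingHom.comp (algebraMap C O) = algebraMap C L from RingHom.ext τ.commutes])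
    exact ⟨c, hc, by simpa using hcr⟩
  choose! c hcI hcr using hass
  have htsI : ∀ t ∈ ts, t ∈ I.map (algebraMap C L) := fun t ht => heq ▸ Ideal.subset_span ht
  let rs := ts.map c
  have hrsI : ∀ r ∈ rs, r ∈ I := fun r hr => by
    obtain ⟨t, ht, rfl⟩ := List.mem_map.1 hr
    exact hcI t (htsI t ht)
  have hfa : List.Forall₂ Associated ts (rs.map (algebraMap C L)) := by
    rw [List.map_map, List.forall₂_map_right_iff, List.forall₂_same]
    exact fun t ht => hcr t (htsI t ht)
  have hwr : IsWeaklyRegular L rs :=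
    (isWeaklyRegular_map_algebraMap_iff (S := L) (M := L) rs).1 (isWeaklyRegular_of_associated hfa hts.1)
  refine ⟨rs, hrsI, hwr, ?_⟩
  let J : Ideal O := (Ideal.ofList rs).map (algebraMap C O)
  let p := (P.asIdeal.under A).map (algebraMap A O)
  have hIL : I.map (algebraMap C L) ≤ (Ideal.ofList rs).map (algebraMap C L) := by
    rw [← heq, Ideal.map_ofList]
    refine Ideal.span_le.2 fun t ht => ?_
    obtain ⟨v, hv⟩ := (hcr t (htsI t ht)).symm
    rw [SetLike.mem_coe, ← hv]
    exact Ideal.mul_mem_right _ _ (Ideal.subset_span (List.mem_map.2 ⟨c t, List.mem_map.2 ⟨t, ht, rfl⟩, rfl⟩))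
  have hkey : I.map (algebraMap C O) ≤ J ⊔ p * I.map (algebraMap C O) := by
    intro x hx
    have h1 : τ.toRingHom x ∈ J.map τ.toRingHom := by
      rw [map_fibreLocal]
      exact hIL (map_fibreLocal P I (τ := τ) ▸ Ideal.mem_map_of_mem _ hx)
    obtain ⟨j, hj, hjx⟩ := (Ideal.mem_map_iff_of_surjective τ.toRingHom hτ).1 h1
    have hp : x - j ∈ p := by
      show x - j ∈ (P.asIdeal.under A).map (algebraMap A O)
      rw [← hker, RingHom.mem_ker, map_sub, sub_eq_zero]
      exact hjx.symm
    have hI' : x - j ∈ I.map (algebraMap C O) :=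
      sub_mem hx (Ideal.map_mono (f := algebraMap C O) (Ideal.span_le.2 hrsI) hj)
    rw [← sub_add_cancel x j, add_comm]
    exact Submodule.add_mem_sup hj (inf_map_le_of_flat _ _ ⟨hI', hp⟩)
  refine Submodule.le_of_le_smul_of_le_jacobson_bot (I := maximalIdeal O) (hfg.map _)
    (IsLocalRing.maximalIdeal_le_jacobson _) ?_
  refine hkey.trans (sup_le_sup le_rfl ?_)
  rw [Ideal.smul_eq_mul]
  refine Ideal.mul_mono_left ?_
  refine Ideal.map_le_iff_le_comap.2 fun a ha => ?_
  rw [Ideal.mem_comap, IsScalarTower.algebraMap_apply A C O, IsLocalization.AtPrime.to_map_mem_maximal_iff O P.asIdeal]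
  exact ha

/-- Spreading of a transversally regular system of generators. -/
theorem exists_away (hI : I ≤ P.asIdeal) (hfg : I.FG) (rs : List C) (hmem : ∀ r ∈ rs, r ∈ I)
    (hgen : I.map (algebraMap C (Localization.AtPrime P.asIdeal)) ≤
      (Ideal.ofList rs).map (algebraMap C (Localization.AtPrime P.asIdeal)))
    (hwr : IsWeaklyRegular (FibreLocal A P) rs) (hflat : Module.Flat A (Localization.AtPrime P.asIdeal)) :
    ∃ g : C, g ∉ P.asIdeal ∧ ∀ (R : Type u) [CommRing R] [Algebra C R] [IsLocalization.Away g R],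
      IsRegular R (rs.map (algebraMap C R)) ∧ I.map (algebraMap C R) = Ideal.ofList (rs.map (algebraMap C R)) := by
  classical
  obtain ⟨T, hT⟩ : ∃ T : Set (PrimeSpectrum C), T = {Q : PrimeSpectrum C |
      Module.Flat A (Localization.AtPrime Q.asIdeal ⊗[C] C) ∧ IsWeaklyRegular (FibreLocal A Q ⊗[C] C) rs} :=
    ⟨_, rfl⟩
  have hTo : IsOpen T := hT ▸ isOpen_weaklyRegular_fibre rs C
  have hPT : P ∈ T := hT ▸ ⟨Module.Flat.of_linearEquiv ((AlgebraTensorModule.rid C (Localization.AtPrime P.asIdeal)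
    (Localization.AtPrime P.asIdeal)).restrictScalars A), (isWeaklyRegular_tensor_self_iff rs).2 hwr⟩
  obtain ⟨_, ⟨g₁, rfl⟩, hg₁, hsub⟩ :=
    PrimeSpectrum.isTopologicalBasis_basic_opens.exists_subset_of_mem_open hPT hTo
  obtain ⟨s, hs⟩ := hfg
  have hex : ∀ x : C, ∃ t, t ∉ P.asIdeal ∧ (x ∈ I → t * x ∈ Ideal.ofList rs) := fun x => by
    by_cases hx : x ∈ I
    · obtain ⟨t, ht, htx⟩ := (IsLocalization.algebraMap_mem_map_algebraMap_iff P.asIdeal.primeCompl _ _ _).1
        (hgen (Ideal.mem_map_of_mem _ hx))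
      exact ⟨t, ht, fun _ => htx⟩
    · exact ⟨1, P.2.one_notMem, fun h => absurd h hx⟩
  choose t ht1 ht2 using hex
  refine ⟨g₁ * ∏ x ∈ s, t x, ?_, fun R _ _ _ => ?_⟩
  · intro h
    rcases P.2.mem_or_mem h with h' | h'
    · exact hg₁ h'
    · obtain ⟨x, -, hx⟩ := (Ideal.IsPrime.prod_mem_iff (hp := P.2)).1 h'
      exact ht1 x hx
  have hu : IsUnit (algebraMap C R (g₁ * ∏ x ∈ s, t x)) := IsLocalization.Away.algebraMap_isUnit _
  rw [map_mul, IsUnit.mul_iff] at hu
  have heq : I.map (algebraMap C R) = Ideal.ofList (rs.map (algebraMap C R)) := by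
    rw [← Ideal.map_ofList]
    refine le_antisymm ?_ (Ideal.map_mono (Ideal.span_le.2 hmem))
    rw [← hs, Ideal.map_span, Ideal.span_le]
    rintro _ ⟨x, hx, rfl⟩
    have hxt : IsUnit (algebraMap C R (t x)) :=
      isUnit_of_dvd_unit (map_dvd _ (Finset.dvd_prod_of_mem t hx)) hu.2
    refine (Ideal.unit_mul_mem_iff_mem _ hxt).1 ?_
    rw [← map_mul]
    exact Ideal.mem_map_of_mem _ (ht2 x (hs ▸ Ideal.subset_span hx))
  refine ⟨⟨?_, ?_⟩, heq⟩
  · refine isWeaklyRegular_of_localized _ R fun Q' => ?_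
    let Q : PrimeSpectrum C := PrimeSpectrum.comap (algebraMap C R) Q'
    have hQ : Q ∈ T := hsub (show g₁ ∉ Q.asIdeal from fun h => Q'.2.ne_top (Ideal.eq_top_of_isUnit_mem _ h hu.1))
    rw [hT] at hQ
    obtain ⟨h1, -⟩ := regular_and_flat_quot (A := A) Q rs C hQ.1 hQ.2
    rw [isWeaklyRegular_tensor_self_iff] at h1
    let L' := Localization.AtPrime Q'.asIdeal
    haveI : IsLocalization.AtPrime L' Q.asIdeal :=
      IsLocalization.isLocalization_isLocalization_atPrime_isLocalization
        (M := Submonoid.powers (g₁ * ∏ x ∈ s, t x)) L' Q'.asIdeal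
    let e : Localization.AtPrime Q.asIdeal ≃ₐ[C] L' :=
      IsLocalization.algEquiv Q.asIdeal.primeCompl _ L'
    rw [isWeaklyRegular_tensor_self_iff, isWeaklyRegular_map_algebraMap_iff]
    exact (LinearEquiv.isWeaklyRegular_congr e.toLinearEquiv rs).1 h1
  · rw [← heq, Ideal.smul_eq_mul, Ideal.mul_top]
    intro h
    have hPd : Disjoint (Submonoid.powers (g₁ * ∏ x ∈ s, t x) : Set C) (P.asIdeal : Set C) := by
      rw [Set.disjoint_left]
      rintro _ ⟨k, rfl⟩ hk
      rcases P.2.mem_or_mem (P.2.mem_of_pow_mem k hk) with h' | h'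
      · exact hg₁ h'
      · obtain ⟨x, -, hx⟩ := (Ideal.IsPrime.prod_mem_iff (hp := P.2)).1 h'
        exact ht1 x hx
    exact (IsLocalization.isPrime_of_isPrime_disjoint (Submonoid.powers (g₁ * ∏ x ∈ s, t x)) R P.asIdeal P.2 hPd).ne_top
      (top_le_iff.1 (h.le.trans (Ideal.map_mono hI)))

end Groth.Agent.CAlg9.TransRegNear
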