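import Groth.Agent.CAlg9.FibreDepthModel
import Groth.Agent.E4O.InjCokerStage
import Groth.Agent.EGA4Alg4.FlatReg
import Groth.Agent.EGA4Alg4.DepthChange

/-!
Transversally regular sequences at a prime of a finitely presented algebra, over any base.
-/

set_option autoImplicit false
set_option linter.style.haveILetI false
universe u

open TensorProduct RingTheory.Sequence
open scoped Pointwise

namespace Groth.Agent.CAlg9.TransRegPoint

open Groth.Agent.Fib62 Groth.Agent.E4O.InjStage

attribute [local instance] Algebra.TensorProduct.rightAlgebra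

theorem baseChange_lsmul {C₁ C : Type u} [CommRing C₁] [CommRing C] [Algebra C₁ C] {M : Type u} [AddCommGroup M]
    [Module C₁ M] (g : C₁) :
    (LinearMap.lsmul C₁ M g).baseChange C = LinearMap.lsmul C (C ⊗[C₁] M) (algebraMap C₁ C g) := by
  ext m
  simp [algebraMap_smul]

theorem range_lsmul {C : Type u} [CommRing C] (M : Type u) [AddCommGroup M] [Module C M] (g : C) :
    LinearMap.range (LinearMap.lsmul C M g) = g • (⊤ : Submodule C M) := by
  ext m
  simp [Submodule.mem_smul_pointwise_iff_exists]

variable {A C : Type u} [CommRing A] [CommRing C] [Algebra A C]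

section
variable (M : Type u) [AddCommGroup M] [Module C M] [Module A M] [IsScalarTower A C M]

omit [Module A M] [IsScalarTower A C M] in
theorem flat_localized_quot_iff (P : PrimeSpectrum C) (g : C) :
    Module.Flat A (Localization.AtPrime P.asIdeal ⊗[C] (M ⧸ LinearMap.range (LinearMap.lsmul C M g))) ↔
      Module.Flat A (Localization.AtPrime P.asIdeal ⊗[C] QuotSMulTop g M) :=
  Module.Flat.equiv_iff ((AlgebraTensorModule.congr (LinearEquiv.refl (Localization.AtPrime P.asIdeal) _)
    (Submodule.quotEquivOfEq _ _ (range_lsmul M g))).restrictScalars A)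

omit [Module A M] [IsScalarTower A C M] in
theorem finitePresentation_quotSMulTop [Module.FinitePresentation C M] (g : C) :
    Module.FinitePresentation C (QuotSMulTop g M) :=
  Module.finitePresentation_of_surjective (Submodule.mkQ _) (Submodule.mkQ_surjective _) (by
    rw [Submodule.ker_mkQ, ← range_lsmul, LinearMap.range_eq_map]
    exact Module.Finite.fg_top.map _)

end

variable [Algebra.FinitePresentation A C]

omit [Algebra.FinitePresentation A C] in
theorem flat_of_good_noetherian {E C' : Type u} [CommRing E] [CommRing C'] [Algebra E C'] [IsNoetherianRing E]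
    [IsNoetherianRing C'] (M' : Type u) [AddCommGroup M'] [Module C' M'] [Module E M'] [IsScalarTower E C' M']
    [Module.Finite C' M'] (g' : C') (P' : PrimeSpectrum C') (hg' : g' ∈ P'.asIdeal)
    (h : Good E (LinearMap.lsmul C' M' g') P') : Module.Flat E (Localization.AtPrime P'.asIdeal ⊗[C'] M') := by
  obtain ⟨hinj, hflat⟩ := h
  let L := Localization.AtPrime P'.asIdeal
  let N := L ⊗[C'] M'
  have hreg : IsSMulRegular N (algebraMap C' L g') := by
    have := (injAt_iff (LinearMap.lsmul C' M' g') P').mp hinj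
    rw [baseChange_lsmul] at this
    exact this
  haveI : Module.Flat E (L ⊗[C'] QuotSMulTop g' M') := (flat_localized_quot_iff (A := E) M' P' g').1 hflat
  haveI : Module.Flat E (QuotSMulTop (algebraMap C' L g') N) :=
    Module.Flat.of_linearEquiv ((((EGA4Alg4.quotSMulTopRestrictEquiv (B := L) N g').symm ≪≫ₗ
      (QuotSMulTop.tensorQuotSMulTopEquivQuotSMulTop g' L M').symm)).restrictScalars E)
  haveI : IsNoetherianRing L := IsLocalization.isNoetherianRing P'.asIdeal.primeCompl L inferInstance
  exact EGA4Alg4.FlatReg13.flat_of_flat_quotSMulTop N (algebraMap C' L g')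
    ((IsLocalization.AtPrime.to_map_mem_maximal_iff L P'.asIdeal g').2 hg') hreg

omit [Algebra.FinitePresentation A C] in
theorem flat_baseChange {E C' : Type u} [CommRing E] [IsNoetherianRing E] [CommRing C'] [Algebra E C'] [Algebra.FinitePresentation E C']
    [IsNoetherianRing C'] [Algebra E A] [Algebra E C] [Algebra C' C] [IsScalarTower E A C] [IsScalarTower E C' C]
    [Algebra.IsPushout E A C' C] (M' : Type u) [AddCommGroup M'] [Module C' M'] [Module.Finite C' M']
    (P : PrimeSpectrum C) (h : Module.Flat E (Localization.AtPrime (PrimeSpectrum.comap (algebraMap C' C) P).asIdeal ⊗[C'] M'))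
    {M : Type u} [AddCommGroup M] [Module C M] [Module A M] [IsScalarTower A C M] (e : C ⊗[C'] M' ≃ₗ[C] M) :
    Module.Flat A (Localization.AtPrime P.asIdeal ⊗[C] M) := by
  haveI : Module.FinitePresentation C' M' := Module.finitePresentation_of_finite _ _
  haveI : Module.FinitePresentation C' PUnit.{u + 1} := Module.finitePresentation_of_finite _ _
  let P' := PrimeSpectrum.comap (algebraMap C' C) P
  have hz : Good E (0 : PUnit.{u + 1} →ₗ[C'] M') P' := by
    refine ⟨fun x _ => ⟨1, fun h1 => P'.2.ne_top ((Ideal.eq_top_iff_one _).2 h1), Subsingleton.elim _ _⟩, ?_⟩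
    exact Module.Flat.of_linearEquiv ((AlgebraTensorModule.congr (LinearEquiv.refl (Localization.AtPrime P'.asIdeal) _)
      (Submodule.quotEquivOfEqBot _ LinearMap.range_zero)).restrictScalars E)
  have h2 := (good_baseChange (A := A) (0 : PUnit.{u + 1} →ₗ[C'] M') P hz).2
  exact Module.Flat.of_linearEquiv (((AlgebraTensorModule.congr (LinearEquiv.refl (Localization.AtPrime P.asIdeal) _)
    (Submodule.quotEquivOfEqBot (LinearMap.range ((0 : PUnit.{u + 1} →ₗ[C'] M').baseChange C))
      (by rw [LinearMap.baseChange_zero]; exact LinearMap.range_zero) ≪≫ₗ e)).restrictScalars A).symm)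

set_option maxHeartbeats 1000000 in
set_option synthInstance.maxHeartbeats 200000 in
/-- An element regular at `P` with flat cokernel forces flatness at `P`. -/
theorem flat_of_good_lsmul {M : Type u} [AddCommGroup M] [Module C M] [Module A M] [IsScalarTower A C M]
    [Module.FinitePresentation C M] (g : C) (P : PrimeSpectrum C) (hg : g ∈ P.asIdeal)
    (h : Good A (LinearMap.lsmul C M g) P) : Module.Flat A (Localization.AtPrime P.asIdeal ⊗[C] M) := by
  obtain ⟨D, hD, C₁, _, _, _, _, _, hp, M₁, _, _, _, _, _, _, eM, hs⟩ :=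
    FibreDepth.exists_model_mem (A := A) (M := M) {g}
  obtain ⟨g₁, hg₁⟩ := hs (Finset.mem_coe.2 (Finset.mem_singleton_self g))
  let u₁ := LinearMap.lsmul C₁ M₁ g₁
  have hu : Good A (u₁.baseChange C) P :=
    good_congr eM.symm eM.symm (fun x => by rw [baseChange_lsmul, hg₁]; exact eM.symm.map_smul g x) h
  haveI : Algebra.FiniteType D C₁ := inferInstance
  obtain ⟨E, hE, hstage⟩ := exists_stage (D := D) (A := A) (C₁ := C₁) (C := C) u₁ P hu
  haveI : Algebra.FiniteType D E := (Subalgebra.fg_iff_finiteType E).mp hE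
  haveI : IsNoetherianRing E := Algebra.FiniteType.isNoetherianRing D E
  let C' := E ⊗[D] C₁
  letI : CommRing C' := Algebra.TensorProduct.instCommRing
  let ψ : C' →ₐ[D] C :=
    Algebra.TensorProduct.lift (IsScalarTower.toAlgHom D E C) (IsScalarTower.toAlgHom D C₁ C) fun _ _ => .all _ _
  have hψ : ∀ (c : E) (b : C₁), ψ (c ⊗ₜ b) = algebraMap E C c * algebraMap C₁ C b := fun c b =>
    Algebra.TensorProduct.lift_tmul _ _ _ c b
  let σ : C' →ₐ[C₁] C := { ψ.toRingHom with
    commutes' := fun b => by
      show ψ ((1 : E) ⊗ₜ b) = _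
      rw [hψ, map_one, one_mul] }
  have hgood := hstage E C' (AlgHom.id D E) E.val σ (AlgHom.comp_id _) fun a => by
    show ψ (a ⊗ₜ (1 : C₁)) = _
    rw [hψ, map_one, mul_one]
    rfl
  letI : Algebra C' C := σ.toRingHom.toAlgebra
  let P' := PrimeSpectrum.comap (algebraMap C' C) P
  haveI : IsScalarTower C₁ C' C := IsScalarTower.of_algebraMap_eq fun b => (σ.commutes b).symm
  haveI : IsScalarTower E C' C := IsScalarTower.of_algebraMap_eq fun c => by
    show _ = ψ (c ⊗ₜ 1)
    rw [hψ, map_one, mul_one]
  haveI : IsNoetherianRing C' := Algebra.FiniteType.isNoetherianRing E C'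
  let M' := C' ⊗[C₁] M₁
  let g' := algebraMap C₁ C' g₁
  have hg' : g' ∈ P'.asIdeal := by
    show algebraMap C' C g' ∈ P.asIdeal
    rw [← IsScalarTower.algebraMap_apply, hg₁]
    exact hg
  haveI : Module.Finite C' M' := Module.Finite.base_change C₁ C' M₁
  rw [baseChange_lsmul] at hgood
  haveI : Algebra.IsPushout E A C' C := (Algebra.IsPushout.comp_iff D E C₁ C' (T := A) (T' := C)).1 hp
  exact flat_baseChange (E := E) (C' := C') M' P
    (flat_of_good_noetherian (E := E) M' g' P' hg' hgood)
    (AlgebraTensorModule.cancelBaseChange C₁ C' C C M₁ ≪≫ₗ eM)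

/-- Regular at `P` with flat quotient: flat at `P` and regular on the fibre. -/
theorem flat_and_fibre_regular (P : PrimeSpectrum C) (rs : List C) :
    ∀ (M : Type u) [AddCommGroup M] [Module C M] [Module A M] [IsScalarTower A C M] [Module.FinitePresentation C M],
      (∀ r ∈ rs, r ∈ P.asIdeal) → IsWeaklyRegular (Localization.AtPrime P.asIdeal ⊗[C] M) rs →
      Module.Flat A (Localization.AtPrime P.asIdeal ⊗[C] (M ⧸ (Ideal.ofList rs • (⊤ : Submodule C M)))) →
      Module.Flat A (Localization.AtPrime P.asIdeal ⊗[C] M) ∧ IsWeaklyRegular (FibreLocal A P ⊗[C] M) rs := by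
  induction rs with
  | nil =>
    intro M _ _ _ _ _ _ _ h
    exact ⟨Module.Flat.of_linearEquiv ((AlgebraTensorModule.congr (LinearEquiv.refl (Localization.AtPrime P.asIdeal) _)
      (Submodule.quotEquivOfEqBot (Ideal.ofList ([] : List C) • (⊤ : Submodule C M)) (by rw [Ideal.ofList_nil, Submodule.bot_smul]))).symm.restrictScalars A),
      IsWeaklyRegular.nil C _⟩
  | cons g gs ih =>
    intro M _ _ _ _ _ hmem hreg hflat
    haveI := finitePresentation_quotSMulTop M g
    rw [isWeaklyRegular_cons_iff] at hreg
    have hQreg : IsWeaklyRegular (Localization.AtPrime P.asIdeal ⊗[C] QuotSMulTop g M) gs :=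
      (LinearEquiv.isWeaklyRegular_congr
        (QuotSMulTop.tensorQuotSMulTopEquivQuotSMulTop g (Localization.AtPrime P.asIdeal) M).symm gs).1 hreg.2
    obtain ⟨h1, h2⟩ := ih (QuotSMulTop g M) (fun r hr => hmem r (List.mem_cons_of_mem _ hr)) hQreg
      (Module.Flat.of_linearEquiv ((AlgebraTensorModule.congr (LinearEquiv.refl (Localization.AtPrime P.asIdeal) _)
        (Submodule.quotOfListConsSMulTopEquivQuotSMulTopInner M g gs)).restrictScalars A).symm)
    have hinj : InjAt (LinearMap.lsmul C M g) P := by
      refine (injAt_iff _ P).mpr ?_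
      rw [baseChange_lsmul]
      intro a b hab
      refine hreg.1 ?_
      simpa only [LinearMap.lsmul_apply, algebraMap_smul] using hab
    have hco := (flat_localized_quot_iff (A := A) M P g).2 h1
    refine ⟨flat_of_good_lsmul g P (hmem g List.mem_cons_self) ⟨hinj, hco⟩, ?_⟩
    rw [isWeaklyRegular_cons_iff, isSMulRegular_fibreLocal_iff,
      LinearEquiv.isWeaklyRegular_congr (R := C) (M := QuotSMulTop g (FibreLocal A P ⊗[C] M))
        (M₂ := FibreLocal A P ⊗[C] QuotSMulTop g M)
        (QuotSMulTop.tensorQuotSMulTopEquivQuotSMulTop g (FibreLocal A P) M).symm]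
    exact ⟨injFib_of_injAt _ P hinj hco, h2⟩

/-- Flat at `P` and regular on the fibre: regular at `P` with flat quotient. -/
theorem regular_and_flat_quot (P : PrimeSpectrum C) (rs : List C) :
    ∀ (M : Type u) [AddCommGroup M] [Module C M] [Module A M] [IsScalarTower A C M] [Module.FinitePresentation C M],
      Module.Flat A (Localization.AtPrime P.asIdeal ⊗[C] M) → IsWeaklyRegular (FibreLocal A P ⊗[C] M) rs →
      IsWeaklyRegular (Localization.AtPrime P.asIdeal ⊗[C] M) rs ∧
        Module.Flat A (Localization.AtPrime P.asIdeal ⊗[C] (M ⧸ (Ideal.ofList rs • (⊤ : Submodule C M)))) := by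
  induction rs with
  | nil =>
    intro M _ _ _ _ _ h _
    exact ⟨IsWeaklyRegular.nil C _,
      Module.Flat.of_linearEquiv ((AlgebraTensorModule.congr (LinearEquiv.refl (Localization.AtPrime P.asIdeal) _)
        (Submodule.quotEquivOfEqBot (Ideal.ofList ([] : List C) • (⊤ : Submodule C M)) (by rw [Ideal.ofList_nil, Submodule.bot_smul]))).restrictScalars A)⟩
  | cons g gs ih =>
    intro M _ _ _ _ _ hflat hreg
    haveI := finitePresentation_quotSMulTop M g
    rw [isWeaklyRegular_cons_iff, isSMulRegular_fibreLocal_iff,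
      LinearEquiv.isWeaklyRegular_congr (R := C) (M := QuotSMulTop g (FibreLocal A P ⊗[C] M))
        (M₂ := FibreLocal A P ⊗[C] QuotSMulTop g M)
        (QuotSMulTop.tensorQuotSMulTopEquivQuotSMulTop g (FibreLocal A P) M).symm] at hreg
    obtain ⟨hinj, hco⟩ := injAt_and_flat_coker_of_injFib _ P hflat hreg.1
    obtain ⟨h1, h2⟩ := ih (QuotSMulTop g M) ((flat_localized_quot_iff (A := A) M P g).1 hco) hreg.2
    refine ⟨?_, Module.Flat.of_linearEquiv ((AlgebraTensorModule.congr (LinearEquiv.refl (Localization.AtPrime P.asIdeal) _)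
      (Submodule.quotOfListConsSMulTopEquivQuotSMulTopInner M g gs)).restrictScalars A)⟩
    rw [isWeaklyRegular_cons_iff]
    refine ⟨?_, (LinearEquiv.isWeaklyRegular_congr
      (QuotSMulTop.tensorQuotSMulTopEquivQuotSMulTop g (Localization.AtPrime P.asIdeal) M).symm gs).2 h1⟩
    have := (injAt_iff _ P).mp hinj
    rw [baseChange_lsmul] at this
    intro a b hab
    refine this ?_
    simpa only [LinearMap.lsmul_apply, algebraMap_smul] using hab

omit [Algebra.FinitePresentation A C] in
theorem isWeaklyRegular_of_localized {R : Type u} [CommRing R] (rs : List R) :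
    ∀ (M : Type u) [AddCommGroup M] [Module R M],
      (∀ P : PrimeSpectrum R, IsWeaklyRegular (Localization.AtPrime P.asIdeal ⊗[R] M) rs) → IsWeaklyRegular M rs := by
  induction rs with
  | nil => intro M _ _ _; exact IsWeaklyRegular.nil R M
  | cons g gs ih =>
    intro M _ _ h
    rw [isWeaklyRegular_cons_iff]
    refine ⟨?_, ih (QuotSMulTop g M) fun P => (LinearEquiv.isWeaklyRegular_congr
      (QuotSMulTop.tensorQuotSMulTopEquivQuotSMulTop g (Localization.AtPrime P.asIdeal) M).symm gs).1
        ((isWeaklyRegular_cons_iff _ g gs).1 (h P)).2⟩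
    rw [isSMulRegular_iff_right_eq_zero_of_smul]
    intro x hx
    by_contra hx0
    obtain ⟨m, hm, hle⟩ := Ideal.exists_le_maximal (Submodule.colon ⊥ {x} : Ideal R)
      (fun he => hx0 (by simpa using Submodule.mem_colon_singleton.1 ((Ideal.eq_top_iff_one _).1 he)))
    let P : PrimeSpectrum R := ⟨m, hm.isPrime⟩
    have h0 : (1 : Localization.AtPrime P.asIdeal) ⊗ₜ[R] x = 0 := by
      refine (isSMulRegular_iff_right_eq_zero_of_smul.1 ((isWeaklyRegular_cons_iff _ g gs).1 (h P)).1) _ ?_
      rw [← tmul_smul, hx, tmul_zero]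
    have hloc : IsLocalizedModule P.asIdeal.primeCompl (TensorProduct.mk R (Localization.AtPrime P.asIdeal) M 1) :=
      (isLocalizedModule_iff_isBaseChange P.asIdeal.primeCompl (Localization.AtPrime P.asIdeal) _).2
        (TensorProduct.isBaseChange R M _)
    obtain ⟨⟨s, hs⟩, hsx⟩ := (IsLocalizedModule.eq_zero_iff P.asIdeal.primeCompl
      (TensorProduct.mk R (Localization.AtPrime P.asIdeal) M 1)).1 h0
    exact hs (hle (Submodule.mem_colon_singleton.2 (by simpa using hsx)))

end Groth.Agent.CAlg9.TransRegPoint
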