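import Groth.Agent.CAlg9.TransRegImm
import Groth.Agent.CAlg9.CIT.FibreStalks
import Groth.Agent.SchBasics.FibreIsoBC

/-!
Global and two-out-of-three forms of the fibre criterion for regular immersions flat over a base.
-/

set_option autoImplicit false
set_option backward.isDefEq.respectTransparency.types false
set_option linter.style.haveILetI false
universe u

open CategoryTheory Limits AlgebraicGeometry TopologicalSpace IsLocalRing RingTheory.Sequence

namespace Groth.Agent.CAlg9.TransRegUse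

open Groth.Agent.CAlg9.TransRegImm

variable {X Y S : Scheme.{u}}

theorem near_of_regular (i : Y ⟶ X) (h : Mor2.IsRegularClosedImmersion i) (y : Y) : Near i y := by
  have : IsClosedImmersion i := h.1
  obtain ⟨U, hU, hy, rs, hrs, hker⟩ := h.2 y
  refine near_of_away i ⟨U, hU⟩ 1 (fun R _ _ _ => ?_) y ?_
  · obtain ⟨gs, h1, h2⟩ := (CIT.isRegularIdeal_map_equiv (IsLocalization.atOne Γ(X, U) R).toRingEquiv
      (i.ker.ideal ⟨U, hU⟩)).2 ⟨rs, hrs, hker.symm⟩
    refine ⟨gs, h1, ?_⟩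
    rw [h2]
    exact congrArg (fun φ => Ideal.map φ _) (RingHom.ext fun a => ((IsLocalization.atOne Γ(X, U) R).commutes a).symm)
  · rw [Scheme.basicOpen_of_isUnit _ isUnit_one]
    exact hy

theorem regular_of_forall_near (i : Y ⟶ X) [IsClosedImmersion i] (h : ∀ y, Near i y) :
    Mor2.IsRegularClosedImmersion i := by
  refine ⟨inferInstance, fun z => ?_⟩
  obtain ⟨V, hzV, -, hV⟩ := h z
  obtain ⟨U, hU, hzU, rs, hrs, hker⟩ := hV ⟨z, hzV⟩
  rw [CIT.ker_restrict_eq] at hker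
  exact ⟨V.ι ''ᵁ U, hU.image_of_isOpenImmersion V.ι,
    ⟨(i ∣_ V) ⟨z, hzV⟩, hzU, morphismRestrict_base_coe i V ⟨z, hzV⟩⟩, rs, hrs, hker⟩

theorem regular_flat_iff (u : Y ⟶ X) (g : X ⟶ S) [IsClosedImmersion u] [LocallyOfFinitePresentation g]
    [LocallyOfFinitePresentation (u ≫ g)] :
    (Flat (u ≫ g) ∧ Mor2.IsRegularClosedImmersion u) ↔
      ((∀ y : ↥Y, (g.stalkMap (u y)).hom.Flat) ∧ Flat (u ≫ g) ∧
        ∀ s : ↥S, Mor2.IsRegularClosedImmersion (CInt.fiberMap u g s)) := by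
  have hci : ∀ s : S, IsClosedImmersion (CInt.fiberMap u g s) := fun s =>
    MorphismProperty.of_isPullback (P := @IsClosedImmersion)
      (SchBasics.FibreIso.isPullback_bc u g (S.fromSpecResidueField s)) inferInstance
  have hln : ∀ s : S, IsLocallyNoetherian (g.fiber s) := fun s => by
    have : LocallyOfFiniteType (g.fiberToSpecResidueField s) :=
      MorphismProperty.pullback_snd _ _ inferInstance
    exact LocallyOfFiniteType.isLocallyNoetherian (g.fiberToSpecResidueField s)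
  have key : ∀ (s : S) (w : (u ≫ g).fiber s),
      Near (CInt.fiberMap u g s) w ↔ FibReg u g ((u ≫ g).fiberι s w) := fun s w => by
    have := hci s
    have := hln s
    exact (CIT.regularNear_iff _ w).trans (isRegularIdeal_fiberMap_iff u g s w)
  constructor
  · rintro ⟨hflat, hreg⟩
    have h := fun y => (near_flat_iff u g y).1 ⟨near_of_regular u hreg y, (Flat.iff_flat_stalkMap _).1 hflat y⟩
    refine ⟨fun y => (h y).1, hflat, fun s => ?_⟩
    have := hci s
    exact regular_of_forall_near _ fun w => (key s w).2 (h _).2.2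
  · rintro ⟨hg, hflat, hreg⟩
    refine ⟨hflat, regular_of_forall_near u fun y => ?_⟩
    have h1 := (key _ ((u ≫ g).asFiber y)).1 (near_of_regular _ (hreg _) _)
    rw [Scheme.Hom.fiberι_asFiber] at h1
    exact ((near_flat_iff u g y).2 ⟨hg y, (Flat.iff_flat_stalkMap _).1 hflat y, h1⟩).1

theorem two_out_of_three_ring {A B C : Type u} [CommRing A] [CommRing B] [CommRing C] [IsLocalRing A] [IsLocalRing B]
    [Nontrivial C] (φ : A →+* B) (hφ : Function.Surjective φ) (ψ : B →+* C) (J : Ideal A) (JB : Ideal B)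
    (hJB : JB = J.map φ) (hJ : JB ≤ maximalIdeal B) [IsNoetherianRing (A ⧸ J)]
    (h1 : CInt.IsRegularIdeal ((RingHom.ker ψ).map (Ideal.Quotient.mk JB)))
    (h2 : CInt.IsRegularIdeal ((RingHom.ker (ψ.comp φ)).map (Ideal.Quotient.mk J))) :
    CInt.IsRegularIdeal ((RingHom.ker φ).map (Ideal.Quotient.mk J)) := by
  let φ' : A ⧸ J →+* B ⧸ JB := Ideal.quotientMap JB φ (Ideal.map_le_iff_le_comap.1 hJB.ge)
  have hsq : φ'.comp (Ideal.Quotient.mk J) = (Ideal.Quotient.mk JB).comp φ := RingHom.ext fun a => rfl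
  have hφ' : Function.Surjective φ' := fun b => by
    obtain ⟨b, rfl⟩ := Ideal.Quotient.mk_surjective b
    obtain ⟨a, rfl⟩ := hφ b
    exact ⟨Ideal.Quotient.mk J a, rfl⟩
  have hkφ : RingHom.ker φ' = (RingHom.ker φ).map (Ideal.Quotient.mk J) := by
    rw [← CIT.map_ker_comp (Ideal.Quotient.mk J) Ideal.Quotient.mk_surjective φ', hsq, ← RingHom.comap_ker,
      Ideal.mk_ker, hJB, Ideal.comap_map_of_surjective φ hφ, Ideal.map_sup, Ideal.map_quotient_self, bot_sup_eq]
    rfl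
  let K : Ideal (B ⧸ JB) := (RingHom.ker ψ).map (Ideal.Quotient.mk JB)
  let ψ' := Ideal.Quotient.mk K
  have hkψ : RingHom.ker ψ' = K := Ideal.mk_ker
  have hle : RingHom.ker φ ≤ RingHom.ker (ψ.comp φ) := fun a ha => by
    rw [RingHom.mem_ker, RingHom.comp_apply, RingHom.mem_ker.1 ha, map_zero]
  have hkc : RingHom.ker (ψ'.comp φ') = (RingHom.ker (ψ.comp φ)).map (Ideal.Quotient.mk J) := by
    rw [← RingHom.comap_ker, hkψ, show K = ((RingHom.ker (ψ.comp φ)).map (Ideal.Quotient.mk J)).map φ' by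
      rw [Ideal.map_map, hsq, ← Ideal.map_map, CIT.map_ker_comp φ hφ],
      Ideal.comap_map_of_surjective φ' hφ', sup_eq_left]
    exact hkφ.le.trans (Ideal.map_mono hle)
  have hK : K ≠ ⊤ := fun h => by
    have h3 := congrArg (Ideal.comap (Ideal.Quotient.mk JB)) h
    rw [Ideal.comap_map_of_surjective _ Ideal.Quotient.mk_surjective, Ideal.comap_top, ← RingHom.ker_eq_comap_bot,
      Ideal.mk_ker] at h3
    exact (maximalIdeal.isMaximal B).ne_top
      (top_le_iff.1 (h3.ge.trans (sup_le (le_maximalIdeal (RingHom.ker_ne_top ψ)) hJ)))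
  have hKn : Nontrivial ((B ⧸ JB) ⧸ K) := Ideal.Quotient.nontrivial_iff.2 hK
  have hJA : J ≤ maximalIdeal A := fun a ha => by
    rw [IsLocalRing.mem_maximalIdeal, mem_nonunits_iff]
    exact fun hu => (hJ (hJB ▸ Ideal.mem_map_of_mem φ ha)) (hu.map φ)
  have : Nontrivial (A ⧸ J) := Ideal.Quotient.nontrivial_iff.2 fun h =>
    (maximalIdeal.isMaximal A).ne_top (top_le_iff.1 (h.ge.trans hJA))
  have : IsLocalRing (A ⧸ J) := IsLocalRing.of_surjective' _ Ideal.Quotient.mk_surjective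
  exact hkφ ▸ ((CIT.comp_regular_iff φ' hφ' ψ').2 ⟨hkψ.symm ▸ h1, hkc.symm ▸ h2⟩).2

theorem fibJ_comp (i : Y ⟶ X) (g : X ⟶ S) (y : Y) :
    fibJ (i ≫ g) y = (fibJ g (i y)).map (i.stalkMap y).hom := by
  rw [fibJ, fibJ, Ideal.map_map, Scheme.Hom.stalkMap_comp]
  rfl

theorem fibJ_le (g : X ⟶ S) (x : X) : fibJ g x ≤ maximalIdeal (X.presheaf.stalk x) :=
  Ideal.map_le_iff_le_comap.2 fun a ha => by
    simp only [Ideal.mem_comap, IsLocalRing.mem_maximalIdeal, mem_nonunits_iff] at ha ⊢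
    exact fun hu => ha (isUnit_of_map_unit (g.stalkMap x).hom a hu)

theorem noetherian_quot_fibJ (g : X ⟶ S) [LocallyOfFiniteType g] (x : X) :
    IsNoetherianRing (X.presheaf.stalk x ⧸ fibJ g x) :=
  have := CIT.fiberStalk_noetherian g x
  isNoetherianRing_of_ringEquiv _ (CIT.fiberStalkEquiv g x).symm

theorem two_out_of_three {Z : Scheme.{u}} (p : X ⟶ S) [LocallyOfFinitePresentation p]
    (f : Y ⟶ X) (g : Z ⟶ Y) [IsClosedImmersion f] [IsClosedImmersion g] [LocallyOfFinitePresentation (f ≫ p)]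
    [LocallyOfFinitePresentation (g ≫ f ≫ p)] (z : ↥Z)
    (hZ : ∃ W : Z.Opens, z ∈ W ∧ Flat (W.ι ≫ g ≫ f ≫ p)) (hg : Near g z) (hgf : Near (g ≫ f) z) :
    (∃ W : Y.Opens, g z ∈ W ∧ Flat (W.ι ≫ f ≫ p)) ∧ Near f (g z) := by
  have hflat : ((g ≫ f ≫ p).stalkMap z).hom.Flat := (exists_flat_open (g ≫ f ≫ p) z).1 hZ
  have : LocallyOfFinitePresentation ((g ≫ f) ≫ p) := by rwa [Category.assoc]
  have hflat' : (((g ≫ f) ≫ p).stalkMap z).hom.Flat := by
    convert hflat using 0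
    rw [Category.assoc]
  obtain ⟨hY, -, h1⟩ := (near_flat_iff g (f ≫ p) z).1 ⟨hg, hflat⟩
  obtain ⟨hX, -, h2⟩ := (near_flat_iff (g ≫ f) p z).1 ⟨hgf, hflat'⟩
  have hX' : (p.stalkMap (f (g z))).hom.Flat := hX
  refine ⟨(exists_flat_open (f ≫ p) (g z)).2 hY, ((near_flat_iff f p (g z)).2 ⟨hX', hY, ?_⟩).1⟩
  have := noetherian_quot_fibJ p (f (g z))
  refine two_out_of_three_ring (f.stalkMap (g z)).hom (f.stalkMap_surjective (g z)) (g.stalkMap z).hom
    (fibJ p (f (g z))) _ (fibJ_comp f p (g z)) (fibJ_le _ _) h1 ?_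
  have h3 : RingHom.ker ((g ≫ f).stalkMap z).hom =
      RingHom.ker ((g.stalkMap z).hom.comp (f.stalkMap (g z)).hom) := by
    rw [Scheme.Hom.stalkMap_comp]; rfl
  exact h3 ▸ h2

theorem near_iff_ci (g : X ⟶ S) [Flat g] [LocallyOfFinitePresentation g]
    (f : Y ⟶ X) [IsClosedImmersion f] [Flat (f ≫ g)] [LocallyOfFinitePresentation (f ≫ g)] (y : ↥Y)
    [IsRegularLocalRing (CInt.fiberStalk g (f y))] :
    Near f y ↔ Pi1.IsCompleteIntersection (CInt.fiberStalk (f ≫ g) y) := by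
  have h1 := near_flat_iff f g y
  have hg : (g.stalkMap (f y)).hom.Flat := Flat.stalkMap g (f y)
  have hfg : ((f ≫ g).stalkMap y).hom.Flat := Flat.stalkMap (f ≫ g) y
  have h2 : Near f y ↔ FibReg f g y :=
    ⟨fun h => (h1.1 ⟨h, hfg⟩).2.2, fun h => (h1.2 ⟨hg, hfg, h⟩).1⟩
  rw [h2]
  let J := fibJ g (f y)
  have : IsRegularLocalRing (X.presheaf.stalk (f y) ⧸ J) :=
    IsRegularLocalRing.of_ringEquiv (CIT.fiberStalkEquiv g (f y)).symm
  let JY := fibJ (f ≫ g) y
  let φ : X.presheaf.stalk (f y) ⧸ J →+* Y.presheaf.stalk y ⧸ JY :=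
    Ideal.quotientMap JY (f.stalkMap y).hom (Ideal.map_le_iff_le_comap.1 (fibJ_comp f g y).ge)
  have hφ : Function.Surjective φ := fun b => by
    obtain ⟨b, rfl⟩ := Ideal.Quotient.mk_surjective b
    obtain ⟨a, rfl⟩ := f.stalkMap_surjective y b
    exact ⟨Ideal.Quotient.mk J a, rfl⟩
  have hk : RingHom.ker φ = (RingHom.ker (f.stalkMap y).hom).map (Ideal.Quotient.mk J) := by
    rw [← CIT.map_ker_comp (Ideal.Quotient.mk J) Ideal.Quotient.mk_surjective φ,
      show φ.comp (Ideal.Quotient.mk J) = (Ideal.Quotient.mk JY).comp (f.stalkMap y).hom from RingHom.ext fun a => rfl,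
      ← RingHom.comap_ker, Ideal.mk_ker, show JY = J.map (f.stalkMap y).hom from fibJ_comp f g y,
      Ideal.comap_map_of_surjective _ (f.stalkMap_surjective y), Ideal.map_sup, Ideal.map_quotient_self, bot_sup_eq]
    rfl
  have : Nontrivial (Y.presheaf.stalk y ⧸ JY) := Ideal.Quotient.nontrivial_iff.2 fun h =>
    (maximalIdeal.isMaximal _).ne_top (top_le_iff.1 (h.ge.trans (fibJ_le (f ≫ g) y)))
  have : IsLocalRing (Y.presheaf.stalk y ⧸ JY) := IsLocalRing.of_surjective' _ Ideal.Quotient.mk_surjective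
  have := noetherian_quot_fibJ (f ≫ g) y
  have := CIT.fiberStalk_noetherian (f ≫ g) y
  have h3 := CIT.isCompleteIntersection_iff_isRegularIdeal φ hφ
  rw [hk] at h3
  exact h3.symm.trans ⟨CIT.isCompleteIntersection_of_ringEquiv (CIT.fiberStalkEquiv (f ≫ g) y),
    CIT.isCompleteIntersection_of_ringEquiv (CIT.fiberStalkEquiv (f ≫ g) y).symm⟩

end Groth.Agent.CAlg9.TransRegUse
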