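import Mathlib

/-!
Discrete valuation rings, unramified over a given one and separable algebraic, with prescribed
algebraic residue field extension.
-/

set_option autoImplicit false
universe u

open IsLocalRing Polynomial

namespace Groth.Agent.CAlg9.UnramDVR

section

variable {O : Type u} [CommRing O] [IsDomain O] [IsDiscreteValuationRing O]
  {Ω : Type u} [Field Ω] [Algebra (FractionRing O) Ω]

variable (W : ValuationSubring Ω) (ϖ : Ω) {T : Type u} [Field T] (ρ : W →+* T) (E : Subfield T)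

/-- every non-zero element is a power of `ϖ` times a unit of `W` with residue in `E` -/
def Good (L : IntermediateField (FractionRing O) Ω) : Prop :=
  ∀ x ∈ L, x ≠ 0 → ∃ j : ℤ, ∃ u : W, IsUnit u ∧ x = ϖ ^ j * (u : Ω) ∧ ρ u ∈ E

variable {W ϖ ρ E}

theorem residue_mem (L : IntermediateField (FractionRing O) Ω) (hL : Good W ϖ ρ E L) (hϖW : ϖ ∈ W)
    (hρϖ : ρ ⟨ϖ, hϖW⟩ = 0) (hρ : ∀ u : W, IsUnit u ↔ ρ u ≠ 0) (hϖ0 : ϖ ≠ 0)
    (u : W) (hu : (u : Ω) ∈ L) : ρ u ∈ E := by
  by_cases h0 : ρ u = 0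
  · rw [h0]; exact zero_mem E
  obtain ⟨j, v, hv, he, hvE⟩ := hL u hu fun h => h0 (by
    rw [show u = 0 from Subtype.ext h, map_zero])
  rcases lt_trichotomy j 0 with hj | hj | hj
  · exfalso
    obtain ⟨m, rfl⟩ : ∃ m : ℕ, j = -((m + 1 : ℕ) : ℤ) := ⟨(-j - 1).toNat, by omega⟩
    have h1 : v = ⟨ϖ, hϖW⟩ ^ (m + 1) * u := by
      apply Subtype.ext
      show (v : Ω) = ϖ ^ (m + 1) * (u : Ω)
      rw [he, zpow_neg, zpow_natCast, ← mul_assoc, mul_inv_cancel₀ (pow_ne_zero _ hϖ0), one_mul]
    have := (hρ v).1 hv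
    rw [h1, map_mul, map_pow, hρϖ, zero_pow (Nat.succ_ne_zero m), zero_mul] at this
    exact this rfl
  · subst hj
    rw [show u = v from Subtype.ext (by rw [he, zpow_zero, one_mul])]
    exact hvE
  · exfalso
    obtain ⟨m, rfl⟩ : ∃ m : ℕ, j = ((m + 1 : ℕ) : ℤ) := ⟨(j - 1).toNat, by omega⟩
    apply h0
    rw [show u = ⟨ϖ, hϖW⟩ ^ (m + 1) * v from Subtype.ext (by rw [he, zpow_natCast]; rfl), map_mul, map_pow,
      hρϖ, zero_pow (Nat.succ_ne_zero m), zero_mul]

theorem good_residueField (L : IntermediateField (FractionRing O) Ω) (hϖW : ϖ ∈ W) (hϖL : ϖ ∈ L)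
    (hρ : ∀ u : W, IsUnit u ↔ ρ u ≠ 0) :
    ∃ F : Subfield T, ∀ a : T, a ∈ F ↔ ∃ u : W, (u : Ω) ∈ L ∧ ρ u = a := by
  let S : Subring W := L.toSubring.comap W.subtype
  refine ⟨{ S.map ρ with inv_mem' := ?_ }, fun a => ?_⟩
  · rintro _ ⟨u, hu, rfl⟩
    by_cases h : ρ u = 0
    · rw [h, inv_zero]; exact zero_mem (S.map ρ)
    · obtain ⟨v, hv⟩ := ((hρ u).2 h).exists_right_inv
      refine ⟨v, ?_, (inv_eq_of_mul_eq_one_right (by rw [← map_mul, hv, map_one])).symm⟩
      show (v : Ω) ∈ L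
      rw [show (v : Ω) = (u : Ω)⁻¹ from (inv_eq_of_mul_eq_one_right (by
        rw [← MulMemClass.coe_mul, hv]; rfl)).symm]
      exact L.inv_mem hu
  · exact ⟨fun ⟨u, hu, h⟩ => ⟨u, hu, h⟩, fun ⟨u, hu, h⟩ => ⟨u, hu, h⟩⟩

/-- residue computation of a polynomial in `α` -/
theorem aeval_eq_pow_mul_unit (L : IntermediateField (FractionRing O) Ω) (hL : Good W ϖ ρ E L)
    (hϖW : ϖ ∈ W) (hρϖ : ρ ⟨ϖ, hϖW⟩ = 0) (hρ : ∀ u : W, IsUnit u ↔ ρ u ≠ 0) (hϖ0 : ϖ ≠ 0)
    (hϖL : ϖ ∈ L) (F : Subfield T) (hF : ∀ a : T, a ∈ F ↔ ∃ u : W, (u : Ω) ∈ L ∧ ρ u = a)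
    (α : W) (hα : ρ α ∈ E) (n : ℕ) (hint : IsIntegral F (ρ α)) (hn : (minpoly F (ρ α)).natDegree = n)
    (r : L[X]) (hr : r ≠ 0) (hrn : r.natDegree < n) :
    ∃ j : ℤ, ∃ u : W, IsUnit u ∧ Polynomial.aeval (α : Ω) r = ϖ ^ j * (u : Ω) ∧ ρ u ∈ E := by
  classical
  have hc : ∀ i ∈ r.support, ∃ j : ℤ, ∃ u : W, IsUnit u ∧ ((r.coeff i : L) : Ω) = ϖ ^ j * (u : Ω) ∧ ρ u ∈ E :=
    fun i hi => hL _ (r.coeff i).2 (by simpa using Polynomial.mem_support_iff.1 hi)
  choose! j w hw hwe hwE using hc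
  obtain ⟨i0, hi0, hmin⟩ := Finset.exists_min_image r.support j (Polynomial.support_nonempty.2 hr)
  let c : ℕ → W := fun i => if i ∈ r.support then ⟨ϖ, hϖW⟩ ^ (j i - j i0).toNat * w i else 0
  have hcL : ∀ i, (c i : Ω) ∈ L := by
    intro i
    by_cases hi : i ∈ r.support
    · simp only [c, if_pos hi]
      show ϖ ^ (j i - j i0).toNat * (w i : Ω) ∈ L
      have : (w i : Ω) = (ϖ ^ j i)⁻¹ * ((r.coeff i : L) : Ω) := by
        rw [hwe i hi, ← mul_assoc, inv_mul_cancel₀ (zpow_ne_zero _ hϖ0), one_mul]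
      rw [this]
      exact L.mul_mem (pow_mem hϖL _) (L.mul_mem (L.inv_mem (zpow_mem hϖL _)) (r.coeff i).2)
    · simp only [c, if_neg hi]
      exact L.zero_mem
  have hcv : ∀ i, ((r.coeff i : L) : Ω) = ϖ ^ j i0 * (c i : Ω) := by
    intro i
    by_cases hi : i ∈ r.support
    · simp only [c, if_pos hi]
      show _ = ϖ ^ j i0 * (ϖ ^ (j i - j i0).toNat * (w i : Ω))
      rw [hwe i hi, ← mul_assoc, ← zpow_natCast ϖ, ← zpow_add₀ hϖ0, Int.toNat_of_nonneg (sub_nonneg.2 (hmin i hi))]
      congr 2; ring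
    · simp only [c, if_neg hi, ZeroMemClass.coe_zero, mul_zero]
      simp [Polynomial.notMem_support_iff.1 hi]
  let U : W := ∑ i ∈ Finset.range n, c i * α ^ i
  have hval : Polynomial.aeval (α : Ω) r = ϖ ^ j i0 * (U : Ω) := by
    rw [Polynomial.aeval_eq_sum_range' hrn]
    simp only [U]
    rw [show ((∑ i ∈ Finset.range n, c i * α ^ i : W) : Ω) = ∑ i ∈ Finset.range n, (c i : Ω) * (α : Ω) ^ i from
      map_sum W.subtype _ _, Finset.mul_sum]
    refine Finset.sum_congr rfl fun i _ => ?_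
    rw [Algebra.smul_def, show algebraMap L Ω (r.coeff i) = ((r.coeff i : L) : Ω) from rfl, hcv i, mul_assoc]
  have hcF : ∀ i, ρ (c i) ∈ F := fun i => (hF _).2 ⟨c i, hcL i, rfl⟩
  let P : F[X] := ∑ i ∈ Finset.range n, Polynomial.C ⟨ρ (c i), hcF i⟩ * Polynomial.X ^ i
  have hPU : ρ U = Polynomial.aeval (ρ α) P := by
    simp only [U, P, map_sum, map_mul, map_pow, Polynomial.aeval_C, Polynomial.aeval_X]
    rfl
  have hU0 : ρ U ≠ 0 := by
    rw [hPU]
    intro h0
    have hdeg : P.natDegree < n := by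
      refine lt_of_le_of_lt (Polynomial.natDegree_sum_le_of_forall_le _ _ (n := n - 1) fun i hi => ?_) (by omega)
      refine (Polynomial.natDegree_C_mul_X_pow_le _ _).trans ?_
      have := Finset.mem_range.1 hi
      omega
    have hi0n : i0 < n := (Polynomial.le_natDegree_of_mem_supp _ hi0).trans_lt hrn
    have hPc : P.coeff i0 = ⟨ρ (c i0), hcF i0⟩ := by
      simp only [P, Polynomial.finsetSum_coeff, Polynomial.coeff_C_mul, Polynomial.coeff_X_pow, mul_ite, mul_one, mul_zero]
      rw [Finset.sum_ite_eq, if_pos (Finset.mem_range.2 hi0n)]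
    have hP : P ≠ 0 := fun h => by
      rw [h, Polynomial.coeff_zero] at hPc
      have : ρ (c i0) = 0 := (congrArg Subtype.val hPc).symm
      refine (hρ _).1 ?_ this
      simp only [c, if_pos hi0, sub_self, Int.toNat_zero, pow_zero, one_mul]
      exact hw i0 hi0
    have := minpoly.degree_le_of_ne_zero F (ρ α) hP h0
    have := Polynomial.natDegree_le_natDegree this
    omega
  refine ⟨j i0, U, (hρ U).2 hU0, hval, ?_⟩
  simp only [U, map_sum, map_mul, map_pow]
  refine sum_mem fun i _ => mul_mem ?_ (pow_mem hα _)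
  exact residue_mem L hL hϖW hρϖ hρ hϖ0 (c i) (hcL i)

end

/-- **Unramified separable extensions with prescribed residue field.** -/
theorem exists_dvr (O : Type u) [CommRing O] [IsDomain O] [IsDiscreteValuationRing O]
    (k' : Type u) [Field k'] [Algebra (ResidueField O) k'] [Algebra.IsAlgebraic (ResidueField O) k'] :
    ∃ (OL : Type u) (_ : CommRing OL) (_ : IsDomain OL) (_ : IsDiscreteValuationRing OL) (φ : O →+* OL),
      Function.Injective φ ∧ IsLocalHom φ ∧
      Ideal.map φ (maximalIdeal O) = maximalIdeal OL ∧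
      (∃ e : ResidueField OL ≃+* k',
        ∀ a : O, e (residue OL (φ a)) = algebraMap (ResidueField O) k' (residue O a)) ∧
      ∀ x : OL, ∃ p : Polynomial O, (p.map (algebraMap O (FractionRing O))).Separable ∧ Polynomial.eval₂ φ x p = 0 := by
  classical
  let K := FractionRing O
  let Ω := AlgebraicClosure K
  let f : O →+* Ω := (algebraMap K Ω).comp (algebraMap O K)
  have hf : Function.Injective f := (algebraMap K Ω).injective.comp (IsFractionRing.injective O K)
  obtain ⟨W, hle, hlW⟩ := (LocalSubring.range f).exists_le_valuationSubring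
  have hfW : ∀ a, f a ∈ W := fun a => hle ⟨a, rfl⟩
  let i : O →+* W := f.codRestrict W hfW
  have hi : IsLocalHom i := ⟨fun a ha => by
    let R := (LocalSubring.range f).toSubring
    have hfa : f a ∈ R := ⟨a, rfl⟩
    have h1 : IsUnit (Subring.inclusion hle ⟨f a, hfa⟩) := ha
    obtain ⟨⟨_, b, rfl⟩, hb⟩ := (IsUnit.of_map (Subring.inclusion hle) _ h1).exists_right_inv
    exact IsUnit.of_mul_eq_one b (hf (by rw [map_mul, map_one]; exact congrArg Subtype.val hb))⟩
  obtain ⟨π, hπ⟩ := IsDiscreteValuationRing.exists_irreducible O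
  let ϖ : Ω := f π
  have hϖ0 : ϖ ≠ 0 := (map_ne_zero_iff f hf).2 hπ.ne_zero
  -- the residue map into an algebraically closed field
  let T := AlgebraicClosure (ResidueField W)
  let ρ : W →+* T := (algebraMap (ResidueField W) T).comp (residue W)
  have hρ : ∀ u : W, IsUnit u ↔ ρ u ≠ 0 := fun u => by
    simp only [ρ, RingHom.comp_apply, ne_eq, map_eq_zero, residue_eq_zero_iff, mem_maximalIdeal, mem_nonunits_iff, not_not]
  have hρϖ : ρ (i π) = 0 := not_ne_iff.1 fun h => hπ.not_isUnit (hi.map_nonunit π ((hρ _).2 h))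
  let : Algebra (ResidueField O) T := ((algebraMap (ResidueField W) T).comp (ResidueField.map i)).toAlgebra
  let ι : k' →ₐ[ResidueField O] T := IsAlgClosed.lift
  have hι : ∀ a : O, ι (algebraMap (ResidueField O) k' (residue O a)) = ρ (i a) := fun a => by
    rw [ι.commutes]; rfl
  let E : Subfield T := ι.toRingHom.fieldRange
  -- maximal good field
  have hbot : Good W ϖ ρ E (⊥ : IntermediateField K Ω) := by
    intro x hx hx0
    obtain ⟨q, rfl⟩ := IntermediateField.mem_bot.1 hx
    obtain ⟨a, b, hb, rfl⟩ := IsFractionRing.div_surjective O q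
    have hb0 : b ≠ 0 := nonZeroDivisors.ne_zero hb
    have ha0 : a ≠ 0 := fun h => hx0 (by rw [h, map_zero, zero_div, map_zero])
    obtain ⟨m, u, rfl⟩ := IsDiscreteValuationRing.eq_unit_mul_pow_irreducible ha0 hπ
    obtain ⟨l, v, rfl⟩ := IsDiscreteValuationRing.eq_unit_mul_pow_irreducible hb0 hπ
    refine ⟨(m : ℤ) - l, i (u * v⁻¹ : Oˣ), (Units.isUnit _).map i, ?_, ?_⟩
    · show algebraMap K Ω _ = ϖ ^ ((m : ℤ) - l) * f ((u * v⁻¹ : Oˣ) : O)
      rw [map_div₀, show algebraMap K Ω (algebraMap O K ((u : O) * π ^ m)) = f u * ϖ ^ m by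
          rw [← map_pow, ← map_mul]; rfl,
        show algebraMap K Ω (algebraMap O K ((v : O) * π ^ l)) = f v * ϖ ^ l by
          rw [← map_pow, ← map_mul]; rfl,
        zpow_sub₀ hϖ0, zpow_natCast, zpow_natCast]
      rw [Units.val_mul, map_mul, show f ((v⁻¹ : Oˣ) : O) = (f v)⁻¹ from map_units_inv f v]
      ring
    · exact ⟨algebraMap (ResidueField O) k' (residue O (u * v⁻¹ : Oˣ)), hι _⟩
  obtain ⟨L, ⟨hLs, hL⟩, hLmax⟩ : ∃ L, (L ≤ separableClosure K Ω ∧ Good W ϖ ρ E L) ∧
      ∀ L', L' ≤ separableClosure K Ω ∧ Good W ϖ ρ E L' → L ≤ L' → L' ≤ L := by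
    obtain ⟨L, -, hL⟩ := zorn_le_nonempty₀
      {L : IntermediateField K Ω | L ≤ separableClosure K Ω ∧ Good W ϖ ρ E L} (fun c hc hch L₀ hL₀ => by
        refine ⟨sSup c, ⟨sSup_le fun L hL => (hc hL).1, fun x hx hx0 => ?_⟩, fun L hL => le_sSup hL⟩
        have hx' : x ∈ ((sSup c : IntermediateField K Ω) : Set Ω) := hx
        rw [sSup_eq_iSup'] at hx'
        haveI : Nonempty c := ⟨⟨L₀, hL₀⟩⟩
        rw [IntermediateField.coe_iSup_of_directed hch.directed] at hx'
        obtain ⟨⟨L, hLc⟩, hxL⟩ := Set.mem_iUnion.1 hx'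
        exact (hc hLc).2 x hxL hx0)
      ⊥ ⟨bot_le, hbot⟩
    exact ⟨L, hL.1, fun L' h1 h2 => hL.2 h1 h2⟩
  have hfL : ∀ a, f a ∈ L := fun a => L.algebraMap_mem (algebraMap O K a)
  obtain ⟨F, hF⟩ := good_residueField (ρ := ρ) L (hfW π) (hfL π) hρ
  have hFE : ∀ a ∈ F, a ∈ E := fun a ha => by
    obtain ⟨u, hu, rfl⟩ := (hF a).1 ha
    exact residue_mem L hL (hfW π) hρϖ hρ hϖ0 u hu
  -- the residue field of `L` is everything
  have hEF : ∀ a ∈ E, a ∈ F := by
    rintro _ ⟨a, rfl⟩
    by_contra hna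
    have hOF : ∀ b : ResidueField O, algebraMap (ResidueField O) T b ∈ F := fun b => by
      obtain ⟨b, rfl⟩ := Ideal.Quotient.mk_surjective b
      exact (hF _).2 ⟨i b, hfL b, rfl⟩
    let : Algebra (ResidueField O) F := ((algebraMap (ResidueField O) T).codRestrict F hOF).toAlgebra
    have : IsScalarTower (ResidueField O) F T := IsScalarTower.of_algebraMap_eq fun _ => rfl
    have hint : IsIntegral F (ι.toRingHom a) :=
      ((Algebra.IsIntegral.isIntegral (R := ResidueField O) a).map ι).tower_top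
    let n := (minpoly F (ι.toRingHom a)).natDegree
    have hn2 : 2 ≤ n := (minpoly.two_le_natDegree_iff hint).2 fun h => hna (by
      obtain ⟨y, hy⟩ := h
      rw [← hy]; exact y.2)
    -- lift the minimal polynomial
    let S : Subring W := L.toSubring.comap W.subtype
    let σ : S →+* F := (ρ.comp S.subtype).codRestrict F fun u => (hF _).2 ⟨u, u.2, rfl⟩
    have hσ : Function.Surjective σ := fun b => by
      obtain ⟨u, hu, hub⟩ := (hF _).1 b.2
      exact ⟨⟨u, hu⟩, Subtype.ext hub⟩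
    obtain ⟨g0, hg0, hg0d, hg0m⟩ := Polynomial.lifts_and_degree_eq_and_monic
      (Polynomial.mem_lifts_of_surjective hσ (minpoly F (ι.toRingHom a))) (minpoly.monic hint)
    let p0 : S := ⟨i π, hfL π⟩
    have hp0 : σ p0 = 0 := Subtype.ext hρϖ
    have hg0n : g0.natDegree = n := Polynomial.natDegree_eq_natDegree hg0d
    let τ : S →+* L := (W.subtype.comp S.subtype).codRestrict L fun u => u.2
    obtain ⟨g, hgm, hgn, hgσ, hgd⟩ : ∃ g : S[X], g.Monic ∧ g.natDegree = n ∧
        g.map σ = minpoly F (ι.toRingHom a) ∧ derivative (g.map τ) ≠ 0 := by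
      by_cases hd : derivative (g0.map τ) ≠ 0
      · exact ⟨g0, hg0m, hg0n, hg0, hd⟩
      · have hlt : (Polynomial.C p0 * Polynomial.X).natDegree < g0.natDegree :=
          (show (Polynomial.C p0 * Polynomial.X).natDegree ≤ 1 by simpa using Polynomial.natDegree_C_mul_X_pow_le p0 1).trans_lt (by omega)
        refine ⟨g0 + Polynomial.C p0 * Polynomial.X, hg0m.add_of_left (Polynomial.degree_lt_degree hlt),
          by rw [Polynomial.natDegree_add_eq_left_of_natDegree_lt hlt, hg0n], ?_, ?_⟩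
        · rw [Polynomial.map_add, Polynomial.map_mul, Polynomial.map_C, hp0, map_zero, zero_mul, add_zero, hg0]
        · rw [Polynomial.map_add, derivative_add, not_not.1 hd, zero_add, Polynomial.map_mul, Polynomial.map_C,
            Polynomial.map_X, derivative_C_mul, derivative_X, mul_one, Ne, Polynomial.C_eq_zero]
          exact fun h => hϖ0 (congrArg Subtype.val h)
    -- a root with the given residue
    let gW : W[X] := g.map S.subtype
    have hgW : gW.Monic := hgm.map _
    have hsplit := IsAlgClosed.splits (gW.map W.subtype)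
    have hroots : ∀ x ∈ (gW.map W.subtype).roots, x ∈ W := by
      intro x hx
      have hx' : IsIntegral W x := ⟨gW, hgW, by
        rw [← Polynomial.eval_map]
        exact (Polynomial.mem_roots (hgW.map _).ne_zero).1 hx⟩
      obtain ⟨y, hy⟩ := IsIntegrallyClosed.isIntegral_iff.1 hx'
      exact hy ▸ y.2
    obtain ⟨α, hαr, hαa⟩ : ∃ α : W, (gW.map W.subtype).eval (α : Ω) = 0 ∧ ρ α = ι.toRingHom a := by
      let R := (gW.map W.subtype).roots.attach.map fun x => (⟨x.1, hroots x.1 x.2⟩ : W)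
      have hprod : gW = (R.map fun x => Polynomial.X - Polynomial.C x).prod := by
        apply Polynomial.map_injective W.subtype Subtype.val_injective
        rw [Polynomial.map_multiset_prod, Multiset.map_map]
        conv_lhs => rw [hsplit.eq_prod_roots_of_monic (hgW.map _)]
        simp only [R, Multiset.map_map, Function.comp_def, Polynomial.map_sub, Polynomial.map_X, Polynomial.map_C]
        exact congrArg Multiset.prod (Multiset.attach_map_val' _ _).symm
      have h0 : (gW.map ρ).eval (ι.toRingHom a) = 0 := by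
        have h1 : gW.map ρ = (g.map σ).map (algebraMap F T) := by
          rw [Polynomial.map_map, Polynomial.map_map]; rfl
        rw [h1, hgσ, Polynomial.eval_map_algebraMap]
        exact minpoly.aeval _ _
      rw [hprod, Polynomial.map_multiset_prod, Polynomial.eval_multiset_prod, Multiset.prod_eq_zero_iff] at h0
      simp only [Multiset.map_map, Multiset.mem_map, Function.comp_apply, Polynomial.map_sub, Polynomial.map_X,
        Polynomial.map_C, Polynomial.eval_sub, Polynomial.eval_X, Polynomial.eval_C, sub_eq_zero] at h0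
      obtain ⟨α, hα, hαa⟩ := h0
      refine ⟨α, ?_, hαa.symm⟩
      obtain ⟨x, -, rfl⟩ := Multiset.mem_map.1 hα
      exact (Polynomial.mem_roots (hgW.map _).ne_zero).1 x.2
    have hgL : Polynomial.aeval (α : Ω) (g.map τ) = 0 := by
      rw [← Polynomial.eval_map_algebraMap, Polynomial.map_map]
      rw [Polynomial.map_map] at hαr
      exact hαr
    have hαint : IsIntegral L (α : Ω) := ⟨g.map τ, hgm.map _, hgL⟩
    have hαE : ρ α ∈ E := ⟨a, hαa.symm⟩
    have hsmall : ∀ r : L[X], r ≠ 0 → r.natDegree < n →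
        ∃ j : ℤ, ∃ u : W, IsUnit u ∧ Polynomial.aeval (α : Ω) r = ϖ ^ j * (u : Ω) ∧ ρ u ∈ E := fun r hr hrn =>
      aeval_eq_pow_mul_unit L hL (hfW π) hρϖ hρ hϖ0 (hfL π) F hF α hαE n (hαa ▸ hint) (by rw [hαa]) r hr hrn
    have hgτn : (g.map τ).natDegree = n := by rw [hgm.natDegree_map, hgn]
    have hmin : minpoly L (α : Ω) = g.map τ := by
      refine (Polynomial.eq_of_monic_of_dvd_of_natDegree_le (minpoly.monic hαint) (hgm.map _)
        (minpoly.dvd _ _ hgL) ?_).symm
      rw [hgτn]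
      by_contra! hlt
      obtain ⟨j, u, hu, he, -⟩ := hsmall _ (minpoly.ne_zero hαint) hlt
      rw [minpoly.aeval, eq_comm, mul_eq_zero] at he
      rcases he with h | h
      · exact zpow_ne_zero j hϖ0 h
      · exact hu.ne_zero (Subtype.ext h)
    have hsep : IsSeparable L (α : Ω) := by
      have := (Polynomial.separable_iff_derivative_ne_zero (minpoly.irreducible hαint)).2 (by rw [hmin]; exact hgd)
      exact this
    let L' : IntermediateField K Ω := (IntermediateField.adjoin L {(α : Ω)}).restrictScalars K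
    have hLL' : L ≤ L' := fun x hx => (IntermediateField.adjoin L {(α : Ω)}).algebraMap_mem ⟨x, hx⟩
    have hαL' : (α : Ω) ∈ L' := IntermediateField.mem_adjoin_simple_self L (α : Ω)
    have hsL : Algebra.IsSeparable K L := by
      rw [Algebra.isSeparable_def]
      intro x
      have := hLs x.2
      rw [mem_separableClosure_iff, IsSeparable, ← IntermediateField.minpoly_eq] at this
      exact this
    have hsL' : L' ≤ separableClosure K Ω := by
      have := (IntermediateField.isSeparable_adjoin_simple_iff_isSeparable L Ω).2 hsep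
      intro x hx
      rw [mem_separableClosure_iff]
      refine IsSeparable.of_algebra_isSeparable_of_isSeparable K (E := L) ?_
      have h := Algebra.IsSeparable.isSeparable L (⟨x, hx⟩ : IntermediateField.adjoin L {(α : Ω)})
      rwa [IsSeparable, IntermediateField.minpoly_eq] at h
    have hL' : Good W ϖ ρ E L' := by
      intro x hx hx0
      have hx' : x ∈ Algebra.adjoin L {(α : Ω)} := by
        rw [← IntermediateField.adjoin_simple_toSubalgebra_of_isAlgebraic hαint.isAlgebraic]; exact hx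
      rw [Algebra.adjoin_singleton_eq_range_aeval] at hx'
      obtain ⟨r0, hr0⟩ := hx'
      let r := r0 %ₘ (g.map τ)
      have hr : Polynomial.aeval (α : Ω) r = x := by
        rw [Polynomial.aeval_modByMonic_eq_self_of_root hgL]; exact hr0
      have hr0' : r ≠ 0 := fun h => hx0 (by rw [← hr, h, map_zero])
      obtain ⟨j, u, hu, he, huE⟩ := hsmall r hr0' (by
        rw [← hgτn]
        exact Polynomial.natDegree_modByMonic_lt _ (hgm.map _) (fun h => by rw [h, Polynomial.natDegree_one] at hgτn; omega))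
      exact ⟨j, u, hu, hr ▸ he, huE⟩
    exact hna ((hF _).2 ⟨α, hLmax L' ⟨hsL', hL'⟩ hLL' hαL', hαa⟩)
  -- the ring
  let S : Subring W := L.toSubring.comap W.subtype
  let φ : O →+* S := i.codRestrict S hfL
  have hSunit : ∀ u : S, IsUnit (u : W) → IsUnit u := fun u hu => by
    obtain ⟨v, hv⟩ := hu.exists_right_inv
    have hvL : (v : Ω) ∈ L := by
      rw [show (v : Ω) = ((u : W) : Ω)⁻¹ from (inv_eq_of_mul_eq_one_right (by
        rw [← MulMemClass.coe_mul, hv]; rfl)).symm]
      exact L.inv_mem u.2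
    exact IsUnit.of_mul_eq_one ⟨v, hvL⟩ (Subtype.ext hv)
  have hfac : ∀ x : S, x ≠ 0 → ∃ m : ℕ, ∃ v : S, IsUnit v ∧ x = φ π ^ m * v := by
    intro x hx0
    obtain ⟨j, u, hu, he, -⟩ := hL ((x : W) : Ω) x.2 (fun h => hx0 (Subtype.ext (Subtype.ext h)))
    have hj : 0 ≤ j := by
      by_contra! hj
      obtain ⟨m, rfl⟩ : ∃ m : ℕ, j = -((m + 1 : ℕ) : ℤ) := ⟨(-j - 1).toNat, by omega⟩
      have h1 : u = i π ^ (m + 1) * (x : W) := by
        apply Subtype.ext
        show (u : Ω) = ϖ ^ (m + 1) * ((x : W) : Ω)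
        rw [he, zpow_neg, zpow_natCast, ← mul_assoc, mul_inv_cancel₀ (pow_ne_zero _ hϖ0), one_mul]
      have := (hρ u).1 hu
      rw [h1, map_mul, map_pow, hρϖ, zero_pow (Nat.succ_ne_zero m), zero_mul] at this
      exact this rfl
    obtain ⟨m, rfl⟩ := Int.eq_ofNat_of_zero_le hj
    have huL : (u : Ω) ∈ L := by
      rw [show (u : Ω) = (ϖ ^ m)⁻¹ * ((x : W) : Ω) by
        rw [he, zpow_natCast, ← mul_assoc, inv_mul_cancel₀ (pow_ne_zero _ hϖ0), one_mul]]
      exact L.mul_mem (L.inv_mem (pow_mem (hfL π) _)) x.2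
    exact ⟨m, ⟨u, huL⟩, hSunit _ hu, Subtype.ext (Subtype.ext (by rw [he, zpow_natCast]; rfl))⟩
  have hπ0 : φ π ≠ 0 := fun h => hϖ0 (congrArg (fun s : S => ((s : W) : Ω)) h)
  have hπu : ¬ IsUnit (φ π) := fun h => hπ.not_isUnit (hi.map_nonunit π (h.map S.subtype))
  have hirr : Irreducible (φ π) := by
    refine ⟨hπu, fun a b hab => ?_⟩
    have ha0 : a ≠ 0 := fun h => hπ0 (by rw [hab, h, zero_mul])
    have hb0 : b ≠ 0 := fun h => hπ0 (by rw [hab, h, mul_zero])
    obtain ⟨m, v, hv, rfl⟩ := hfac a ha0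
    obtain ⟨l, w, hw, rfl⟩ := hfac b hb0
    rcases m with _ | m
    · left; simpa using hv
    rcases l with _ | l
    · right; simpa using hw
    exfalso
    apply hπu
    refine IsUnit.of_mul_eq_one (φ π ^ (m + l) * (v * w)) ?_
    refine mul_left_cancel₀ hπ0 ?_
    rw [mul_one]
    conv_rhs => rw [hab]
    ring
  have hdvr : IsDiscreteValuationRing S :=
    IsDiscreteValuationRing.ofHasUnitMulPowIrreducibleFactorization ⟨φ π, hirr, fun {x} hx => by
      obtain ⟨m, v, hv, rfl⟩ := hfac x hx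
      exact ⟨m, associated_mul_unit_right _ _ hv⟩⟩
  refine ⟨S, inferInstance, inferInstance, hdvr, φ, fun a b h => hf (congrArg (fun s : S => ((s : W) : Ω)) h),
    ⟨fun a ha => hi.map_nonunit a (ha.map S.subtype)⟩, ?_, ?_, ?_⟩
  · rw [(IsDiscreteValuationRing.irreducible_iff_uniformizer π).1 hπ, Ideal.map_span, Set.image_singleton,
      ← (IsDiscreteValuationRing.irreducible_iff_uniformizer (φ π)).1 hirr]
  · let σ : S →+* E := (ρ.comp S.subtype).codRestrict E fun u => hFE _ ((hF _).2 ⟨u, u.2, rfl⟩)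
    have hσ : Function.Surjective σ := fun b => by
      obtain ⟨u, hu, hub⟩ := (hF _).1 (hEF _ b.2)
      exact ⟨⟨u, hu⟩, Subtype.ext hub⟩
    have hker : RingHom.ker σ = maximalIdeal S := by
      refine le_antisymm (IsLocalRing.le_maximalIdeal (RingHom.ker_ne_top σ)) fun u hu => ?_
      rw [RingHom.mem_ker]
      refine Subtype.ext ?_
      show ρ u = 0
      by_contra h
      exact (mem_maximalIdeal u).1 hu (hSunit u ((hρ _).2 h))
    let e1 : ResidueField S ≃+* E :=
      (Ideal.quotEquivOfEq hker.symm).trans (RingHom.quotientKerEquivOfSurjective hσ)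
    let e2 : k' ≃+* E := RingEquiv.ofBijective ι.toRingHom.rangeRestrictField
      ⟨fun x y h => ι.toRingHom.injective (congrArg Subtype.val h), fun ⟨_, y, hy⟩ => ⟨y, Subtype.ext hy⟩⟩
    refine ⟨e1.trans e2.symm, fun a => ?_⟩
    rw [RingEquiv.trans_apply, RingEquiv.symm_apply_eq]
    exact Subtype.ext (hι a).symm
  · intro x
    have hs : IsSeparable K ((x : W) : Ω) := mem_separableClosure_iff.1 (hLs x.2)
    let q := minpoly K ((x : W) : Ω)
    obtain ⟨b, hbm, hb⟩ := IsLocalization.integerNormalization_spec (nonZeroDivisors O) q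
    refine ⟨IsLocalization.integerNormalization (nonZeroDivisors O) q, ?_, ?_⟩
    · rw [hb, Algebra.smul_def, Polynomial.algebraMap_apply]
      have hb0 : algebraMap O K b ≠ 0 := IsLocalization.to_map_ne_zero_of_mem_nonZeroDivisors K le_rfl hbm
      exact Polynomial.Separable.unit_mul (Polynomial.isUnit_C.2 (Ne.isUnit hb0)) hs
    · apply Subtype.ext
      apply Subtype.ext
      have := IsLocalization.integerNormalization_aeval_eq_zero (nonZeroDivisors O) q (minpoly.aeval K ((x : W) : Ω))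
      refine Eq.trans ?_ this
      show (W.subtype.comp S.subtype) (Polynomial.eval₂ φ x _) = _
      rw [Polynomial.hom_eval₂, Polynomial.aeval_def]
      rfl

end Groth.Agent.CAlg9.UnramDVR
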