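import Mathlib.RingTheory.WittVector.StructurePolynomial
import Mathlib.RingTheory.WittVector.Defs
import Mathlib.RingTheory.MvPolynomial.WeightedHomogeneous
import Mathlib.Algebra.Algebra.Operations

namespace Groth.Agent.CAlg9

open MvPolynomial

variable {R : Type*} [CommRing R] {σ τ : Type*}

theorem isWeightedHomogeneous_bind₁ {w : σ → ℕ} {w' : τ → ℕ} {φ : MvPolynomial σ R} {D c : ℕ}
    (hφ : IsWeightedHomogeneous w φ D) (f : σ → MvPolynomial τ R)
    (hf : ∀ i, IsWeightedHomogeneous w' (f i) (w i * c)) :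
    IsWeightedHomogeneous w' (bind₁ f φ) (D * c) := by
  rw [φ.as_sum, map_sum]
  refine IsWeightedHomogeneous.sum _ _ _ fun d hd => ?_
  rw [bind₁_monomial]
  have hD : ∑ i ∈ d.support, d i • (w i * c) = D * c := by
    rw [← hφ (mem_support_iff.mp hd), Finsupp.weight_apply, Finsupp.sum, Finset.sum_mul]
    exact Finset.sum_congr rfl fun i _ => by simp [mul_assoc]
  rw [← zero_add (D * c), ← hD]
  exact (isWeightedHomogeneous_C w' _).mul
    (IsWeightedHomogeneous.prod _ _ _ fun i _ => (hf i).pow (d i))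

theorem isWeightedHomogeneous_of_C_mul {w : σ → ℕ} {φ : MvPolynomial σ ℤ} {a : ℤ} (ha : a ≠ 0)
    {D : ℕ} (h : IsWeightedHomogeneous w (C a * φ) D) : IsWeightedHomogeneous w φ D :=
  fun d hd => h (by rw [coeff_C_mul]; exact mul_ne_zero ha hd)

theorem wittStructureInt_isWeightedHomogeneous {idx : Type*} (p : ℕ) [hp : Fact p.Prime]
    (w : idx → ℕ) (Φ : MvPolynomial idx ℤ) (hΦ : IsWeightedHomogeneous w Φ 1) (n : ℕ) :
    IsWeightedHomogeneous (fun i : idx × ℕ => w i.1 * p ^ i.2) (wittStructureInt p Φ n) (p ^ n) := by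
  induction n using Nat.strong_induction_on with
  | _ n ih =>
    set W : idx × ℕ → ℕ := fun i => w i.1 * p ^ i.2
    have hW : ∀ b, IsWeightedHomogeneous W
        (rename (fun i => (b, i)) (wittPolynomial p ℤ n)) (w b * p ^ n) := fun b => by
      rw [wittPolynomial_eq_sum_C_mul_X_pow, map_sum]
      refine IsWeightedHomogeneous.sum _ _ _ fun i hi => ?_
      rw [map_mul, rename_C, map_pow (rename _), rename_X]
      have e : w b * p ^ n = 0 + p ^ (n - i) • W (b, i) := by
        simp only [W, smul_eq_mul, zero_add]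
        rw [mul_left_comm, ← pow_add,
          Nat.sub_add_cancel (Nat.lt_succ_iff.mp (Finset.mem_range.mp hi))]
      rw [e]
      exact (isWeightedHomogeneous_C W _).mul ((isWeightedHomogeneous_X ℤ W (b, i)).pow _)
    have h1 : IsWeightedHomogeneous W
        (bind₁ (wittStructureInt p Φ) (wittPolynomial p ℤ n)) (p ^ n) := by
      rw [wittStructureInt_prop]
      have := isWeightedHomogeneous_bind₁ hΦ _ hW
      rwa [one_mul] at this
    rw [wittPolynomial_eq_sum_C_mul_X_pow, map_sum, Finset.sum_range_succ] at h1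
    have h2 : IsWeightedHomogeneous W (∑ i ∈ Finset.range n,
        bind₁ (wittStructureInt p Φ) (C ((p : ℤ) ^ i) * X i ^ p ^ (n - i))) (p ^ n) := by
      refine IsWeightedHomogeneous.sum _ _ _ fun i hi => ?_
      have hin := Finset.mem_range.mp hi
      rw [map_mul, bind₁_C_right, map_pow (bind₁ _), bind₁_X_right]
      have e : p ^ n = 0 + p ^ (n - i) • p ^ i := by
        rw [smul_eq_mul, zero_add, ← pow_add, Nat.sub_add_cancel hin.le]
      rw [e]
      exact (isWeightedHomogeneous_C W _).mul ((ih i hin).pow _)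
    have h3 := h1.sub h2
    rw [add_sub_cancel_left, Nat.sub_self, pow_zero, pow_one, map_mul, bind₁_C_right,
      bind₁_X_right] at h3
    exact isWeightedHomogeneous_of_C_mul (pow_ne_zero _ (Int.natCast_ne_zero.mpr hp.out.ne_zero)) h3

section eval

variable {A K : Type*} [CommRing A] [CommRing K] [Algebra A K] (M : ℕ → Submodule A K)

/-- Filtration predicate: degree zero means coming from the base ring. -/
def InDeg (d : ℕ) (x : K) : Prop :=
  if d = 0 then x ∈ (algebraMap A K).range else x ∈ M d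

variable {M}

theorem InDeg.mul (hmul : ∀ (i j : ℕ) (a b : K), a ∈ M i → b ∈ M j → a * b ∈ M (i + j))
    {i j : ℕ} {x y : K} (hx : InDeg M i x) (hy : InDeg M j y) : InDeg M (i + j) (x * y) := by
  rcases Nat.eq_zero_or_pos i with hi | hi <;> rcases Nat.eq_zero_or_pos j with hj | hj
  · subst hi hj
    simp only [InDeg, add_zero, if_true] at hx hy ⊢
    exact mul_mem hx hy
  · subst hi
    simp only [InDeg, zero_add, if_true, hj.ne', if_false] at hx hy ⊢
    obtain ⟨a, rfl⟩ := hx
    rw [← Algebra.smul_def]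
    exact Submodule.smul_mem _ _ hy
  · subst hj
    simp only [InDeg, add_zero, if_true, hi.ne', if_false] at hx hy ⊢
    obtain ⟨a, rfl⟩ := hy
    rw [mul_comm, ← Algebra.smul_def]
    exact Submodule.smul_mem _ _ hx
  · have hij : i + j ≠ 0 := by omega
    simp only [InDeg, if_neg hi.ne', if_neg hj.ne', if_neg hij] at hx hy ⊢
    exact hmul _ _ _ _ hx hy

theorem InDeg.one : InDeg M 0 (1 : K) := by
  simp only [InDeg, if_true]
  exact one_mem _

theorem InDeg.pow (hmul : ∀ (i j : ℕ) (a b : K), a ∈ M i → b ∈ M j → a * b ∈ M (i + j))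
    {i : ℕ} {x : K} (hx : InDeg M i x) (e : ℕ) : InDeg M (e * i) (x ^ e) := by
  induction e with
  | zero => simpa using InDeg.one (M := M)
  | succ e ih =>
    rw [pow_succ, Nat.succ_mul]
    exact InDeg.mul hmul ih hx

theorem aeval_mem_of_isWeightedHomogeneous
    (hmul : ∀ (i j : ℕ) (a b : K), a ∈ M i → b ∈ M j → a * b ∈ M (i + j))
    {w : σ → ℕ} {φ : MvPolynomial σ ℤ} {D : ℕ} (hD : D ≠ 0) (hφ : IsWeightedHomogeneous w φ D)
    (v : σ → K) (hv : ∀ i, InDeg M (w i) (v i)) : aeval v φ ∈ M D := by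
  rw [φ.as_sum, map_sum]
  refine Submodule.sum_mem _ fun d hd => ?_
  rw [aeval_monomial, ← Algebra.smul_def]
  refine zsmul_mem ?_ _
  have key : ∀ s : Finset σ,
      InDeg M (∑ i ∈ s, d i * w i) (∏ i ∈ s, v i ^ d i) := by
    classical
    intro s
    induction s using Finset.induction with
    | empty => simpa using InDeg.one (M := M)
    | insert a s ha ih =>
      rw [Finset.sum_insert ha, Finset.prod_insert ha]
      exact InDeg.mul hmul (InDeg.pow hmul (hv a) _) ih
  have h := key d.support
  have hw : ∑ i ∈ d.support, d i * w i = D := by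
    rw [← hφ (mem_support_iff.mp hd), Finsupp.weight_apply, Finsupp.sum]
    simp
  rw [hw] at h
  simpa [InDeg, hD, Finsupp.prod] using h

end eval

end Groth.Agent.CAlg9
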